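import Cfsg.Agent.Lib.LocalEven.RankOneFF.Natural
import Cfsg.Agent.Lib.LocalEven.StronglyEmbedded
import Cfsg.Agent.Lib.Fusion.Offender
import Cfsg.Prelude.Def_LocalEven
import Cfsg.Prelude.Def_Amalgam

/-!
From subgroups of a finite group acting by conjugation on an elementary abelian normalized subgroup to the
module setting of `RankOneFF`.
-/

set_option autoImplicit false
set_option linter.unusedSectionVars false
set_option linter.style.haveILetI false

open scoped IsMulCommutative commutatorElement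

namespace CfsgLib.LocalEven.RankOneFF

open Cfsg CfsgLib.LocalEven.SylowIn CfsgLib.LocalEven.StronglyEmbedded
open CfsgLib.Fusion.ReplacementEA (wt)

variable {G : Type*} [Group G] {V H : Subgroup G}

theorem conj_mem_of_le_normalizer (hHV : H ≤ Subgroup.normalizer (V : Set G)) (k : H) (v : V) :
    (k : G) * (v : G) * (k : G)⁻¹ ∈ V :=
  (Subgroup.mem_normalizer_iff.1 (hHV k.2) v).1 v.2

section

variable [IsMulCommutative V]

/-- Conjugation as an action by additive endomorphisms. -/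
def conjV (hHV : H ≤ Subgroup.normalizer (V : Set G)) : H →* AddMonoid.End (Additive V) where
  toFun k :=
    { toFun := fun v => Additive.ofMul
        (⟨(k : G) * ((Additive.toMul v : V) : G) * (k : G)⁻¹, conj_mem_of_le_normalizer hHV k _⟩ : V)
      map_zero' := congrArg Additive.ofMul (Subtype.ext
        (show (k : G) * ((1 : V) : G) * (k : G)⁻¹ = ((1 : V) : G) by simp))
      map_add' := fun v w => congrArg Additive.ofMul (Subtype.ext
        (show (k : G) * ((Additive.toMul v : V) * (Additive.toMul w : V) : G) * (k : G)⁻¹ =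
          ((k : G) * ((Additive.toMul v : V) : G) * (k : G)⁻¹) * ((k : G) * ((Additive.toMul w : V) : G) * (k : G)⁻¹)
          by group)) }
  map_one' := AddMonoidHom.ext fun v => congrArg Additive.ofMul (Subtype.ext
    (show ((1 : H) : G) * ((Additive.toMul v : V) : G) * ((1 : H) : G)⁻¹ = ((Additive.toMul v : V) : G) by simp))
  map_mul' k k' := AddMonoidHom.ext fun v => congrArg Additive.ofMul (Subtype.ext
    (show ((k : G) * (k' : G)) * ((Additive.toMul v : V) : G) * ((k : G) * (k' : G))⁻¹ =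
      (k : G) * ((k' : G) * ((Additive.toMul v : V) : G) * (k' : G)⁻¹) * (k : G)⁻¹ by group))

theorem coe_conjV (hHV : H ≤ Subgroup.normalizer (V : Set G)) (k : H) (v : Additive V) :
    ((Additive.toMul (conjV hHV k v) : V) : G) = (k : G) * ((Additive.toMul v : V) : G) * (k : G)⁻¹ := rfl

theorem conjV_eq_self (hHV : H ≤ Subgroup.normalizer (V : Set G)) (k : H) (v : Additive V) :
    conjV hHV k v = v ↔ (k : G) * ((Additive.toMul v : V) : G) = ((Additive.toMul v : V) : G) * (k : G) := by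
  rw [← Additive.toMul.injective.eq_iff, Subtype.ext_iff, coe_conjV, mul_inv_eq_iff_eq_mul]

theorem coe_conjV_sub (hHV : H ≤ Subgroup.normalizer (V : Set G)) (k : H) (v : Additive V) :
    ((Additive.toMul (conjV hHV k v - v) : V) : G) = ⁅(k : G), ((Additive.toMul v : V) : G)⁆ := by
  rw [toMul_sub, Subgroup.coe_div, coe_conjV, commutatorElement_def, div_eq_mul_inv]

/-- The fixed points are the vectors centralized by the subgroup. -/
theorem mem_fx_conjV (hHV : H ≤ Subgroup.normalizer (V : Set G)) (B : Subgroup H) (v : Additive V) :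
    v ∈ fx (conjV hHV) B ↔ ((Additive.toMul v : V) : G) ∈ Subgroup.centralizer ((B.map H.subtype : Subgroup G) : Set G) := by
  rw [mem_fx, Subgroup.mem_centralizer_iff]
  constructor
  · rintro hv _ ⟨b, hb, rfl⟩
    exact (conjV_eq_self hHV b v).1 (hv b hb)
  · exact fun hv b hb => (conjV_eq_self hHV b v).2 (hv _ (Subgroup.mem_map_of_mem H.subtype hb))

theorem card_fx_conjV (hHV : H ≤ Subgroup.normalizer (V : Set G)) (B : Subgroup H) :
    Nat.card (fx (conjV hHV) B) =
      Nat.card (V ⊓ Subgroup.centralizer ((B.map H.subtype : Subgroup G) : Set G) : Subgroup G) :=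
  Nat.card_congr
    { toFun := fun v => ⟨((Additive.toMul (v : Additive V) : V) : G), (Additive.toMul (v : Additive V)).2,
        (mem_fx_conjV hHV B v).1 v.2⟩
      invFun := fun x => ⟨Additive.ofMul (⟨x.1, x.2.1⟩ : V), (mem_fx_conjV hHV B _).2 x.2.2⟩
      left_inv := fun v => rfl
      right_inv := fun x => rfl }

theorem ambient_conjV {p : ℕ} (hV : IsElementaryAbelian p V) (hHV : H ≤ Subgroup.normalizer (V : Set G))
    (hf : H ⊓ Subgroup.centralizer (V : Set G) = ⊥) : Ambient (conjV hHV) p where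
  faithful := (injective_iff_map_eq_one _).2 fun k hk => by
    refine Subtype.ext ((Subgroup.mem_bot).1 (hf ▸ Subgroup.mem_inf.2 ⟨k.2, ?_⟩))
    rw [Subgroup.mem_centralizer_iff]
    intro v hv
    exact ((conjV_eq_self hHV k (Additive.ofMul (⟨v, hv⟩ : V))).1 (by rw [hk]; rfl)).symm
  exponent v := by
    refine Additive.toMul.injective (Subtype.ext ?_)
    rw [toMul_nsmul, Subgroup.coe_pow]
    exact hV.2 _ (Additive.toMul v).2

/-- A quadratic offender inside a subgroup of `H`. -/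
theorem off_conjV (hHV : H ≤ Subgroup.normalizer (V : Set G)) {B : Subgroup G} (hBH : B ≤ H) (hne : B ≠ ⊥)
    (hquad : B ≤ Subgroup.centralizer ((⁅V, B⁆ : Subgroup G) : Set G))
    (hoff : Nat.card V ≤ wt V B) : Off (conjV hHV) (B.subgroupOf H) := by
  have hmap : (B.subgroupOf H).map H.subtype = B := by
    rw [Subgroup.map_subgroupOf_eq_of_le hBH]
  refine ⟨fun e => hne ?_, fun a ha b hb v => ?_, ?_⟩
  · rw [← hmap, e, Subgroup.map_bot]
  · rw [conjV_eq_self, coe_conjV_sub]
    have hmem : ⁅(b : G), ((Additive.toMul v : V) : G)⁆ ∈ ⁅V, B⁆ := by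
      rw [Subgroup.commutator_comm]
      exact Subgroup.commutator_mem_commutator hb (Additive.toMul v).2
    exact (Subgroup.mem_centralizer_iff.1 (hquad ha) _ hmem).symm
  · rw [card_fx_conjV, hmap, Nat.card_congr (Subgroup.subgroupOfEquivOfLe hBH).toEquiv,
      Nat.card_congr Additive.toMul]
    exact hoff

end

variable [Finite G]

/-- A minimal subgroup of an offender with maximal weight is a quadratic offender. -/
theorem exists_quadratic_max {p : ℕ} [Fact p.Prime] (hV : IsElementaryAbelian p V)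
    (hHV : H ≤ Subgroup.normalizer (V : Set G)) (hf : H ⊓ Subgroup.centralizer (V : Set G) = ⊥)
    {A₀ : Subgroup G} (hA₀ : A₀ ≤ H) (hab : ⁅A₀, A₀⁆ ≤ Subgroup.centralizer (V : Set G))
    (hpow : ∀ a ∈ A₀, a ^ p ∈ Subgroup.centralizer (V : Set G)) (hne : A₀ ≠ ⊥)
    (hoff : Nat.card V ≤ wt V A₀) :
    ∃ B ≤ A₀, B ≠ ⊥ ∧ B ≤ Subgroup.centralizer ((⁅V, B⁆ : Subgroup G) : Set G) ∧ wt V A₀ ≤ wt V B := by
  classical
  haveI := Fintype.ofFinite (Subgroup G)
  let Q : Subgroup G → Prop := fun B => B ≤ A₀ ∧ B ≠ ⊥ ∧ ∀ C ≤ A₀, wt V C ≤ wt V B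
  have hex : ∃ B, Q B := by
    obtain ⟨B, hB, hmax⟩ := (Finset.univ.filter fun B : Subgroup G => B ≤ A₀ ∧ B ≠ ⊥).exists_max_image
      (wt V) ⟨A₀, by simp [hne]⟩
    simp only [Finset.mem_filter, Finset.mem_univ, true_and] at hB hmax
    refine ⟨B, hB.1, hB.2, fun C hC => ?_⟩
    by_cases h0 : C = ⊥
    · subst h0
      refine le_trans (le_trans ?_ hoff) (hmax A₀ ⟨le_rfl, hne⟩)
      rw [wt, Subgroup.card_bot, one_mul]
      exact Subgroup.card_le_of_le inf_le_left
    · exact hmax C ⟨hC, h0⟩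
  obtain ⟨B, hB, hmin⟩ := (Finset.univ.filter Q).exists_min_image (fun B : Subgroup G => Nat.card B)
    (hex.imp fun B hB => by simp [hB])
  simp only [Finset.mem_filter, Finset.mem_univ, true_and] at hB hmin
  obtain ⟨hBA, hBne, hBmax⟩ := hB
  haveI := hV.1
  have hVc : ∀ x ∈ V, ∀ y ∈ V, x * y = y * x := fun x hx y hy =>
    congrArg Subtype.val (mul_comm (⟨x, hx⟩ : V) ⟨y, hy⟩)
  have hBN : B ≤ Subgroup.normalizer (V : Set G) := hBA.trans (hA₀.trans hHV)
  have hBab : ⁅B, B⁆ ≤ Subgroup.centralizer (V : Set G) := (Subgroup.commutator_mono hBA hBA).trans hab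
  obtain ⟨hw, hC⟩ := CfsgLib.Fusion.Offender.replacement hVc hBN hBab (fun C hC => hBmax C (hC.trans hBA))
    (le_refl V)
  have hB' : B ⊓ Subgroup.centralizer ((⁅V, B⁆ : Subgroup G) : Set G) ≠ ⊥ := by
    intro e
    rw [e] at hC
    have hle : V ≤ ⁅V, B⁆ ⊔ (V ⊓ Subgroup.centralizer (B : Set G)) := by
      rw [← hC]
      exact le_inf le_rfl fun x _ => Subgroup.mem_centralizer_iff.2 fun y hy => by
        rw [Subgroup.mem_bot.1 hy, one_mul, mul_one]
    have hVp : IsPGroup p V := fun v => ⟨1, Subtype.ext (by rw [pow_one]; exact hV.2 v v.2)⟩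
    have h0 := CfsgLib.Fusion.Offender.commutator_eq_bot_of_le hVp hVc hBN (fun a ha => hpow a (hBA ha)) hle
    rw [Subgroup.commutator_eq_bot_iff_le_centralizer] at h0
    refine hBne (eq_bot_iff.2 (hf ▸ le_inf (hBA.trans hA₀) fun b hb => ?_))
    exact Subgroup.mem_centralizer_iff.2 fun v hv => (Subgroup.mem_centralizer_iff.1 (h0 hv) b hb).symm
  refine ⟨B, hBA, hBne, ?_, hBmax _ le_rfl⟩
  have := hmin _ ⟨inf_le_left.trans hBA, hB', fun C hC => (hBmax C hC).trans hw.ge⟩
  exact (Subgroup.eq_of_le_of_card_ge inf_le_left this).ge.trans inf_le_right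

/-- An offender contains a quadratic offender. -/
theorem exists_quadratic {p : ℕ} [Fact p.Prime] (hV : IsElementaryAbelian p V)
    (hHV : H ≤ Subgroup.normalizer (V : Set G)) (hf : H ⊓ Subgroup.centralizer (V : Set G) = ⊥)
    {A₀ : Subgroup G} (hA₀ : A₀ ≤ H) (hab : ⁅A₀, A₀⁆ ≤ Subgroup.centralizer (V : Set G))
    (hpow : ∀ a ∈ A₀, a ^ p ∈ Subgroup.centralizer (V : Set G)) (hne : A₀ ≠ ⊥)
    (hoff : Nat.card V ≤ wt V A₀) :
    ∃ B ≤ A₀, B ≠ ⊥ ∧ B ≤ Subgroup.centralizer ((⁅V, B⁆ : Subgroup G) : Set G) ∧ Nat.card V ≤ wt V B :=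
  let ⟨B, h1, h2, h3, h4⟩ := exists_quadratic_max hV hHV hf hA₀ hab hpow hne hoff
  ⟨B, h1, h2, h3, hoff.trans h4⟩

/-- A strongly `p`-embedded subgroup gives the data, after moving the offender into it. -/
theorem exists_setup {W : Type*} [AddCommGroup W] [Finite W] {K : Type*} [Group K] [Finite K] {p : ℕ}
    [Fact p.Prime] {ρ : K →* AddMonoid.End W} (hA : Ambient ρ p) {X B : Subgroup K}
    (hX : IsStronglyPEmbedded p X) (hB : Off ρ B)
    (hgen : Subgroup.closure {x : K | ∃ k : ℕ, orderOf x = p ^ k} = ⊤) :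
    ∃ A : Subgroup K, Setup ρ p ⊤ X A := by
  obtain ⟨T, hTX, -, hm⟩ := spe_basic hX
  obtain ⟨P, hP⟩ := (hB.isPGroup hA).exists_le_sylow
  obtain ⟨g, hg⟩ := MulAction.exists_smul_eq K P T
  refine ⟨cj g B, ?_, le_top, hX.2.1, fun y _ x hx hx1 ⟨k, hk⟩ hyx => ?_,
    fun x _ => ?_, hB.cj ρ g⟩
  · intro x hx
    refine hTX ?_
    rw [← hg]
    exact Subgroup.map_mono hP hx
  · obtain ⟨j, rfl⟩ : ∃ j, k = j + 1 := Nat.exists_eq_succ_of_ne_zero fun e => hx1 (by
      rwa [e, pow_zero, orderOf_eq_one_iff] at hk)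
    have hxp : orderOf (x ^ p ^ j) = p := by
      have hdvd : p ^ j ∣ orderOf x := hk ▸ pow_dvd_pow p (Nat.le_succ j)
      rw [orderOf_pow' x (pow_ne_zero _ (Fact.out : p.Prime).ne_zero), Nat.gcd_eq_right hdvd, hk, pow_succ,
        Nat.mul_div_cancel_left _ (pow_pos (Fact.out : p.Prime).pos j)]
    refine hm _ y (pow_mem hx _) hxp ?_
    rw [← MulAut.conj_apply, map_pow]
    exact pow_mem hyx _
  · have : x ∈ Subgroup.closure {x : K | ∃ k : ℕ, orderOf x = p ^ k} := hgen ▸ Subgroup.mem_top x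
    refine Subgroup.closure_mono ?_ this
    exact fun z hz => ⟨Subgroup.mem_top z, hz⟩

/-- Generation by `p`-elements, inside the subgroup. -/
theorem closure_pow_eq_top {p : ℕ} (hgen : pElementClosure p H = H) :
    Subgroup.closure {x : H | ∃ k : ℕ, orderOf x = p ^ k} = ⊤ := by
  refine Subgroup.map_injective H.subtype_injective ?_
  rw [MonoidHom.map_closure, ← MonoidHom.range_eq_map, Subgroup.range_subtype]
  refine Eq.trans ?_ hgen
  unfold pElementClosure
  congr 1
  ext x
  constructor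
  · rintro ⟨y, ⟨k, hk⟩, rfl⟩
    exact ⟨y.2, k, (Subgroup.orderOf_coe y).trans hk⟩
  · rintro ⟨hx, k, hk⟩
    exact ⟨⟨x, hx⟩, ⟨k, (Subgroup.orderOf_mk _ hx).trans hk⟩, rfl⟩

end CfsgLib.LocalEven.RankOneFF
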