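import Cfsg.Agent.Lib.LocalEven.SylowIn
import Mathlib

/-!
Quadratic offenders in a group with a strongly `p`-embedded subgroup, inside the subgroups of a fixed group `H`
acting on an additive group `V`: basic definitions.
-/

set_option autoImplicit false
set_option linter.unusedSectionVars false

namespace CfsgLib.LocalEven.RankOneFF

open CfsgLib.LocalEven.SylowIn

variable {H : Type*} [Group H] {V : Type*} [AddCommGroup V] (ρ : H →* AddMonoid.End V)

/-- Conjugate of a subgroup. -/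
abbrev cj (g : H) (A : Subgroup H) : Subgroup H := A.map (MulAut.conj g).toMonoidHom

theorem cj_cj (g k : H) (A : Subgroup H) : cj g (cj k A) = cj (g * k) A := map_conj_conj A g k

theorem cj_one (A : Subgroup H) : cj (1 : H) A = A := map_conj_one A

theorem mem_cj {A : Subgroup H} {g x : H} : x ∈ cj g A ↔ g⁻¹ * x * g ∈ A := mem_map_conj

theorem conj_mem_cj {A : Subgroup H} (g : H) {x : H} (hx : x ∈ A) : g * x * g⁻¹ ∈ cj g A := by
  rw [mem_cj]; simpa [mul_assoc] using hx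

theorem cj_le {A K : Subgroup H} {g : H} (hA : A ≤ K) (hg : g ∈ K) : cj g A ≤ K := by
  intro x hx
  have := mul_mem (mul_mem hg (hA (mem_cj.1 hx))) (inv_mem hg)
  simpa [mul_assoc] using this

theorem card_cj (g : H) (A : Subgroup H) : Nat.card (cj g A) = Nat.card A :=
  Subgroup.card_map_of_injective (MulAut.conj g).injective

theorem act_mul (x y : H) (v : V) : ρ (x * y) v = ρ x (ρ y v) := by rw [map_mul]; rfl

theorem act_one (v : V) : ρ (1 : H) v = v := by rw [map_one]; rfl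

theorem act_inv (x : H) (v : V) : ρ x⁻¹ (ρ x v) = v := by rw [← act_mul, inv_mul_cancel, act_one]

theorem act_inv' (x : H) (v : V) : ρ x (ρ x⁻¹ v) = v := by rw [← act_mul, mul_inv_cancel, act_one]

theorem act_inj (x : H) {v w : V} (h : ρ x v = ρ x w) : v = w := by
  rw [← act_inv ρ x v, h, act_inv]

/-- The fixed points of a subgroup. -/
def fx (A : Subgroup H) : AddSubgroup V where
  carrier := {v | ∀ a ∈ A, ρ a v = v}
  zero_mem' := fun a _ => map_zero _
  add_mem' := fun {v w} hv hw a ha => by rw [map_add, hv a ha, hw a ha]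
  neg_mem' := fun {v} hv a ha => by rw [map_neg, hv a ha]

theorem mem_fx {A : Subgroup H} {v : V} : v ∈ fx ρ A ↔ ∀ a ∈ A, ρ a v = v := Iff.rfl

/-- The stabiliser of a vector. -/
def stab (v : V) : Subgroup H where
  carrier := {x | ρ x v = v}
  one_mem' := act_one ρ v
  mul_mem' := fun {x y} hx hy => by
    show ρ (x * y) v = v
    rw [act_mul, show ρ y v = v from hy, show ρ x v = v from hx]
  inv_mem' := fun {x} hx => by
    show ρ x⁻¹ v = v
    conv_lhs => rw [← (show ρ x v = v from hx)]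
    exact act_inv ρ x v

theorem mem_fx_iff_le {A : Subgroup H} {v : V} : v ∈ fx ρ A ↔ A ≤ stab ρ v := Iff.rfl

theorem fx_anti {A B : Subgroup H} (h : A ≤ B) : fx ρ B ≤ fx ρ A := fun _ hv a ha => hv a (h ha)

theorem fx_sup (A B : Subgroup H) : fx ρ (A ⊔ B) = fx ρ A ⊓ fx ρ B :=
  le_antisymm (le_inf (fx_anti ρ le_sup_left) (fx_anti ρ le_sup_right)) fun _ hv =>
    (mem_fx_iff_le ρ).2 (sup_le ((mem_fx_iff_le ρ).1 hv.1) ((mem_fx_iff_le ρ).1 hv.2))

theorem mem_fx_zpowers {x : H} {v : V} : v ∈ fx ρ (Subgroup.zpowers x) ↔ ρ x v = v := by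
  rw [mem_fx_iff_le, Subgroup.zpowers_le]; rfl

theorem act_mem_fx {A : Subgroup H} {v : V} (g : H) (hv : v ∈ fx ρ A) : ρ g v ∈ fx ρ (cj g A) := by
  intro a ha
  have := hv _ (mem_cj.1 ha)
  rw [← act_mul, show a * g = g * (g⁻¹ * a * g) by group, act_mul, this]

theorem card_fx_cj (g : H) (A : Subgroup H) : Nat.card (fx ρ (cj g A)) = Nat.card (fx ρ A) := by
  refine (Nat.card_congr ?_).symm
  exact
    { toFun := fun v => ⟨ρ g v, act_mem_fx ρ g v.2⟩
      invFun := fun v => ⟨ρ g⁻¹ v, by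
        have := act_mem_fx ρ g⁻¹ v.2
        rwa [cj_cj, inv_mul_cancel, cj_one] at this⟩
      left_inv := fun v => Subtype.ext (act_inv ρ g v)
      right_inv := fun v => Subtype.ext (act_inv' ρ g v) }

/-- A quadratic offender. -/
structure Off (A : Subgroup H) : Prop where
  ne_bot : A ≠ ⊥
  quad : ∀ a ∈ A, ∀ b ∈ A, ∀ v, ρ a (ρ b v - v) = ρ b v - v
  off : Nat.card V ≤ Nat.card A * Nat.card (fx ρ A)

theorem Off.cj {A : Subgroup H} (h : Off ρ A) (g : H) : Off ρ (cj g A) := by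
  refine ⟨fun e => h.ne_bot ?_, fun a ha b hb v => ?_, ?_⟩
  · exact (Subgroup.map_eq_bot_iff_of_injective _ (MulAut.conj g).injective).1 e
  · have := h.quad _ (mem_cj.1 ha) _ (mem_cj.1 hb) (ρ g⁻¹ v)
    have e1 : ρ (g⁻¹ * b * g) (ρ g⁻¹ v) - ρ g⁻¹ v = ρ g⁻¹ (ρ b v - v) := by
      rw [map_sub, ← act_mul, ← act_mul]; congr 2; group
    rw [e1, ← act_mul, show g⁻¹ * a * g * g⁻¹ = g⁻¹ * a by group, act_mul] at this
    exact act_inj ρ _ this
  · rw [card_cj, card_fx_cj]; exact h.off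

/-- The commutator with `A` is additive in `A`. -/
theorem Off.comm_mul {A : Subgroup H} (h : Off ρ A) {a b : H} (ha : a ∈ A) (hb : b ∈ A) (v : V) :
    ρ (a * b) v - v = (ρ a v - v) + (ρ b v - v) := by
  have := h.quad a ha b hb v
  rw [map_sub] at this
  rw [act_mul, eq_add_of_sub_eq this]
  abel

theorem Off.comm_inv {A : Subgroup H} (h : Off ρ A) {a : H} (ha : a ∈ A) (v : V) :
    ρ a⁻¹ v - v = -(ρ a v - v) := by
  have := h.comm_mul ρ (inv_mem ha) ha v
  rw [inv_mul_cancel, act_one, sub_self] at this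
  exact eq_neg_of_add_eq_zero_left this.symm

theorem Off.comm_mem_fx {A : Subgroup H} (h : Off ρ A) {a : H} (ha : a ∈ A) (v : V) : ρ a v - v ∈ fx ρ A :=
  fun b hb => h.quad b hb a ha v

/-- The data: a group `K`, a strongly embedded subgroup `X` and a quadratic offender `A` in it. -/
structure Setup (p : ℕ) (K X A : Subgroup H) : Prop where
  hAX : A ≤ X
  hXK : X ≤ K
  ne : X ≠ K
  ti : ∀ g ∈ K, ∀ x ∈ X, x ≠ 1 → (∃ k : ℕ, orderOf x = p ^ k) → g * x * g⁻¹ ∈ X → g ∈ X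
  gen : K ≤ Subgroup.closure {x | x ∈ K ∧ ∃ k : ℕ, orderOf x = p ^ k}
  off : Off ρ A

variable {ρ} {p : ℕ} {K X A : Subgroup H}

theorem Setup.hAK (h : Setup ρ p K X A) : A ≤ K := h.hAX.trans h.hXK

theorem Setup.rebase (h : Setup ρ p K X A) {g : H} (hg : g ∈ K) : Setup ρ p K (RankOneFF.cj g X) (RankOneFF.cj g A) where
  hAX := Subgroup.map_mono h.hAX
  hXK := cj_le h.hXK hg
  ne e := h.ne (le_antisymm h.hXK fun x hx => by
    have := mem_cj.1 (e.symm ▸ (mul_mem (mul_mem hg hx) (inv_mem hg)) : g * x * g⁻¹ ∈ RankOneFF.cj g X)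
    simpa [mul_assoc] using this)
  ti y hy x hx hx1 hxp hyx := by
    rw [mem_cj] at hx hyx ⊢
    refine h.ti _ (mul_mem (mul_mem (inv_mem hg) hy) hg) _ hx ?_ ?_ ?_
    · intro e
      exact hx1 (by rw [show x = g * (g⁻¹ * x * g) * g⁻¹ by group, e]; group)
    · obtain ⟨k, hk⟩ := hxp
      refine ⟨k, ?_⟩
      rw [← hk]
      have := MulEquiv.orderOf_eq (MulAut.conj g⁻¹) x
      simpa using this
    · rwa [show g⁻¹ * y * g * (g⁻¹ * x * g) * (g⁻¹ * y * g)⁻¹ = g⁻¹ * (y * x * y⁻¹) * g by group]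
  gen := h.gen
  off := h.off.cj ρ g

theorem Setup.restrict (h : Setup ρ p K X A) {L : Subgroup H} (hLK : L ≤ K) (hAL : A ≤ L) {x : H} (hx : x ∈ L)
    (hxX : x ∉ X) (hgen : L ≤ Subgroup.closure {x | x ∈ L ∧ ∃ k : ℕ, orderOf x = p ^ k}) :
    Setup ρ p L (X ⊓ L) A where
  hAX := le_inf h.hAX hAL
  hXK := inf_le_right
  ne e := hxX (show x ∈ X ⊓ L by rw [e]; exact hx).1
  ti g hg y hy hy1 hyp hgy := ⟨h.ti g (hLK hg) y hy.1 hy1 hyp hgy.1, hg⟩
  gen := hgen
  off := h.off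

/-- What is proved about a setup. -/
structure Concl (ρ : H →* AddMonoid.End V) (p : ℕ) (K A : Subgroup H) : Prop where
  cover : ∀ P : Subgroup H, P ≤ K → IsPGroup p P → ∃ k ∈ K, P ≤ cj k A
  count : Nat.card {D : Subgroup H // ∃ k ∈ K, D = cj k A} = Nat.card A + 1
  gen : ∀ k₁ ∈ K, ∀ k₂ ∈ K, cj k₁ A ≠ cj k₂ A → cj k₁ A ⊔ cj k₂ A = K
  fix : ∀ a ∈ A, a ≠ 1 → ∀ v, ρ a v = v → v ∈ fx ρ A

end CfsgLib.LocalEven.RankOneFF
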