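import Cfsg.Agent.Lib.LocalEven.RankOneFF.SpreadMain
import Mathlib.LinearAlgebra.Matrix.SpecialLinearGroup

/-!
Two mutually inverse additive spread sets give field coordinates on the underlying group.
-/

set_option autoImplicit false
set_option linter.unusedSectionVars false
set_option linter.style.haveILetI false

namespace CfsgLib.LocalEven.RankOneFF

/-- A bare carrier for a field. -/
structure Carrier (n : ℕ) : Type where
  /-- The index. -/
  idx : Fin n

variable {U : Type*} [AddCommGroup U] [Finite U] [Nontrivial U]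

theorem exists_coord {p : ℕ} [Fact p.Prime] (hp : ∀ u : U, p • u = 0) (S T : AddSubgroup (AddMonoid.End U))
    (hone : (1 : AddMonoid.End U) ∈ S) (hinj : ∀ f ∈ S, ∀ u : U, u ≠ 0 → f u = 0 → f = 0)
    (hinv : ∀ f ∈ S, f ≠ 0 → ∃ y ∈ T, f * y = 1 ∧ y * f = 1) (hS : Nat.card S = Nat.card U)
    (hT : Nat.card T ≤ Nat.card U) :
    ∃ (F : Type) (_ : Field F) (_ : Fintype F) (ι : U ≃+ F), Fintype.card F = Nat.card U ∧ S = T ∧
      (∀ f ∈ S, ∃ c : F, ∀ u, ι (f u) = c * ι u) ∧ (∀ c : F, ∃ f ∈ S, ∀ u, ι (f u) = c * ι u) := by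
  classical
  haveI : Finite (AddMonoid.End U) := Finite.of_injective (fun f => (f : U → U)) DFunLike.coe_injective
  have hone' : (1 : AddMonoid.End U) ≠ 0 := fun e => by
    obtain ⟨u, hu⟩ := exists_ne (0 : U)
    exact hu (congrArg (fun f : AddMonoid.End U => f u) e)
  choose iv hivT hiv using hinv
  let φ : S → T := fun x => if hx : (x : AddMonoid.End U) = 0 then 0 else ⟨iv x x.2 hx, hivT _ _ hx⟩
  have hφ0 : ∀ (x : S) (hx : (x : AddMonoid.End U) ≠ 0), (φ x : AddMonoid.End U) = iv x x.2 hx := fun x hx =>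
    congrArg Subtype.val (dif_neg hx)
  have hφz : ∀ x : S, (x : AddMonoid.End U) = 0 → (φ x : AddMonoid.End U) = 0 := fun x hx =>
    congrArg Subtype.val (dif_pos hx)
  have hφne : ∀ (x : S), (x : AddMonoid.End U) ≠ 0 → (φ x : AddMonoid.End U) ≠ 0 := fun x hx e => by
    have h1 := (hiv _ x.2 hx).1
    rw [← hφ0 x hx, e, mul_zero] at h1
    exact hone' h1.symm
  have hφ : Function.Injective φ := by
    intro x x' e
    have e' : (φ x : AddMonoid.End U) = φ x' := congrArg Subtype.val e
    by_cases hx : (x : AddMonoid.End U) = 0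
    · by_cases hx' : (x' : AddMonoid.End U) = 0
      · exact Subtype.ext (hx.trans hx'.symm)
      · exact absurd (e'.symm.trans (hφz x hx)) (hφne x' hx')
    · by_cases hx' : (x' : AddMonoid.End U) = 0
      · exact absurd (e'.trans (hφz x' hx')) (hφne x hx)
      · refine Subtype.ext ?_
        rw [hφ0 x hx, hφ0 x' hx'] at e'
        calc (x : AddMonoid.End U) = (x : AddMonoid.End U) * (iv x' x'.2 hx' * x') := by
              rw [(hiv _ x'.2 hx').2, mul_one]
          _ = ((x : AddMonoid.End U) * iv x x.2 hx) * x' := by rw [← e', mul_assoc]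
          _ = _ := by rw [(hiv _ x.2 hx).1, one_mul]
  have hcard : Nat.card T = Nat.card S := le_antisymm (hT.trans hS.ge) (Nat.card_le_card_of_injective φ hφ)
  have hφs : Function.Surjective φ := ((Nat.bijective_iff_injective_and_card φ).2 ⟨hφ, hcard.symm⟩).2
  have hT0 : ∀ y ∈ T, y ≠ 0 → ∃ x ∈ S, x ≠ 0 ∧ x * y = 1 ∧ y * x = 1 := by
    intro y hy hy0
    obtain ⟨x, hx⟩ := hφs ⟨y, hy⟩
    have hx' : (φ x : AddMonoid.End U) = y := congrArg Subtype.val hx
    by_cases hx0 : (x : AddMonoid.End U) = 0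
    · exact absurd (hx'.symm.trans (hφz x hx0)) hy0
    · refine ⟨x, x.2, hx0, ?_⟩
      rw [← hx', hφ0 x hx0]
      exact hiv _ x.2 hx0
  -- Hua's identity
  have hua : ∀ a ∈ S, ∀ b ∈ T, a * b * a ∈ S := by
    intro a ha b hb
    by_cases ha0 : a = 0
    · simp [ha0, zero_mem]
    by_cases hb0 : b = 0
    · simp [hb0, zero_mem]
    obtain ⟨b', hb', -, hb'b, hbb'⟩ := hT0 b hb hb0
    by_cases hab : a = b'
    · rw [hab, hb'b, one_mul]
      exact hb'
    have hd : b' - a ∈ S := sub_mem hb' ha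
    have hd0 : b' - a ≠ 0 := sub_ne_zero.2 (Ne.symm hab)
    obtain ⟨xa, hxa⟩ : ∃ y, y = iv a ha ha0 := ⟨_, rfl⟩
    have haa' : a * xa = 1 := hxa ▸ (hiv a ha ha0).1
    have ha'a : xa * a = 1 := hxa ▸ (hiv a ha ha0).2
    obtain ⟨d', hdd'e⟩ : ∃ y, y = iv _ hd hd0 := ⟨_, rfl⟩
    have hdd' : (b' - a) * d' = 1 := hdd'e ▸ (hiv _ hd hd0).1
    have hd'd : d' * (b' - a) = 1 := hdd'e ▸ (hiv _ hd hd0).2
    have hc : xa + d' = xa * b' * d' := by
      calc xa + d' = xa * ((b' - a) * d') + (xa * a) * d' := by rw [hdd', ha'a, mul_one, one_mul]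
        _ = _ := by noncomm_ring
    have hcinv : (xa + d') * ((b' - a) * b * a) = 1 := by
      rw [hc]
      calc xa * b' * d' * ((b' - a) * b * a) = xa * b' * (d' * (b' - a)) * b * a := by simp only [mul_assoc]
        _ = xa * (b' * b) * a := by rw [hd'd, mul_one]; simp only [mul_assoc]
        _ = 1 := by rw [hb'b, mul_one, ha'a]
    have hc0 : xa + d' ≠ 0 := fun e => by rw [e, zero_mul] at hcinv; exact hone' hcinv.symm
    obtain ⟨x, hx, -, hxc, -⟩ := hT0 _ (add_mem (hxa ▸ hivT a ha ha0) (hdd'e ▸ hivT _ hd hd0)) hc0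
    have hxe : (b' - a) * b * a = x := by
      calc (b' - a) * b * a = (x * (xa + d')) * ((b' - a) * b * a) := by rw [hxc, one_mul]
        _ = x * ((xa + d') * ((b' - a) * b * a)) := mul_assoc _ _ _
        _ = x := by rw [hcinv, mul_one]
    have e : a * b * a = a - x := by
      rw [← hxe, sub_mul, sub_mul, hb'b, one_mul, sub_sub_cancel]
    rw [e]
    exact sub_mem ha hx
  have hST : S = T := (AddSubgroup.eq_of_le_of_card_ge (fun b hb => by simpa using hua 1 hone b hb) hcard.ge).symm
  have hspread : SpreadField.Spread S :=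
    ⟨hone, fun f hf u hu hfu => hinj f hf u hu hfu, fun a ha b hb => hua a ha b (hST ▸ hb)⟩
  obtain ⟨R, hR, hRc⟩ := SpreadField.exists_field hp hspread
  letI : CommRing R := { (inferInstance : Ring R) with mul_comm := fun x y => Subtype.ext (hRc _ x.2 _ y.2) }
  haveI : Nontrivial R := ⟨⟨0, 1, fun e => hone' (congrArg Subtype.val e).symm⟩⟩
  haveI : NoZeroDivisors R := ⟨fun {x y} e => by
    exact (hspread.mul_eq_zero ((hR _).1 x.2) (congrArg Subtype.val e)).imp (fun h => Subtype.ext h)
      fun h => Subtype.ext h⟩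
  haveI : IsDomain R := NoZeroDivisors.to_isDomain R
  letI : Field R := (Finite.isDomain_to_isField R).toField
  letI : Fintype R := Fintype.ofFinite R
  let e₀ : Carrier (Fintype.card R) ≃ R :=
    ⟨fun c => (Fintype.equivFin R).symm c.idx, fun x => ⟨Fintype.equivFin R x⟩,
      fun c => by simp, fun x => by simp⟩
  letI instF : Field (Carrier (Fintype.card R)) := e₀.field
  letI : Fintype (Carrier (Fintype.card R)) := Fintype.ofEquiv R e₀.symm
  let r : Carrier (Fintype.card R) ≃+* R := e₀.ringEquiv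
  have hRcard : Nat.card R = Nat.card U := (Nat.card_congr (Equiv.subtypeEquivRight hR)).trans hS
  obtain ⟨u₀, hu₀⟩ := exists_ne (0 : U)
  let ev : Carrier (Fintype.card R) →+ U :=
    { toFun := fun c => (r c : AddMonoid.End U) u₀
      map_zero' := by rw [map_zero]; rfl
      map_add' := fun c d => by rw [map_add]; rfl }
  have hev : Function.Bijective ev := by
    refine (Nat.bijective_iff_injective_and_card _).2 ⟨(injective_iff_map_eq_zero _).2 fun c hc => ?_, ?_⟩
    · exact r.injective (Subtype.ext ((hspread.inj _ ((hR _).1 (r c).2) u₀ hu₀ hc).trans (by rw [map_zero]; rfl)))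
    · rw [Nat.card_congr r.toEquiv, hRcard]
  let ι : U ≃+ Carrier (Fintype.card R) := (AddEquiv.ofBijective ev hev).symm
  have h1 : ∀ w, ev (ι w) = w := fun w => (AddEquiv.ofBijective ev hev).apply_symm_apply w
  have hι : ∀ (c : Carrier (Fintype.card R)) (u : U), ι ((r c : AddMonoid.End U) u) = c * ι u := by
    intro c u
    apply hev.1
    rw [h1]
    show (r c : AddMonoid.End U) u = (r (c * ι u) : AddMonoid.End U) u₀
    rw [map_mul]
    show (r c : AddMonoid.End U) u = (r c : AddMonoid.End U) (ev (ι u))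
    rw [h1]
  refine ⟨_, instF, inferInstance, ι, ?_, hST, fun f hf => ⟨r.symm ⟨f, (hR f).2 hf⟩, fun u => ?_⟩,
    fun c => ⟨r c, (hR _).1 (r c).2, hι c⟩⟩
  · rw [← Nat.card_eq_fintype_card, Nat.card_congr r.toEquiv, hRcard]
  · rw [← hι, RingEquiv.apply_symm_apply]

end CfsgLib.LocalEven.RankOneFF
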