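import Cfsg.Agent.Lib.LocalEven.RankOneFF.Glue
import Mathlib.GroupTheory.Sylow

/-!
A minimal parabolic generated by any two conjugates of a strict quadratic offender from different conjugates of
its maximal subgroup gives two offenders in general position.
-/

set_option autoImplicit false
set_option linter.unusedSectionVars false
set_option linter.style.haveILetI false

namespace CfsgLib.LocalEven.RankOneFF

open CfsgLib.LocalEven.SylowIn

variable {H : Type*} [Group H] [Finite H] {V : Type*} [AddCommGroup V] [Finite V] {p : ℕ} [Fact p.Prime]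
  {ρ : H →* AddMonoid.End V} {M A : Subgroup H} {T : Sylow p H}

/-- The data. -/
structure MinPair (ρ : H →* AddMonoid.End V) (M A : Subgroup H) (T : Sylow p H) : Prop where
  off : Off ρ A
  strict : ∀ A₀ ≤ A, A₀ ≠ ⊥ → A₀ ≠ A →
    Nat.card A₀ * Nat.card (fx ρ A₀) < Nat.card A * Nat.card (fx ρ A)
  hAM : A ≤ M
  hTM : (T : Subgroup H) ≤ M
  ne_top : M ≠ ⊤
  unique : ∀ L : Subgroup H, (T : Subgroup H) ≤ L → L ≠ ⊤ → L ≤ M
  not_normal : ¬ (T : Subgroup H).Normal
  gen : ∀ x : H, x ∉ M → A ⊔ cj x A = ⊤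
  moved : ∃ v ∈ fx ρ (T : Subgroup H), v ∉ fx ρ (⊤ : Subgroup H)

theorem cj_top (g : H) : cj g (⊤ : Subgroup H) = ⊤ :=
  eq_top_iff.2 fun x _ => mem_cj.2 (Subgroup.mem_top _)

theorem cj_sup (g : H) (A B : Subgroup H) : cj g (A ⊔ B) = cj g A ⊔ cj g B := Subgroup.map_sup _ _ _

theorem le_cj_iff {A B : Subgroup H} {g : H} : cj g A ≤ B ↔ A ≤ cj g⁻¹ B := by
  constructor
  · intro h
    have := Subgroup.map_mono (f := (MulAut.conj g⁻¹).toMonoidHom) h
    rwa [show ((cj g A).map (MulAut.conj g⁻¹).toMonoidHom) = A by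
      show cj g⁻¹ (cj g A) = A
      rw [cj_cj, inv_mul_cancel, cj_one]] at this
  · intro h
    have := Subgroup.map_mono (f := (MulAut.conj g).toMonoidHom) h
    rwa [show ((cj g⁻¹ B).map (MulAut.conj g).toMonoidHom) = B by
      show cj g (cj g⁻¹ B) = B
      rw [cj_cj, mul_inv_cancel, cj_one]] at this

theorem cj_ne_top {g : H} {B : Subgroup H} (h : B ≠ ⊤) : cj g B ≠ ⊤ := fun e => h (by
  have := congrArg (cj g⁻¹) e
  rwa [cj_cj, inv_mul_cancel, cj_one, cj_top] at this)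

theorem act_fx_cj_iff {B : Subgroup H} {g : H} {v : V} : v ∈ fx ρ (cj g B) ↔ ρ g⁻¹ v ∈ fx ρ B := by
  constructor
  · intro hv
    have := act_mem_fx ρ g⁻¹ hv
    rwa [cj_cj, inv_mul_cancel, cj_one] at this
  · intro hv
    have := act_mem_fx ρ g hv
    rwa [act_inv'] at this

theorem act_fx_top {g : H} {v : V} : ρ g v ∈ fx ρ (⊤ : Subgroup H) ↔ v ∈ fx ρ (⊤ : Subgroup H) := by
  have h := act_fx_cj_iff (ρ := ρ) (B := (⊤ : Subgroup H)) (g := g) (v := ρ g v)
  rwa [cj_top, act_inv] at h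

theorem isPGroup_of_pow_eq_one {K : Type*} [Group K] {p : ℕ} {x : K} (hx : x ^ p = 1) :
    IsPGroup p (Subgroup.zpowers x) := fun y => ⟨1, by
  obtain ⟨n, hn⟩ := Subgroup.mem_zpowers_iff.1 y.2
  refine Subtype.ext ?_
  rw [pow_one, Subgroup.coe_pow, ← hn, ← zpow_natCast, ← zpow_mul, mul_comm, zpow_mul, zpow_natCast, hx,
    _root_.one_zpow]
  rfl⟩

namespace MinPair

variable (hV : Ambient ρ p) (h : MinPair ρ M A T)

include h

theorem not_le_conj {x : H} (hx : x ∉ M) : ¬ A ≤ cj x M := fun hle => h.ne_top <| eq_top_iff.2 <|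
  (h.gen x⁻¹ fun e => hx (by simpa using inv_mem e)).ge.trans (sup_le h.hAM (le_cj_iff.2 (by rwa [inv_inv])))

theorem conj_gen {x y : H} (hxy : x⁻¹ * y ∉ M) : cj x A ⊔ cj y A = ⊤ := by
  rw [show cj y A = cj x (cj (x⁻¹ * y) A) by rw [cj_cj, mul_inv_cancel_left], ← cj_sup, h.gen _ hxy, cj_top]

theorem conj_fx {x y : H} (hxy : x⁻¹ * y ∉ M) : fx ρ (cj x A) ⊓ fx ρ (cj y A) = fx ρ (⊤ : Subgroup H) := by
  rw [← fx_sup, h.conj_gen hxy]

theorem pair_fx {x : H} (hx : x ∉ M) : fx ρ A ⊓ fx ρ (cj x A) = fx ρ (⊤ : Subgroup H) := by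
  rw [← fx_sup, h.gen x hx]

theorem stab_le {v : V} (hv : v ∈ fx ρ (T : Subgroup H)) (hvZ : v ∉ fx ρ (⊤ : Subgroup H)) : stab ρ v ≤ M :=
  h.unique _ ((mem_fx_iff_le ρ).1 hv) fun e => hvZ ((mem_fx_iff_le ρ).2 e.ge)

theorem sylow_fx_le_fx {g : H} {v : V} (hgM : g ∈ M → False) (hv : v ∈ fx ρ (cj g (T : Subgroup H)))
    (hvZ : v ∉ fx ρ (⊤ : Subgroup H)) : v ∉ fx ρ A := by
  intro hvA
  refine h.not_le_conj hgM (fun a ha => ?_)
  rw [mem_cj]
  have hv' : ρ g⁻¹ v ∈ fx ρ (T : Subgroup H) := act_fx_cj_iff.1 hv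
  refine h.stab_le hv' (fun e => hvZ (act_fx_top.1 e)) ?_
  show ρ (g⁻¹ * a * g) (ρ g⁻¹ v) = ρ g⁻¹ v
  rw [act_mul, act_mul, act_inv', hvA a ha]

include hV in
theorem conj_sylow {g a : H} (ha : a ∈ A) (hag : a ∈ cj g M) :
    ∃ m ∈ M, a ∈ cj (g * m) (T : Subgroup H) := by
  set b := g⁻¹ * a * g with hb
  have hbM : b ∈ M := mem_cj.1 hag
  have hbp : b ^ p = 1 := by
    have h1 : a ^ p = 1 := hV.pow_eq_one fun v => h.off.quad a ha a ha v
    have := (map_pow (MulAut.conj g⁻¹) a p).symm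
    rw [h1, map_one] at this
    simpa [hb] using this
  obtain ⟨P, hP⟩ := (isPGroup_of_pow_eq_one (x := (⟨b, hbM⟩ : M)) (Subtype.ext hbp)).exists_le_sylow
  obtain ⟨m, hm⟩ := MulAction.exists_smul_eq M (T.subtype h.hTM) P
  refine ⟨m, m.2, ?_⟩
  rw [mem_cj]
  have hmem : (⟨b, hbM⟩ : M) ∈ (m • T.subtype h.hTM : Sylow p M) := hm ▸ hP (Subgroup.mem_zpowers _)
  rw [Sylow.smul_def] at hmem
  have h2 : m⁻¹ * (⟨b, hbM⟩ : M) * m ∈ ((T.subtype h.hTM : Sylow p M) : Subgroup M) := by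
    have := (Subgroup.mem_map.1 hmem)
    obtain ⟨y, hy, hye⟩ := this
    rw [← hye]
    simpa [mul_assoc] using hy
  rw [Sylow.coe_subtype, Subgroup.mem_subgroupOf] at h2
  simpa [hb, mul_assoc] using h2

include hV in
/-- The singular elements do not depend on the block. -/
theorem mem_all {g g' a : H} (hg : g ∉ M) (hg' : g' ∉ M) (ha : a ∈ A) (hag : a ∈ cj g M) : a ∈ cj g' M := by
  by_contra hne
  obtain ⟨m, hm, hT⟩ := h.conj_sylow hV ha hag
  have hgm : g * m ∉ M := fun e => hg (by simpa using mul_mem e (inv_mem hm))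
  obtain ⟨v₀, hv₀, hv₀Z⟩ := h.moved
  set u := ρ (g * m) v₀ with hu
  have huT : u ∈ fx ρ (cj (g * m) (T : Subgroup H)) := act_mem_fx ρ _ hv₀
  have huZ : u ∉ fx ρ (⊤ : Subgroup H) := fun e => hv₀Z (act_fx_top.1 e)
  have hau : ρ a u = u := huT a hT
  set W := fx ρ A
  set W' := fx ρ (cj g' A)
  have hinv : ∀ x : H, ∀ v ∈ W ⊔ W', ρ x v ∈ W ⊔ W' := by
    let N : Subgroup H :=
      { carrier := {x | ∀ v ∈ W ⊔ W', ρ x v ∈ W ⊔ W'}
        one_mem' := fun v hv => by rwa [act_one]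
        mul_mem' := fun {x y} hx hy v hv => by rw [act_mul]; exact hx _ (hy v hv)
        inv_mem' := fun {x} hx v hv => by
          have : Function.Injective (fun w : (W ⊔ W' : AddSubgroup V) => (⟨ρ x w, hx _ w.2⟩ : (W ⊔ W' : AddSubgroup V))) :=
            fun w₁ w₂ e => Subtype.ext (act_inj ρ x (congrArg Subtype.val e))
          obtain ⟨w, hw⟩ := Finite.surjective_of_injective this ⟨v, hv⟩
          have hw' : ρ x (w : V) = v := congrArg Subtype.val hw
          rw [← hw', act_inv]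
          exact w.2 }
    have hN : N = ⊤ := by
      rw [eq_top_iff, ← h.gen g' hg']
      refine sup_le (fun b hb v hv => ?_) (fun b hb v hv => ?_)
      · have := add_mem (AddSubgroup.mem_sup_left (T := W') (h.off.comm_mem_fx ρ hb v)) hv
        rwa [sub_add_cancel] at this
      · have := add_mem (AddSubgroup.mem_sup_right (S := W) ((h.off.cj ρ g').comm_mem_fx ρ hb v)) hv
        rwa [sub_add_cancel] at this
    exact fun x => (hN ▸ Subgroup.mem_top x : x ∈ N)
  obtain ⟨v0W, hv0W⟩ : ∃ x : H, ρ x v₀ ∈ W := by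
    obtain ⟨y, hy⟩ := h.off.isPGroup hV |>.exists_le_sylow
    obtain ⟨x, hx⟩ := MulAction.exists_smul_eq H T y
    refine ⟨x, fun b hb => ?_⟩
    have hb' : b ∈ cj x (T : Subgroup H) := by
      have := hy hb
      rw [← hx] at this
      exact this
    exact act_mem_fx ρ x hv₀ b hb'
  have huV : u ∈ W ⊔ W' := by
    have := hinv (g * m * v0W⁻¹) _ (AddSubgroup.mem_sup_left (T := W') hv0W)
    rwa [← act_mul, inv_mul_cancel_right] at this
  obtain ⟨w, hw, w', hw', e⟩ := AddSubgroup.mem_sup.1 huV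
  have haw : ρ a w' = w' := by
    rw [← e, map_add, hw a ha] at hau
    exact add_left_cancel hau
  have hw'Z : w' ∈ fx ρ (⊤ : Subgroup H) := by
    rw [← h.conj_fx (x := g') (y := a * g') (fun e' => hne (mem_cj.2 (by rwa [mul_assoc])))]
    refine AddSubgroup.mem_inf.2 ⟨hw', ?_⟩
    have := act_mem_fx ρ a hw'
    rwa [haw, cj_cj] at this
  refine h.sylow_fx_le_fx hgm huT huZ ?_
  rw [← e]
  exact add_mem hw (fx_anti ρ le_top hw'Z)

/-- The elements of order `p` of the core lie in every Sylow subgroup. -/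
theorem mem_sylow {k : H} (hk : k ^ p = 1)
    (hkM : ∀ x : H, k ∈ cj x M) (x : H) : k ∈ cj x (T : Subgroup H) := by
  let K : Subgroup H := M.normalCore
  have hkK : k ∈ K := fun x => by
    have := mem_cj.1 (hkM x⁻¹)
    simpa using this
  haveI : K.Normal := Subgroup.normalCore_normal M
  haveI hS : Finite (Sylow p K) := inferInstance
  obtain ⟨S, hS⟩ : ∃ S : Sylow p K, (T : Subgroup H).subgroupOf K ≤ S :=
    (T.2.comap_of_injective K.subtype K.subtype_injective).exists_le_sylow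
  have hST : (S : Subgroup K).map K.subtype = (T : Subgroup H) ⊓ K := by
    have hle : (T : Subgroup H) ⊓ K ≤ (S : Subgroup K).map K.subtype := fun y hy =>
      ⟨⟨y, hy.2⟩, hS hy.1, rfl⟩
    obtain ⟨P, hP⟩ := (S.2.map K.subtype).exists_le_sylow
    obtain ⟨c, hc⟩ := MulAction.exists_smul_eq H T P
    have hle2 : (S : Subgroup K).map K.subtype ≤ cj c ((T : Subgroup H) ⊓ K) := by
      rintro y hy
      refine mem_cj.2 ⟨?_, ?_⟩
      · have := hP hy
        rw [← hc] at this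
        exact mem_cj.1 this
      · obtain ⟨z, -, rfl⟩ := hy
        have := (inferInstance : K.Normal).conj_mem _ z.2 c⁻¹
        simpa using this
    refine (Subgroup.eq_of_le_of_card_ge hle ?_).symm
    rw [← card_cj c ((T : Subgroup H) ⊓ K)]
    exact Subgroup.card_le_of_le hle2
  have hfr := Sylow.normalizer_sup_eq_top S
  rw [hST] at hfr
  have hTN : (T : Subgroup H) ≤ Subgroup.normalizer (((T : Subgroup H) ⊓ K : Subgroup H) : Set H) := by
    intro t ht
    rw [Subgroup.mem_normalizer_iff]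
    intro y
    constructor
    · exact fun hy => ⟨Subgroup.mul_mem _ (Subgroup.mul_mem _ ht hy.1) (Subgroup.inv_mem _ ht),
        (inferInstance : K.Normal).conj_mem _ hy.2 t⟩
    · intro hy
      refine ⟨?_, ?_⟩
      · have h1 : t * y * t⁻¹ ∈ (T : Subgroup H) := hy.1
        have h2 := Subgroup.mul_mem _ (Subgroup.mul_mem _ (Subgroup.inv_mem _ ht) h1) ht
        rwa [show t⁻¹ * (t * y * t⁻¹) * t = y by group] at h2
      · simpa [mul_assoc] using (inferInstance : K.Normal).conj_mem _ hy.2 t⁻¹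
  have hNtop : Subgroup.normalizer (((T : Subgroup H) ⊓ K : Subgroup H) : Set H) = ⊤ := by
    by_contra hne
    exact h.ne_top (eq_top_iff.2 (hfr.ge.trans (sup_le (h.unique _ hTN hne) (Subgroup.normalCore_le M))))
  have hkT : k ∈ (T : Subgroup H) ⊓ K := by
    obtain ⟨P, hP⟩ := (isPGroup_of_pow_eq_one hk).exists_le_sylow
    obtain ⟨c, hc⟩ := MulAction.exists_smul_eq H T P
    have h1 : k ∈ cj c (T : Subgroup H) := by
      have := hP (Subgroup.mem_zpowers k)
      rw [← hc] at this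
      exact this
    have hc' : c ∈ Subgroup.normalizer (((T : Subgroup H) ⊓ K : Subgroup H) : Set H) := hNtop ▸ Subgroup.mem_top c
    refine (Subgroup.mem_normalizer_iff''.1 hc' k).2 ⟨mem_cj.1 h1, ?_⟩
    simpa using (inferInstance : K.Normal).conj_mem _ hkK c⁻¹
  rw [mem_cj]
  have hx' : x ∈ Subgroup.normalizer (((T : Subgroup H) ⊓ K : Subgroup H) : Set H) := hNtop ▸ Subgroup.mem_top x
  exact ((Subgroup.mem_normalizer_iff''.1 hx' k).1 hkT).1

include hV in
/-- An element fixing the image of a moved vector modulo the fixed points lies in the block of that image. -/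
theorem coset_mem {g a : H} {v₀ : V} (hv₀ : v₀ ∈ fx ρ (T : Subgroup H)) (hv₀Z : v₀ ∉ fx ρ (⊤ : Subgroup H))
    (ha : ρ a (ρ g v₀) - ρ g v₀ ∈ fx ρ (⊤ : Subgroup H)) : a ∈ cj g M := by
  let L : Subgroup H :=
    { carrier := {x | ρ x v₀ - v₀ ∈ fx ρ (⊤ : Subgroup H)}
      one_mem' := by
        show ρ 1 v₀ - v₀ ∈ fx ρ (⊤ : Subgroup H)
        rw [act_one, sub_self]
        exact zero_mem _
      mul_mem' := fun {x y} hx hy => by
        show ρ (x * y) v₀ - v₀ ∈ fx ρ (⊤ : Subgroup H)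
        rw [act_mul, ← sub_add_sub_cancel (ρ x (ρ y v₀)) (ρ x v₀) v₀, ← map_sub]
        exact add_mem (act_fx_top.2 hy) hx
      inv_mem' := fun {x} hx => by
        show ρ x⁻¹ v₀ - v₀ ∈ fx ρ (⊤ : Subgroup H)
        have h1 := neg_mem (act_fx_top (g := x⁻¹).2 hx)
        rwa [map_sub, act_inv, neg_sub] at h1 }
  have haL : g⁻¹ * a * g ∈ L := by
    show ρ (g⁻¹ * a * g) v₀ - v₀ ∈ fx ρ (⊤ : Subgroup H)
    rw [act_mul, act_mul, ← act_inv ρ g v₀, act_inv', ← map_sub]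
    exact act_fx_top.2 ha
  have hTL : (T : Subgroup H) ≤ L := fun t ht => by
    show ρ t v₀ - v₀ ∈ fx ρ (⊤ : Subgroup H)
    rw [hv₀ t ht, sub_self]
    exact zero_mem _
  rw [mem_cj]
  by_cases hL : L = ⊤
  · -- the stabiliser is then normal and contains a Sylow subgroup
    exfalso
    have hall : ∀ x : H, ρ x v₀ - v₀ ∈ fx ρ (⊤ : Subgroup H) := fun x => (hL ▸ Subgroup.mem_top x : x ∈ L)
    have hconj : ∀ x : H, ∀ t ∈ cj x (T : Subgroup H), ρ t v₀ = v₀ := by
      intro x t ht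
      have h2 : ρ x v₀ ∈ fx ρ (cj x (T : Subgroup H)) := act_mem_fx ρ x hv₀
      have h3 : ρ x v₀ - (ρ x v₀ - v₀) ∈ fx ρ (cj x (T : Subgroup H)) :=
        sub_mem h2 (fx_anti ρ le_top (hall x))
      rw [sub_sub_cancel] at h3
      exact h3 t ht
    have hsyl : ∀ B : Subgroup H, IsPGroup p B → B ≤ stab ρ v₀ := by
      intro B hB b hb
      obtain ⟨P, hP⟩ := hB.exists_le_sylow
      obtain ⟨c, hc⟩ := MulAction.exists_smul_eq H T P
      refine hconj c b ?_
      have h4 := hP hb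
      rw [← hc] at h4
      exact h4
    obtain ⟨x, -, hxM⟩ := SetLike.exists_of_lt h.ne_top.lt_top
    refine hv₀Z ((mem_fx_iff_le ρ).2 ((h.gen x hxM).ge.trans (sup_le (hsyl A (h.off.isPGroup hV))
      (hsyl _ ((h.off.cj ρ x).isPGroup hV)))))
  · exact h.unique L hTL hL haL

include hV in
/-- The offender meets no other block. -/
theorem inf_eq_bot {g a : H} (hg : g ∉ M) (ha : a ∈ A) (hag : a ∈ cj g M) : a = 1 := by
  by_contra ha1
  set D : Subgroup H := A ⊓ cj g M with hD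
  have hDne : D ≠ ⊥ := fun e => ha1 (Subgroup.mem_bot.1 (e ▸ (show a ∈ D from ⟨ha, hag⟩)))
  have hDA : D ≠ A := fun e => h.not_le_conj hg (e.ge.trans inf_le_right)
  have hDp : ∀ d ∈ D, ∀ x : H, d ∈ cj x (T : Subgroup H) := fun d hd x =>
    h.mem_sylow (hV.pow_eq_one fun v => h.off.quad d hd.1 d hd.1 v) (fun y => by
      by_cases hy : y ∈ M
      · rw [mem_cj]
        exact mul_mem (mul_mem (inv_mem hy) (h.hAM hd.1)) hy
      · exact h.mem_all hV hg hy hd.1 hd.2) x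
  obtain ⟨v₀, hv₀, hv₀Z⟩ := h.moved
  have horbit : ∀ x : H, ρ x v₀ ∈ fx ρ D := fun x d hd => act_mem_fx ρ x hv₀ d (hDp d hd x)
  set Z := fx ρ (⊤ : Subgroup H)
  set u := ρ g v₀ with hu
  let f : A × Z → V := fun x => ρ (x.1 : H) u - u + (x.2 : V)
  let I : Set V := Set.range f
  have hIW : I ⊆ (fx ρ A : Set V) := by
    rintro _ ⟨⟨b, z⟩, rfl⟩
    exact add_mem (h.off.comm_mem_fx ρ b.2 u) (fx_anti ρ le_top z.2)
  have hID : ∀ v ∈ I, ρ g v ∈ fx ρ D := by
    rintro _ ⟨⟨b, z⟩, rfl⟩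
    show ρ g (ρ (b : H) (ρ g v₀) - ρ g v₀ + (z : V)) ∈ fx ρ D
    rw [map_add, map_sub, ← act_mul, ← act_mul, ← act_mul]
    exact add_mem (sub_mem (horbit _) (horbit _)) (fx_anti ρ le_top (act_fx_top.2 z.2))
  have hfib : Nat.card A * Nat.card Z ≤ Nat.card D * Nat.card Z * (Nat.card I / Nat.card Z) := by
    let q : V →+ V ⧸ Z := QuotientAddGroup.mk' Z
    let F : A → V ⧸ Z := fun b => q (ρ (b : H) u - u)
    have hF : ∀ b b' : A, F b = F b' → (b : H)⁻¹ * (b' : H) ∈ D := by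
      intro b b' e
      refine Subgroup.mem_inf.2 ⟨mul_mem (inv_mem b.2) b'.2, h.coset_mem hV hv₀ hv₀Z ?_⟩
      rw [h.off.comm_mul ρ (inv_mem b.2) b'.2, h.off.comm_inv ρ b.2, neg_add_eq_sub]
      rw [← QuotientAddGroup.eq_zero_iff]
      show q _ = 0
      rw [map_sub, sub_eq_zero]
      exact e.symm
    have h1 : Nat.card A ≤ Nat.card D * Nat.card (Set.range F) := by
      choose r hr using fun y : Set.range F => y.2
      rw [← Nat.card_prod]
      refine Nat.card_le_card_of_injective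
        (fun b => ((⟨_, hF (r ⟨F b, b, rfl⟩) b (hr _)⟩ : D), (⟨F b, b, rfl⟩ : Set.range F))) ?_
      intro b b' e
      have e2 : (⟨F b, b, rfl⟩ : Set.range F) = ⟨F b', b', rfl⟩ := congrArg Prod.snd e
      have e1 := congrArg (fun z : D => (z : H)) (congrArg Prod.fst e)
      simp only [e2] at e1
      exact Subtype.ext (mul_left_cancel e1)
    have h2 : Nat.card (Set.range F) * Nat.card Z ≤ Nat.card I := by
      choose r hr using fun y : Set.range F => y.2
      rw [← Nat.card_prod]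
      refine Nat.card_le_card_of_injective
        (fun x => (⟨f (r x.1, x.2), _, rfl⟩ : I)) ?_
      rintro ⟨y, z⟩ ⟨y', z'⟩ e
      have e' : f (r y, z) = f (r y', z') := congrArg Subtype.val e
      have e1 : (y : V ⧸ Z) = y' := by
        rw [← hr y, ← hr y']
        have := congrArg q e'
        simp only [f, map_add] at this
        have hz : q (z : V) = 0 := (QuotientAddGroup.eq_zero_iff _).2 z.2
        have hz' : q (z' : V) = 0 := (QuotientAddGroup.eq_zero_iff _).2 z'.2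
        rw [hz, hz', add_zero, add_zero] at this
        exact this
      obtain rfl : y = y' := Subtype.ext e1
      exact Prod.ext rfl (Subtype.ext (add_left_cancel e'))
    calc Nat.card A * Nat.card Z ≤ Nat.card D * Nat.card (Set.range F) * Nat.card Z := Nat.mul_le_mul_right _ h1
      _ ≤ _ := by
        rw [mul_assoc, mul_assoc, mul_comm (Nat.card Z)]
        refine Nat.mul_le_mul_left _ (Nat.mul_le_mul_right _ ?_)
        rw [Nat.le_div_iff_mul_le Nat.card_pos]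
        exact h2
  let J : AddSubgroup V := fx ρ D ⊓ fx ρ (cj g A)
  have hJ : Nat.card I ≤ Nat.card J := Nat.card_le_card_of_injective
    (fun v : I => (⟨ρ g v, AddSubgroup.mem_inf.2 ⟨hID _ v.2, act_mem_fx ρ g (hIW v.2)⟩⟩ : J))
    fun v w e => Subtype.ext (act_inj ρ g (congrArg Subtype.val e))
  have hsum := card_sup_inf (fx ρ A) J
  have hZJ : fx ρ A ⊓ J = Z := le_antisymm
    (fun v hv => (h.pair_fx hg).le ⟨(AddSubgroup.mem_inf.1 hv).1, (AddSubgroup.mem_inf.1 (AddSubgroup.mem_inf.1 hv).2).2⟩)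
    (le_inf (fx_anti ρ le_top) (le_inf (fx_anti ρ le_top) (fx_anti ρ le_top)))
  have hD2 : Nat.card (fx ρ A ⊔ J : AddSubgroup V) ≤ Nat.card (fx ρ D) :=
    AddSubgroup.card_le_of_le (sup_le (fx_anti ρ inf_le_left) inf_le_left)
  have hs := h.strict D inf_le_left hDne hDA
  rw [hZJ] at hsum
  have key : Nat.card A * Nat.card (fx ρ A) * Nat.card Z ≤ Nat.card D * Nat.card (fx ρ D) * Nat.card Z :=
    calc Nat.card A * Nat.card (fx ρ A) * Nat.card Z = Nat.card (fx ρ A) * (Nat.card A * Nat.card Z) := by ring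
      _ ≤ Nat.card (fx ρ A) * (Nat.card D * Nat.card Z * (Nat.card I / Nat.card Z)) := Nat.mul_le_mul_left _ hfib
      _ ≤ Nat.card (fx ρ A) * (Nat.card D * Nat.card J) := by
        refine Nat.mul_le_mul_left _ ?_
        rw [mul_assoc]
        exact Nat.mul_le_mul_left _ ((Nat.mul_div_le _ _).trans hJ)
      _ = Nat.card D * Nat.card (fx ρ A ⊔ J : AddSubgroup V) * Nat.card Z := by
        rw [mul_assoc (Nat.card D), hsum]; ring
      _ ≤ _ := Nat.mul_le_mul_right _ (Nat.mul_le_mul_left _ hD2)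
  exact absurd (Nat.le_of_mul_le_mul_right key Nat.card_pos) (not_le.2 hs)

include hV in
/-- Vectors from different blocks are moved modulo the fixed points by every nontrivial element. -/
theorem free_mem {g a : H} (hg : g ∉ M) (ha : a ∈ A) {v : V} (hv : v ∈ fx ρ (cj g A))
    (hvA : v ∉ fx ρ A) (he : ρ a v - v ∈ fx ρ (⊤ : Subgroup H)) : a = 1 := by
  by_contra ha1
  have hne : g⁻¹ * (a * g) ∉ M := fun e => ha1 (h.inf_eq_bot hV hg ha (mem_cj.2 (by rwa [mul_assoc])))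
  have h1 : ρ a v ∈ fx ρ (cj g A) := by
    have := add_mem (fx_anti ρ le_top he : _ ∈ fx ρ (cj g A)) hv
    rwa [sub_add_cancel] at this
  have h2 : ρ a v ∈ fx ρ (cj (a * g) A) := by
    have := act_mem_fx ρ a hv
    rwa [cj_cj] at this
  have h3 : ρ a v ∈ fx ρ (⊤ : Subgroup H) := (h.conj_fx hne).le ⟨h1, h2⟩
  exact hvA (fx_anti ρ le_top (act_fx_top.1 h3))

include hV in
/-- The equalities. -/
theorem pair_equalities {g : H} (hg : g ∉ M) :
    Nat.card (fx ρ A) = Nat.card A * Nat.card (fx ρ (⊤ : Subgroup H)) ∧ fx ρ A ⊔ fx ρ (cj g A) = ⊤ := by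
  obtain ⟨v₀, hv₀, hv₀Z⟩ := h.moved
  set Z := fx ρ (⊤ : Subgroup H)
  have hlow : Nat.card A * Nat.card Z ≤ Nat.card (fx ρ A) := by
    rw [← Nat.card_prod]
    refine Nat.card_le_card_of_injective (fun x => (⟨ρ (x.1 : H) (ρ g v₀) - ρ g v₀ + (x.2 : V),
      add_mem (h.off.comm_mem_fx ρ x.1.2 _) (fx_anti ρ le_top x.2.2)⟩ : fx ρ A)) ?_
    rintro ⟨b, z⟩ ⟨b', z'⟩ e
    have e' : ρ (b : H) (ρ g v₀) - ρ g v₀ + (z : V) = ρ (b' : H) (ρ g v₀) - ρ g v₀ + (z' : V) :=
      congrArg Subtype.val e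
    have h1 : (b : H)⁻¹ * (b' : H) = 1 := by
      refine h.inf_eq_bot hV hg (mul_mem (inv_mem b.2) b'.2) (h.coset_mem hV hv₀ hv₀Z ?_)
      rw [h.off.comm_mul ρ (inv_mem b.2) b'.2, h.off.comm_inv ρ b.2, show -(ρ (b : H) (ρ g v₀) - ρ g v₀) +
          (ρ (b' : H) (ρ g v₀) - ρ g v₀) = (z : V) - z' by
        rw [show ρ (b : H) (ρ g v₀) - ρ g v₀ = ρ (b' : H) (ρ g v₀) - ρ g v₀ + (z' : V) - z from
          eq_sub_of_add_eq e']
        abel]
      exact sub_mem z.2 z'.2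
    obtain rfl : b = b' := Subtype.ext (inv_mul_eq_one.1 h1)
    exact Prod.ext rfl (Subtype.ext (add_left_cancel e'))
  have hsum := card_sup_inf (fx ρ A) (fx ρ (cj g A))
  rw [h.pair_fx hg, card_fx_cj] at hsum
  have hle : Nat.card (fx ρ A ⊔ fx ρ (cj g A) : AddSubgroup V) ≤ Nat.card V :=
    Nat.card_le_card_of_injective (fun v : (fx ρ A ⊔ fx ρ (cj g A) : AddSubgroup V) => (v : V)) Subtype.val_injective
  have hup : Nat.card (fx ρ A) ≤ Nat.card A * Nat.card Z := by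
    suffices hsq : Nat.card (fx ρ A) * Nat.card (fx ρ A) ≤ Nat.card (fx ρ A) * (Nat.card A * Nat.card Z) from
      Nat.le_of_mul_le_mul_left hsq Nat.card_pos
    calc Nat.card (fx ρ A) * Nat.card (fx ρ A)
        = Nat.card (fx ρ A ⊔ fx ρ (cj g A) : AddSubgroup V) * Nat.card Z := hsum.symm
      _ ≤ Nat.card A * Nat.card (fx ρ A) * Nat.card Z := Nat.mul_le_mul_right _ (hle.trans h.off.off)
      _ = _ := by ring
  refine ⟨le_antisymm hup hlow, AddSubgroup.eq_top_of_card_eq _ (le_antisymm hle ?_)⟩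
  refine Nat.le_of_mul_le_mul_right (c := Nat.card Z) ?_ Nat.card_pos
  rw [hsum]
  calc Nat.card V * Nat.card Z ≤ Nat.card A * Nat.card (fx ρ A) * Nat.card Z := Nat.mul_le_mul_right _ h.off.off
    _ ≤ _ := by
      rw [mul_comm (Nat.card A), mul_assoc]
      exact Nat.mul_le_mul_left _ hlow

include hV in
/-- The fixed points of another block are reached by translation. -/
theorem exists_translate {g : H} (hg : g ∉ M) {w : V} (hw : w ∉ fx ρ A) :
    ∃ a ∈ A, w ∈ fx ρ (cj (a * g) A) := by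
  obtain ⟨hcard, hsup⟩ := h.pair_equalities hV hg
  obtain ⟨x, hx, y, hy, rfl⟩ :=
    AddSubgroup.mem_sup.1 (hsup.symm ▸ AddSubgroup.mem_top w : w ∈ fx ρ A ⊔ fx ρ (cj g A))
  have hyA : y ∉ fx ρ A := fun e => hw (add_mem hx e)
  set Z := fx ρ (⊤ : Subgroup H)
  let f : A × Z → fx ρ A := fun c => ⟨ρ (c.1 : H) y - y + (c.2 : V),
    add_mem (h.off.comm_mem_fx ρ c.1.2 _) (fx_anti ρ le_top c.2.2)⟩
  have hf : Function.Injective f := by
    rintro ⟨b, z⟩ ⟨b', z'⟩ e
    have e' : ρ (b : H) y - y + (z : V) = ρ (b' : H) y - y + (z' : V) := congrArg Subtype.val e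
    have h1 : (b : H)⁻¹ * (b' : H) = 1 := by
      refine h.free_mem hV hg (mul_mem (inv_mem b.2) b'.2) hy hyA ?_
      rw [h.off.comm_mul ρ (inv_mem b.2) b'.2, h.off.comm_inv ρ b.2, show -(ρ (b : H) y - y) +
          (ρ (b' : H) y - y) = (z : V) - z' by
        rw [show ρ (b : H) y - y = ρ (b' : H) y - y + (z' : V) - z from eq_sub_of_add_eq e']
        abel]
      exact sub_mem z.2 z'.2
    obtain rfl : b = b' := Subtype.ext (inv_mul_eq_one.1 h1)
    exact Prod.ext rfl (Subtype.ext (add_left_cancel e'))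
  obtain ⟨⟨a, z⟩, hc⟩ := ((Nat.bijective_iff_injective_and_card f).2 ⟨hf, by rw [Nat.card_prod, hcard]⟩).2 ⟨x, hx⟩
  refine ⟨a, a.2, ?_⟩
  have hc' : ρ (a : H) y - y + (z : V) = x := congrArg Subtype.val hc
  rw [show x + y = ρ (a : H) y + z by rw [← hc']; abel]
  refine add_mem ?_ (fx_anti ρ le_top z.2)
  have := act_mem_fx ρ (a : H) hy
  rwa [cj_cj] at this

include hV in
/-- Two blocks with a common vector outside the fixed points have the same fixed points. -/
theorem fx_eq_of_mem {y z : H} (hyz : y⁻¹ * z ∈ M) : fx ρ (cj z A) = fx ρ (cj y A) := by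
  obtain ⟨g, -, hg⟩ := SetLike.exists_of_lt h.ne_top.lt_top
  have hkey : ∀ m ∈ M, fx ρ (cj m A) ≤ fx ρ A := by
    intro m hm v hv
    by_contra hvA
    obtain ⟨a, ha, hva⟩ := h.exists_translate hV hg hvA
    have hne : m⁻¹ * (a * g) ∉ M := fun e => hg (by
      have := mul_mem (mul_mem (inv_mem (h.hAM ha)) hm) e
      simpa [mul_assoc] using this)
    exact hvA (fx_anti ρ le_top ((h.conj_fx hne).le ⟨hv, hva⟩))
  have h1 : fx ρ (cj (y⁻¹ * z) A) = fx ρ A :=
    AddSubgroup.eq_of_le_of_card_ge (hkey _ hyz) (le_of_eq (card_fx_cj ρ _ _).symm)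
  ext v
  constructor
  · intro hv
    rw [act_fx_cj_iff] at hv ⊢
    rw [← h1, act_fx_cj_iff, ← act_mul, show (y⁻¹ * z)⁻¹ * y⁻¹ = z⁻¹ by group]
    exact hv
  · intro hv
    rw [act_fx_cj_iff] at hv ⊢
    rw [← h1, act_fx_cj_iff, ← act_mul, show (y⁻¹ * z)⁻¹ * y⁻¹ = z⁻¹ by group] at hv
    exact hv

include hV in
/-- The block. -/
theorem block {g : H} (hg : g ∉ M) : Block ρ ⊤ A g := by
  obtain ⟨hcard, hsup⟩ := h.pair_equalities hV hg
  refine ⟨h.off, h.gen g hg, hcard, hsup, fun a ha v hv hvA he => h.free_mem hV hg ha hv hvA he,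
    fun a ha ha1 => ?_, fun k _ hk => ?_⟩
  · have hne : g⁻¹ * (a * g) ∉ M := fun e => ha1 (h.inf_eq_bot hV hg ha (mem_cj.2 (by rwa [mul_assoc])))
    obtain ⟨w, hw, hwZ⟩ : ∃ w ∈ fx ρ (cj (a * g) A), w ∉ fx ρ (⊤ : Subgroup H) := by
      obtain ⟨v₀, hv₀, hv₀Z⟩ := h.moved
      by_contra hall
      push Not at hall
      have hWZ : fx ρ A ≤ fx ρ (⊤ : Subgroup H) := fun v hv => by
        have := hall _ (act_mem_fx ρ (a * g) hv)
        exact act_fx_top.1 this
      have h2 : fx ρ (cj g A) ≤ fx ρ A := fun v hv =>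
        fx_anti ρ le_top (act_fx_top.1 (hWZ (act_fx_cj_iff.1 hv)))
      have hv' : v₀ ∈ fx ρ A ⊔ fx ρ (cj g A) := hsup.symm ▸ AddSubgroup.mem_top v₀
      exact hv₀Z (hWZ ((sup_eq_left.2 h2).le hv'))
    have hwB : w ∉ fx ρ (cj g A) := fun e => hwZ ((h.conj_fx hne).le ⟨e, hw⟩)
    obtain ⟨a', ha', hwa⟩ := h.exists_translate hV (g := g⁻¹) (fun e => hg (by simpa using inv_mem e))
      (w := ρ g⁻¹ w) (fun e => hwB (act_fx_cj_iff.2 e))
    refine ⟨g * a' * g⁻¹, conj_mem_cj g ha', h.fx_eq_of_mem hV ?_⟩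
    by_contra hne'
    have h1 : w ∈ fx ρ (cj (g * a' * g⁻¹) A) := by
      have := act_mem_fx ρ g hwa
      rwa [act_inv', cj_cj, ← mul_assoc] at this
    exact hwZ ((h.conj_fx hne').le ⟨h1, hw⟩)
  · have hkp : k ^ p = 1 := hV.pow_eq_one fun v => hk v _ (Subgroup.mem_top k)
    have hk' : ∀ B : Subgroup H, ∀ v ∈ fx ρ B, ρ k v ∈ fx ρ B := fun B v hv => by
      have := add_mem (fx_anti ρ le_top (hk v) : _ ∈ fx ρ B) hv
      rwa [sub_add_cancel] at this
    have hkM : ∀ x : H, k ∈ cj x M := by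
      intro x
      by_contra hne
      have hne' : x⁻¹ * (k * x) ∉ M := fun e => hne (mem_cj.2 (by rwa [mul_assoc]))
      obtain ⟨v₀, hv₀, hv₀Z⟩ := h.moved
      obtain ⟨y, hy⟩ := h.off.isPGroup hV |>.exists_le_sylow
      obtain ⟨c, hc⟩ := MulAction.exists_smul_eq H T y
      have hcv : ρ c v₀ ∈ fx ρ A := fun b hb => by
        have hb' := hy hb
        rw [← hc] at hb'
        exact act_mem_fx ρ c hv₀ b hb'
      have h1 : ρ k (ρ x (ρ c v₀)) ∈ fx ρ (cj x A) := hk' _ _ (act_mem_fx ρ x hcv)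
      have h2 : ρ k (ρ x (ρ c v₀)) ∈ fx ρ (cj (k * x) A) := by
        rw [← act_mul]
        exact act_mem_fx ρ (k * x) hcv
      exact hv₀Z (act_fx_top.1 (act_fx_top.1 (act_fx_top.1 ((h.conj_fx hne').le ⟨h1, h2⟩))))
    have hkT := h.mem_sylow hkp hkM
    obtain ⟨v₀, hv₀, hv₀Z⟩ := h.moved
    have horb : ∀ x : H, ρ k (ρ x v₀) = ρ x v₀ := fun x => act_mem_fx ρ x hv₀ k (hkT x)
    -- the fixed points of `k` contain both blocks
    have hfull : ∀ x : H, fx ρ (cj x A) ≤ fx ρ (Subgroup.zpowers k) := by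
      intro x v hv
      rw [mem_fx_zpowers]
      have hgA : ρ g v₀ ∉ fx ρ A :=
        h.sylow_fx_le_fx hg (act_mem_fx ρ g hv₀) (fun e => hv₀Z (act_fx_top.1 e))
      let f : A × fx ρ (⊤ : Subgroup H) → fx ρ A := fun c => ⟨ρ (c.1 : H) (ρ g v₀) - ρ g v₀ + (c.2 : V),
        add_mem (h.off.comm_mem_fx ρ c.1.2 _) (fx_anti ρ le_top c.2.2)⟩
      have hf : Function.Injective f := by
        rintro ⟨b, z⟩ ⟨b', z'⟩ e
        have e' : ρ (b : H) (ρ g v₀) - ρ g v₀ + (z : V) = ρ (b' : H) (ρ g v₀) - ρ g v₀ + (z' : V) :=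
          congrArg Subtype.val e
        have h1 : (b : H)⁻¹ * (b' : H) = 1 := by
          refine h.inf_eq_bot hV hg (mul_mem (inv_mem b.2) b'.2) (h.coset_mem hV hv₀ hv₀Z ?_)
          rw [h.off.comm_mul ρ (inv_mem b.2) b'.2, h.off.comm_inv ρ b.2, show -(ρ (b : H) (ρ g v₀) - ρ g v₀) +
              (ρ (b' : H) (ρ g v₀) - ρ g v₀) = (z : V) - z' by
            rw [show ρ (b : H) (ρ g v₀) - ρ g v₀ = ρ (b' : H) (ρ g v₀) - ρ g v₀ + (z' : V) - z from
              eq_sub_of_add_eq e']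
            abel]
          exact sub_mem z.2 z'.2
        obtain rfl : b = b' := Subtype.ext (inv_mul_eq_one.1 h1)
        exact Prod.ext rfl (Subtype.ext (add_left_cancel e'))
      obtain ⟨⟨b, z⟩, hc⟩ := ((Nat.bijective_iff_injective_and_card f).2 ⟨hf, by rw [Nat.card_prod, hcard]⟩).2
        ⟨ρ x⁻¹ v, act_fx_cj_iff.1 hv⟩
      have hc' : ρ (b : H) (ρ g v₀) - ρ g v₀ + (z : V) = ρ x⁻¹ v := congrArg Subtype.val hc
      have hv' : v = ρ (x * ((b : H) * g)) v₀ - ρ (x * g) v₀ + ρ x z := by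
        rw [act_mul, act_mul, act_mul, ← map_sub, ← map_add, hc', act_inv']
      rw [hv', map_add, map_sub, horb, horb]
      congr 1
      have := hk (ρ x (z : V))
      exact (act_fx_top.2 z.2 : ρ x (z : V) ∈ fx ρ (⊤ : Subgroup H)) k (Subgroup.mem_top k)
    refine hV.faithful (AddMonoidHom.ext fun v => ?_)
    show ρ k v = ρ 1 v
    rw [act_one]
    obtain ⟨x, hx, y, hy, rfl⟩ :=
      AddSubgroup.mem_sup.1 (hsup.symm ▸ AddSubgroup.mem_top v : v ∈ fx ρ A ⊔ fx ρ (cj g A))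
    have h1 := (mem_fx_zpowers ρ).1 (hfull 1 (by rwa [cj_one]) : x ∈ fx ρ (Subgroup.zpowers k))
    have h2 := (mem_fx_zpowers ρ).1 (hfull g hy)
    rw [map_add, h1, h2]

end MinPair

end CfsgLib.LocalEven.RankOneFF
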