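import Cfsg.Agent.Lib.LocalEven.RankOneFF.Structure
import Cfsg.Agent.Lib.LocalEven.RankOneFF.Coord

/-!
A group with a strongly `p`-embedded subgroup and a quadratic offender is `SL₂(F)` and acts on the module modulo
its fixed points as on the natural module.
-/

set_option autoImplicit false
set_option linter.unusedSectionVars false
set_option linter.style.haveILetI false

namespace CfsgLib.LocalEven.RankOneFF

open CfsgLib.LocalEven.SylowIn

/-- An upper transvection. -/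
def upS {F : Type*} [Field F] (σ : F) : Matrix.SpecialLinearGroup (Fin 2) F :=
  ⟨!![1, σ; 0, 1], by simp [Matrix.det_fin_two]⟩

/-- A lower transvection. -/
def lowS {F : Type*} [Field F] (σ : F) : Matrix.SpecialLinearGroup (Fin 2) F :=
  ⟨!![1, 0; σ, 1], by simp [Matrix.det_fin_two]⟩

theorem mem_of_transvections {F : Type*} [Field F] {R : Subgroup (Matrix.SpecialLinearGroup (Fin 2) F)}
    (hu : ∀ σ : F, upS σ ∈ R) (hl : ∀ σ : F, lowS σ ∈ R) :
    R = ⊤ := by
  have step : ∀ M : Matrix.SpecialLinearGroup (Fin 2) F, M.1 1 0 ≠ 0 → M ∈ R := by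
    intro M hc
    have hdet : M.1 0 0 * M.1 1 1 - M.1 0 1 * M.1 1 0 = 1 := by rw [← Matrix.det_fin_two]; exact M.2
    have hM : M = upS ((M.1 0 0 - 1) / M.1 1 0) * lowS (M.1 1 0) * upS ((M.1 1 1 - 1) / M.1 1 0) := by
      apply Subtype.ext
      show M.1 = !![1, (M.1 0 0 - 1) / M.1 1 0; 0, 1] * !![1, 0; M.1 1 0, 1] * !![1, (M.1 1 1 - 1) / M.1 1 0; 0, 1]
      ext i j
      fin_cases i <;> fin_cases j <;>
        simp [Matrix.mul_apply, Fin.sum_univ_two] <;> field_simp
      all_goals first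
        | linear_combination hdet
        | linear_combination -hdet
        | ring
    rw [hM]
    exact mul_mem (mul_mem (hu _) (hl _)) (hu _)
  refine eq_top_iff.2 fun M _ => ?_
  by_cases hc : M.1 1 0 = 0
  · have hdet : M.1 0 0 * M.1 1 1 - M.1 0 1 * M.1 1 0 = 1 := by rw [← Matrix.det_fin_two]; exact M.2
    have ha : M.1 0 0 ≠ 0 := fun q => by simp [hc, q] at hdet
    have := step (lowS 1 * M) (by
      show (!![(1 : F), 0; 1, 1] * M.1) 1 0 ≠ 0
      simp [Matrix.mul_apply, Fin.sum_univ_two, hc, ha])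
    simpa using mul_mem (inv_mem (hl 1)) this
  · exact step M hc

variable {H : Type*} [Group H] [Finite H] {V : Type*} [AddCommGroup V] [Finite V] {p : ℕ} [Fact p.Prime]
  {ρ : H →* AddMonoid.End V} {K X A : Subgroup H}

/-- The fixed points of `A` modulo those of `K`. -/
abbrev UQ (ρ : H →* AddMonoid.End V) (K A : Subgroup H) :=
  fx ρ A ⧸ (fx ρ K).addSubgroupOf (fx ρ A)

/-- The commutator with `a` from the fixed points of another block. -/
def phi (h : Off ρ A) (g a : H) (ha : a ∈ A) : fx ρ (cj g A) →+ UQ ρ K A where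
  toFun y := QuotientAddGroup.mk (⟨ρ a y - y, h.comm_mem_fx ρ ha y⟩ : fx ρ A)
  map_zero' := by
    rw [QuotientAddGroup.eq_zero_iff]
    simp [AddSubgroup.mem_addSubgroupOf, zero_mem]
  map_add' y z := by
    rw [← QuotientAddGroup.mk_add]
    congr 1
    exact Subtype.ext (show ρ a ((y : V) + z) - ((y : V) + z) = (ρ a y - y) + (ρ a z - z) by rw [map_add]; abel)

theorem phi_eq_iff (h : Off ρ A) {g a : H} (ha : a ∈ A) (y : fx ρ (cj g A)) (x : fx ρ A) :
    phi (K := K) h g a ha y = QuotientAddGroup.mk x ↔ (ρ a y - y) - (x : V) ∈ fx ρ K := by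
  show QuotientAddGroup.mk (⟨ρ a y - y, h.comm_mem_fx ρ ha y⟩ : fx ρ A) = _ ↔ _
  rw [QuotientAddGroup.eq, AddSubgroup.mem_addSubgroupOf, ← neg_mem_iff]
  simp [sub_eq_add_neg, add_comm, add_left_comm, add_assoc]

/-- The natural structure. -/
structure Natural (ρ : H →* AddMonoid.End V) (K A : Subgroup H) (F : Type) [Field F] [Fintype F] : Prop where
  card : Fintype.card F = Nat.card A
  equiv : ∃ (φ : K →* Matrix.SpecialLinearGroup (Fin 2) F) (ψ : V →+ (Fin 2 → F)),
    Function.Bijective φ ∧ Function.Surjective ψ ∧ (∀ v, ψ v = 0 ↔ v ∈ fx ρ K) ∧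
      ∀ (k : K) (v : V), ψ (ρ (k : H) v) =
        ((φ k : Matrix.SpecialLinearGroup (Fin 2) F) : Matrix (Fin 2) (Fin 2) F).mulVec (ψ v)
  fixed : ∀ x ∈ fx ρ A, ∃ a ∈ A, ∃ y : V, x - (ρ a y - y) ∈ fx ρ K

/-- Two offenders in general position. -/
structure Block (ρ : H →* AddMonoid.End V) (K A : Subgroup H) (g : H) : Prop where
  off : Off ρ A
  sup_subgroup : A ⊔ cj g A = K
  card_fx : Nat.card (fx ρ A) = Nat.card A * Nat.card (fx ρ K)
  sup_eq : fx ρ A ⊔ fx ρ (cj g A) = ⊤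
  free : ∀ a ∈ A, ∀ v ∈ fx ρ (cj g A), v ∉ fx ρ A → ρ a v - v ∈ fx ρ K → a = 1
  cover : ∀ a ∈ A, a ≠ 1 → ∃ b ∈ cj g A, fx ρ (cj (a * g) A) = fx ρ (cj b A)
  kill : ∀ k ∈ K, (∀ v, ρ k v - v ∈ fx ρ K) → k = 1

set_option maxHeartbeats 1600000 in
theorem exists_natural_of_block (hV : Ambient ρ p) {g : H} (h : Block ρ K A g) :
    ∃ (F : Type) (_ : Field F) (_ : Fintype F), Natural ρ K A F := by
  classical
  have hK : A ⊔ cj g A = K := h.sup_subgroup
  have hW : fx ρ A ⊓ fx ρ (cj g A) = fx ρ K := by rw [← fx_sup, hK]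
  have hBK : cj g A ≤ K := hK ▸ le_sup_right
  have hoffB : Off ρ (cj g A) := h.off.cj ρ g
  have hAK : A ≤ K := hK ▸ le_sup_left
  have hq1 : 1 < Nat.card A := (Subgroup.one_lt_card_iff_ne_bot _).2 h.off.ne_bot
  have hzA : fx ρ K ≤ fx ρ A := fx_anti ρ hAK
  have hzB : fx ρ K ≤ fx ρ (cj g A) := fx_anti ρ hBK
  set U := UQ ρ K A
  have hUcard : Nat.card U = Nat.card A := by
    have h1 := AddSubgroup.card_eq_card_quotient_mul_card_addSubgroup ((fx ρ K).addSubgroupOf (fx ρ A))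
    rw [Nat.card_congr (AddSubgroup.addSubgroupOfEquivOfLe hzA).toEquiv, h.card_fx] at h1
    exact (Nat.eq_of_mul_eq_mul_right Nat.card_pos h1).symm
  haveI : Nontrivial U := Finite.one_lt_card_iff_nontrivial.1 (hUcard ▸ hq1)
  have hker : ∀ (a : A) (y : fx ρ (cj g A)), a ≠ 1 → (phi (K := K) h.off g a a.2 y = 0 ↔ (y : V) ∈ fx ρ K) := by
    intro a y ha
    rw [show (0 : U) = QuotientAddGroup.mk (0 : fx ρ A) from rfl, phi_eq_iff, AddSubgroup.coe_zero, sub_zero]
    constructor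
    · intro hy
      by_contra hyK
      have hyA : (y : V) ∉ fx ρ A := fun e => hyK (hW ▸ ⟨e, y.2⟩)
      exact ha (Subtype.ext (h.free _ a.2 _ y.2 hyA hy))
    · intro hy
      rw [hy _ (hAK a.2), sub_self]
      exact zero_mem _
  obtain ⟨a₁, ha₁⟩ : ∃ a₁ : A, a₁ ≠ 1 := by
    obtain ⟨a, ha, ha1⟩ := exists_ne_one h.off.ne_bot
    exact ⟨⟨a, ha⟩, fun e => ha1 (congrArg Subtype.val e)⟩
  have hsurj1 : Function.Surjective (phi (K := K) h.off g a₁ a₁.2) := by
    rw [← AddMonoidHom.range_eq_top]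
    refine AddSubgroup.eq_top_of_card_eq _ ?_
    have h1 := AddSubgroup.card_eq_card_quotient_mul_card_addSubgroup (phi (K := K) h.off g a₁ a₁.2).ker
    rw [Nat.card_congr (QuotientAddGroup.quotientKerEquivRange _).toEquiv] at h1
    have h2 : Nat.card (phi (K := K) h.off g a₁ a₁.2).ker = Nat.card (fx ρ K) := by
      refine Nat.card_congr
        { toFun := fun y => ⟨y.1, (hker a₁ y.1 ha₁).1 y.2⟩
          invFun := fun z => ⟨⟨z, hzB z.2⟩, (hker a₁ _ ha₁).2 z.2⟩
          left_inv := fun y => rfl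
          right_inv := fun z => rfl }
    rw [h2, card_fx_cj, h.card_fx] at h1
    rw [hUcard]
    exact (Nat.eq_of_mul_eq_mul_right Nat.card_pos h1).symm
  -- the lifts
  have hlift : ∀ u : U, ∃ y, phi (K := K) h.off g a₁ a₁.2 y = u := hsurj1
  choose lB hlB using hlift
  have hindep : ∀ (a : A) (y y' : fx ρ (cj g A)), phi (K := K) h.off g a₁ a₁.2 y = phi (K := K) h.off g a₁ a₁.2 y' →
      phi (K := K) h.off g a a.2 y = phi (K := K) h.off g a a.2 y' := by
    intro a y y' e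
    rw [← sub_eq_zero, ← map_sub]
    by_cases ha : a = 1
    · subst ha
      rw [show (0 : U) = QuotientAddGroup.mk (0 : fx ρ A) from rfl, phi_eq_iff, OneMemClass.coe_one, act_one]
      simp [zero_mem]
    · rw [hker a _ ha, ← hker a₁ _ ha₁, map_sub, e, sub_self]
  let s : A → AddMonoid.End U := fun a =>
    { toFun := fun u => phi (K := K) h.off g a a.2 (lB u)
      map_zero' := by rw [hindep a (lB 0) 0 (by rw [hlB, map_zero]), map_zero]
      map_add' := fun u w => by rw [hindep a (lB (u + w)) (lB u + lB w) (by rw [hlB, map_add, hlB, hlB]), map_add] }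
  have hs : ∀ (a : A) (y : fx ρ (cj g A)), s a (phi (K := K) h.off g a₁ a₁.2 y) = phi (K := K) h.off g a a.2 y := fun a y =>
    hindep a _ _ (hlB _)
  -- the other side
  have hpsi : ∀ (b : cj g A) (x : V), ρ (b : H) x - x ∈ fx ρ (cj g A) := fun b x => hoffB.comm_mem_fx ρ b.2 x
  let tt : cj g A → fx ρ A →+ U := fun b =>
    { toFun := fun x => phi (K := K) h.off g a₁ a₁.2 ⟨ρ (b : H) x - x, hpsi b x⟩
      map_zero' := by
        rw [hker a₁ _ ha₁]
        simp [zero_mem]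
      map_add' := fun x w => by
        rw [← map_add]
        congr 1
        exact Subtype.ext (show ρ (b : H) ((x : V) + w) - ((x : V) + w) = _ by rw [map_add]; simp; abel) }
  have httker : ∀ (b : cj g A) (x : fx ρ A), (x : V) ∈ fx ρ K → tt b x = 0 := fun b x hx => by
    refine (hker a₁ _ ha₁).2 ?_
    show ρ (b : H) x - x ∈ fx ρ K
    rw [hx _ (hBK b.2), sub_self]
    exact zero_mem _
  let t : cj g A → AddMonoid.End U := fun b =>
    QuotientAddGroup.lift _ (tt b) (fun x hx => httker b x (AddSubgroup.mem_addSubgroupOf.1 hx))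
  have ht : ∀ b (x : fx ρ A), t b (QuotientAddGroup.mk x) = tt b x := fun b x => rfl
  have hs_add : ∀ a a', s (a * a') = s a + s a' := fun a a' => AddMonoidHom.ext fun u => by
    show phi (K := K) h.off g ((a * a' : A) : H) (a * a').2 (lB u) = phi (K := K) h.off g a a.2 (lB u) + phi (K := K) h.off g a' a'.2 (lB u)
    show QuotientAddGroup.mk (_ : fx ρ A) = QuotientAddGroup.mk (_ : fx ρ A) + QuotientAddGroup.mk (_ : fx ρ A)
    rw [← QuotientAddGroup.mk_add]
    congr 1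
    exact Subtype.ext (h.off.comm_mul ρ a.2 a'.2 _)
  have hs_one : s 1 = 0 := AddMonoidHom.ext fun u => by
    show phi (K := K) h.off g ((1 : A) : H) (1 : A).2 (lB u) = (0 : U)
    rw [show (0 : U) = QuotientAddGroup.mk (0 : fx ρ A) from rfl, phi_eq_iff, OneMemClass.coe_one, act_one]
    simp [zero_mem]
  have ht_one : t 1 = 0 := AddMonoidHom.ext fun u => by
    induction u using QuotientAddGroup.induction_on with
    | H x =>
      show phi (K := K) h.off g (a₁ : H) a₁.2 _ = (0 : U)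
      rw [hker a₁ _ ha₁]
      show ρ ((1 : cj g A) : H) (x : V) - x ∈ fx ρ K
      rw [OneMemClass.coe_one, act_one, sub_self]
      exact zero_mem _
  haveI : Finite (AddMonoid.End U) := Finite.of_injective (fun f => (f : U → U)) DFunLike.coe_injective
  have ht_add : ∀ b b', t (b * b') = t b + t b' := fun b b' => AddMonoidHom.ext fun u => by
    induction u using QuotientAddGroup.induction_on with
    | H x =>
      show tt (b * b') x = tt b x + tt b' x
      show phi (K := K) h.off g (a₁ : H) a₁.2 _ = phi (K := K) h.off g (a₁ : H) a₁.2 _ + phi (K := K) h.off g (a₁ : H) a₁.2 _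
      rw [← map_add]
      congr 1
      exact Subtype.ext (hoffB.comm_mul ρ b.2 b'.2 _)
  let S : AddSubgroup (AddMonoid.End U) :=
    { carrier := Set.range s
      zero_mem' := ⟨1, hs_one⟩
      add_mem' := by rintro _ _ ⟨a, rfl⟩ ⟨a', rfl⟩; exact ⟨_, hs_add a a'⟩
      neg_mem' := by
        rintro _ ⟨a, rfl⟩
        refine ⟨a⁻¹, eq_neg_of_add_eq_zero_left ?_⟩
        rw [← hs_add, inv_mul_cancel, hs_one] }
  let T : AddSubgroup (AddMonoid.End U) :=
    { carrier := Set.range t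
      zero_mem' := ⟨1, ht_one⟩
      add_mem' := by rintro _ _ ⟨a, rfl⟩ ⟨a', rfl⟩; exact ⟨_, ht_add a a'⟩
      neg_mem' := by
        rintro _ ⟨a, rfl⟩
        refine ⟨a⁻¹, eq_neg_of_add_eq_zero_left ?_⟩
        rw [← ht_add, inv_mul_cancel, ht_one] }
  have hs1 : s a₁ = 1 := AddMonoidHom.ext fun u => hlB u
  have hs_inj : ∀ a : A, a ≠ 1 → ∀ u, u ≠ 0 → s a u ≠ 0 := fun a ha u hu e => hu (by
    rw [← hlB u, hker a₁ _ ha₁]
    exact (hker a _ ha).1 e)
  have hinv : ∀ a : A, a ≠ 1 → ∃ b, s a * t b = 1 ∧ t b * s a = 1 := by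
    intro a ha
    obtain ⟨bb, hbb, hbag⟩ := h.cover (a : H) a.2 (fun e => ha (Subtype.ext e))
    let b : cj g A := ⟨bb, hbb⟩
    refine ⟨b, ?_⟩
    have h1 : s a * t b = 1 := AddMonoidHom.ext fun u => by
      induction u using QuotientAddGroup.induction_on with
      | H x =>
        show s a (tt b x) = QuotientAddGroup.mk x
        show s a (phi (K := K) h.off g a₁ a₁.2 _) = _
        rw [hs, phi_eq_iff]
        show (ρ (a : H) (ρ (b : H) x - x) - (ρ (b : H) x - x)) - (x : V) ∈ fx ρ K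
        have hbx : ρ (b : H) x ∈ fx ρ (cj ((a : H) * g) A) := show _ ∈ fx ρ (cj ((a : H) * g) A) from hbag.symm ▸ act_mem_fx ρ (b : H) x.2
        set y := ρ (a : H)⁻¹ (ρ (b : H) x) with hy
        have hyB : y ∈ fx ρ (cj g A) := by
          have := act_mem_fx ρ (a : H)⁻¹ hbx
          rwa [cj_cj, inv_mul_cancel_left] at this
        have hbx' : ρ (b : H) x = ρ (a : H) y := by rw [hy, act_inv']
        have hz : (x : V) - (ρ (a : H) y - y) ∈ fx ρ K := by
          rw [← hW]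
          refine AddSubgroup.mem_inf.2 ⟨sub_mem x.2 (h.off.comm_mem_fx ρ a.2 y), ?_⟩
          rw [show (x : V) - (ρ (a : H) y - y) = y - (ρ (b : H) x - x) by rw [hbx']; abel]
          exact sub_mem hyB (hpsi b x)
        have hd : ρ (b : H) x - x - y ∈ fx ρ K := by
          have := neg_mem hz
          rwa [show -((x : V) - (ρ (a : H) y - y)) = ρ (b : H) x - x - y by rw [hbx']; abel] at this
        have e1 : ρ (a : H) (ρ (b : H) x - x) - (ρ (b : H) x - x) = ρ (a : H) y - y := by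
          have e := hd _ (hAK a.2)
          rw [map_sub _ _ y, sub_eq_iff_eq_add] at e
          rw [e]
          abel
        rw [e1]
        have := neg_mem hz
        rwa [neg_sub] at this
    refine ⟨h1, AddMonoidHom.ext fun u => ?_⟩
    have hinj : Function.Injective (s a) := (injective_iff_map_eq_zero _).2 fun w hw => by
      by_contra hne
      exact hs_inj a ha w hne hw
    exact hinj (congrArg (fun f : AddMonoid.End U => f (s a u)) h1)
  have hS0 : ∀ x ∈ S, x ≠ 0 → ∃ y ∈ T, x * y = 1 ∧ y * x = 1 := by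
    rintro _ ⟨a, rfl⟩ hne
    have ha : a ≠ 1 := by
      rintro rfl
      exact hne hs_one
    obtain ⟨b, hb⟩ := hinv a ha
    exact ⟨t b, ⟨b, rfl⟩, hb⟩
  have hSinj : ∀ f ∈ S, ∀ u : U, u ≠ 0 → f u = 0 → f = 0 := by
    rintro _ ⟨a, rfl⟩ u hu hau
    by_contra hne
    refine hs_inj a (fun e => hne (e ▸ hs_one)) u hu hau
  have hScard : Nat.card S = Nat.card A := by
    refine le_antisymm (Nat.card_le_card_of_surjective (fun a => (⟨s a, a, rfl⟩ : S))
      (by rintro ⟨_, a, rfl⟩; exact ⟨a, rfl⟩))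
      (Nat.card_le_card_of_injective (fun a => (⟨s a, a, rfl⟩ : S)) fun a a' e => ?_)
    have e' : s a = s a' := congrArg Subtype.val e
    by_contra hne
    obtain ⟨u, hu⟩ := exists_ne (0 : U)
    refine hs_inj (a⁻¹ * a') (fun e1 => hne (inv_mul_eq_one.1 e1)) u hu ?_
    have h2 : s a u = s a u + s (a⁻¹ * a') u := by
      conv_lhs => rw [e', ← mul_inv_cancel_left a a', hs_add]
      rfl
    exact left_eq_add.1 h2
  have hTcard : Nat.card T ≤ Nat.card A := by
    rw [← card_cj g A]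
    exact Nat.card_le_card_of_surjective (fun b => (⟨t b, b, rfl⟩ : T))
      (by rintro ⟨_, b, rfl⟩; exact ⟨b, rfl⟩)
  have hpU : ∀ u : U, p • u = 0 := fun u => by
    induction u using QuotientAddGroup.induction_on with
    | H x =>
      rw [← QuotientAddGroup.mk_nsmul, show p • x = 0 from Subtype.ext (hV.exponent _)]
      rfl
  obtain ⟨F, instF, instFF, ι, hFc, hST, hc1, hc2⟩ :=
    exists_coord hpU S T ⟨a₁, hs1⟩ hSinj hS0 (hScard.trans hUcard.symm) (hTcard.trans hUcard.ge)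
  refine ⟨F, instF, instFF, ?_⟩
  choose σ hσ using fun a : A => hc1 (s a) ⟨a, rfl⟩
  choose τ hτ using fun b : cj g A => hc1 (t b) (hST ▸ ⟨b, rfl⟩)
  have huq : ∀ {c c' : F}, (∀ u, c * ι u = c' * ι u) → c = c' := fun {c c'} e => by
    simpa using e (ι.symm 1)
  -- coordinates
  let mkA : fx ρ A →+ U := QuotientAddGroup.mk' _
  let sum : fx ρ A × fx ρ (cj g A) →+ V :=
    AddMonoidHom.coprod (fx ρ A).subtype (fx ρ (cj g A)).subtype
  let co : fx ρ A × fx ρ (cj g A) →+ (Fin 2 → F) :=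
    { toFun := fun z => ![ι (mkA z.1), ι (phi (K := K) h.off g a₁ a₁.2 z.2)]
      map_zero' := by ext i; fin_cases i <;> simp
      map_add' := fun z w => by ext i; fin_cases i <;> simp }
  have hsum : Function.Surjective sum := fun v => by
    obtain ⟨x, hx, y, hy, e⟩ :=
      AddSubgroup.mem_sup.1 (h.sup_eq ▸ AddSubgroup.mem_top v : v ∈ fx ρ A ⊔ fx ρ (cj g A))
    exact ⟨(⟨x, hx⟩, ⟨y, hy⟩), e⟩
  have hmk0 : ∀ x : fx ρ A, mkA x = 0 ↔ (x : V) ∈ fx ρ K := fun x => by
    rw [QuotientAddGroup.mk'_apply, QuotientAddGroup.eq_zero_iff, AddSubgroup.mem_addSubgroupOf]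
  have hco0 : ∀ z, co z = 0 ↔ (z.1 : V) ∈ fx ρ K ∧ (z.2 : V) ∈ fx ρ K := fun z => by
    constructor
    · intro e
      have e0 := congrFun e 0
      have e1 := congrFun e 1
      change ι (mkA z.1) = 0 at e0
      change ι (phi (K := K) h.off g a₁ a₁.2 z.2) = 0 at e1
      exact ⟨(hmk0 _).1 ((map_eq_zero_iff ι ι.injective).1 e0),
        (hker a₁ _ ha₁).1 ((map_eq_zero_iff ι ι.injective).1 e1)⟩
    · rintro ⟨e0, e1⟩
      ext i
      fin_cases i
      · show ι (mkA z.1) = 0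
        rw [(hmk0 _).2 e0, map_zero]
      · show ι (phi (K := K) h.off g a₁ a₁.2 z.2) = 0
        rw [(hker a₁ _ ha₁).2 e1, map_zero]
  have hsumker : sum.ker ≤ co.ker := fun z (hz : (z.1 : V) + (z.2 : V) = 0) => by
    show co z = 0
    rw [hco0]
    have h1 : (z.1 : V) ∈ fx ρ K := hW ▸ AddSubgroup.mem_inf.2 ⟨z.1.2, by rw [eq_neg_of_add_eq_zero_left hz]; exact neg_mem z.2.2⟩
    exact ⟨h1, by rw [eq_neg_of_add_eq_zero_right hz]; exact neg_mem h1⟩
  let ψ : V →+ (Fin 2 → F) := AddMonoidHom.liftOfSurjective sum hsum ⟨co, hsumker⟩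
  have hψ : ∀ z, ψ (sum z) = co z := fun z => AddMonoidHom.liftOfRightInverse_comp_apply _ _ _ ⟨co, hsumker⟩ z
  have hψs : Function.Surjective ψ := fun c => by
    obtain ⟨x, hx⟩ := QuotientAddGroup.mk'_surjective ((fx ρ K).addSubgroupOf (fx ρ A)) (ι.symm (c 0))
    obtain ⟨y, hy⟩ := hsurj1 (ι.symm (c 1))
    refine ⟨sum (x, y), ?_⟩
    rw [hψ]
    ext i
    fin_cases i
    · show ι (mkA x) = c 0
      rw [show mkA x = ι.symm (c 0) from hx, AddEquiv.apply_symm_apply]
    · show ι (phi (K := K) h.off g a₁ a₁.2 y) = c 1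
      rw [hy, AddEquiv.apply_symm_apply]
  have hψ0 : ∀ v, ψ v = 0 ↔ v ∈ fx ρ K := fun v => by
    obtain ⟨z, rfl⟩ := hsum v
    rw [hψ, hco0]
    refine ⟨fun e => add_mem e.1 e.2, fun e => ?_⟩
    have h1 : (z.1 : V) ∈ fx ρ K := by
      refine hW ▸ AddSubgroup.mem_inf.2 ⟨z.1.2, ?_⟩
      rw [show (z.1 : V) = sum z - z.2 from eq_sub_of_add_eq rfl]
      exact sub_mem (hzB e) z.2.2
    refine ⟨h1, ?_⟩
    rw [show (z.2 : V) = sum z - z.1 from eq_sub_of_add_eq' rfl]
    exact sub_mem e h1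
  -- the matrices
  have hup : ∀ a : A, ∀ v, ψ (ρ (a : H) v) =
      Matrix.mulVec !![1, σ a; 0, 1] (ψ v) := fun a v => by
    obtain ⟨⟨x, y⟩, rfl⟩ := hsum v
    have e : ρ (a : H) (sum (x, y)) = sum (x + ⟨ρ (a : H) y - y, h.off.comm_mem_fx ρ a.2 y⟩, y) := by
      show ρ (a : H) ((x : V) + y) = ((x : V) + (ρ (a : H) y - y)) + y
      rw [map_add, x.2 _ a.2]
      abel
    rw [e, hψ, hψ]
    ext i
    fin_cases i
    · show ι (mkA (x + _)) = (Matrix.mulVec _ ![ι (mkA x), ι (phi (K := K) h.off g a₁ a₁.2 y)]) 0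
      rw [map_add, map_add, show mkA ⟨ρ (a : H) y - y, h.off.comm_mem_fx ρ a.2 y⟩ = s a (phi (K := K) h.off g a₁ a₁.2 y) from
        (hs a y).symm, hσ]
      simp [Matrix.mulVec, dotProduct, Fin.sum_univ_two]
    · show ι (phi (K := K) h.off g a₁ a₁.2 y) = (Matrix.mulVec _ ![ι (mkA x), ι (phi (K := K) h.off g a₁ a₁.2 y)]) 1
      simp [Matrix.mulVec, dotProduct, Fin.sum_univ_two]
  have hlow : ∀ b : cj g A, ∀ v, ψ (ρ (b : H) v) =
      Matrix.mulVec !![1, 0; τ b, 1] (ψ v) := fun b v => by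
    obtain ⟨⟨x, y⟩, rfl⟩ := hsum v
    have e : ρ (b : H) (sum (x, y)) = sum (x, ⟨ρ (b : H) x - x, hpsi b x⟩ + y) := by
      show ρ (b : H) ((x : V) + y) = (x : V) + ((ρ (b : H) x - x) + y)
      rw [map_add, y.2 _ b.2]
      abel
    rw [e, hψ, hψ]
    ext i
    fin_cases i
    · show ι (mkA x) = (Matrix.mulVec _ ![ι (mkA x), ι (phi (K := K) h.off g a₁ a₁.2 y)]) 0
      simp [Matrix.mulVec, dotProduct, Fin.sum_univ_two]
    · show ι (phi (K := K) h.off g a₁ a₁.2 (_ + y)) = (Matrix.mulVec _ ![ι (mkA x), ι (phi (K := K) h.off g a₁ a₁.2 y)]) 1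
      rw [map_add, map_add, show phi (K := K) h.off g a₁ a₁.2 ⟨ρ (b : H) x - x, hpsi b x⟩ = t b (mkA x) from rfl,
        hτ]
      simp [Matrix.mulVec, dotProduct, Fin.sum_univ_two]
  let G' : Subgroup H :=
    { carrier := {k | ∃ M : Matrix.SpecialLinearGroup (Fin 2) F, ∀ v, ψ (ρ k v) = Matrix.mulVec M.1 (ψ v)}
      one_mem' := ⟨1, fun v => by rw [act_one, Matrix.SpecialLinearGroup.coe_one, Matrix.one_mulVec]⟩
      mul_mem' := by
        rintro k k' ⟨M, hM⟩ ⟨M', hM'⟩
        refine ⟨M * M', fun v => ?_⟩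
        rw [act_mul, hM, hM', Matrix.SpecialLinearGroup.coe_mul, Matrix.mulVec_mulVec]
      inv_mem' := by
        rintro k ⟨M, hM⟩
        refine ⟨M⁻¹, fun v => ?_⟩
        have := hM (ρ k⁻¹ v)
        rw [act_inv'] at this
        rw [this, Matrix.mulVec_mulVec, ← Matrix.SpecialLinearGroup.coe_mul, inv_mul_cancel,
          Matrix.SpecialLinearGroup.coe_one, Matrix.one_mulVec] }
  have hG' : K ≤ G' := hK ▸ sup_le (fun a ha => ⟨upS _, hup ⟨a, ha⟩⟩) (fun b hb => ⟨lowS _, hlow ⟨b, hb⟩⟩)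
  choose M hM using fun k : K => hG' k.2
  have huniq : ∀ {M₁ M₂ : Matrix.SpecialLinearGroup (Fin 2) F},
      (∀ v, Matrix.mulVec M₁.1 (ψ v) = Matrix.mulVec M₂.1 (ψ v)) → M₁ = M₂ := fun {M₁ M₂} e => by
    refine Subtype.ext (Matrix.ext_of_mulVec_single fun i => ?_)
    obtain ⟨v, hv⟩ := hψs (Pi.single i 1)
    rw [← hv, e]
  let φ : K →* Matrix.SpecialLinearGroup (Fin 2) F := MonoidHom.mk' M fun k k' => huniq fun v => by
    rw [← hM, Subgroup.coe_mul, act_mul, hM, hM, Matrix.SpecialLinearGroup.coe_mul, Matrix.mulVec_mulVec]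
  have hφA : ∀ a : A, φ ⟨a, hAK a.2⟩ = upS (σ a) := fun a => huniq fun v => by
    show Matrix.mulVec (M ⟨a, hAK a.2⟩).1 (ψ v) = _
    rw [← hM, hup a v]
    rfl
  have hφB : ∀ b : cj g A, φ ⟨b, hBK b.2⟩ = lowS (τ b) := fun b => huniq fun v => by
    show Matrix.mulVec (M ⟨b, hBK b.2⟩).1 (ψ v) = _
    rw [← hM, hlow b v]
    rfl
  have hrange : φ.range = ⊤ := by
    refine mem_of_transvections (fun c => ?_) (fun c => ?_)
    · obtain ⟨f, hf, hfc⟩ := hc2 c
      obtain ⟨a, rfl⟩ := hf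
      exact ⟨_, (hφA a).trans (congrArg upS (huq fun u => (hσ a u).symm.trans (hfc u)))⟩
    · obtain ⟨f, hf, hfc⟩ := hc2 c
      obtain ⟨b, rfl⟩ := (hST ▸ hf : f ∈ T)
      exact ⟨_, (hφB b).trans (congrArg lowS (huq fun u => (hτ b u).symm.trans (hfc u)))⟩
  have hφinj : Function.Injective φ := (injective_iff_map_eq_one _).2 fun k hk =>
    Subtype.ext (h.kill _ k.2 fun v => by
      rw [← hψ0, map_sub, hM k, show M k = 1 from hk, Matrix.SpecialLinearGroup.coe_one, Matrix.one_mulVec,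
        sub_self])
  refine ⟨?_, ⟨φ, ψ, ⟨hφinj, MonoidHom.range_eq_top.1 hrange⟩, hψs, hψ0, fun k v => hM k v⟩, fun x hx => ?_⟩
  · exact hFc.trans hUcard
  · refine ⟨a₁, a₁.2, lB (QuotientAddGroup.mk (⟨x, hx⟩ : fx ρ A)), ?_⟩
    have := (phi_eq_iff h.off a₁.2 _ _).1 (hlB (QuotientAddGroup.mk (⟨x, hx⟩ : fx ρ A)))
    have := neg_mem this
    rwa [neg_sub] at this

/-- A strongly embedded setup gives a block. -/
theorem Setup.block (hV : Ambient ρ p) (h : Setup ρ p K X A) : ∃ g, Block ρ K A g := by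
  have hc := concl hV h
  have IH : Below ρ p K := fun _ _ _ _ hs => concl hV hs
  obtain ⟨g, hg, hgX⟩ := h.exists_outside
  have hK : A ⊔ cj g A = K := h.sup_eq hV IH hg hgX
  have hW : fx ρ A ⊓ fx ρ (cj g A) = fx ρ K := by rw [← fx_sup, hK]
  have hp := h.pairData hV IH hg hgX
  have hB := h.rebase hg
  have hfree : ∀ a ∈ A, ∀ v ∈ fx ρ (cj g A), v ∉ fx ρ A → ρ a v - v ∈ fx ρ K → a = 1 := fun a ha v hv hvA he =>
    h.eq_one_of_comm_mem hV IH hg hgX ha hv hvA (hW.symm ▸ he)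
  refine ⟨g, h.off, hK, by rw [hp.card_fx, hW], hp.sup_eq, hfree, fun a ha ha1 => ?_, fun k hk hkz => ?_⟩
  · obtain ⟨i, hi⟩ := hB.blocks hV IH (g := g⁻¹) (inv_mem hg)
      (fun e => hgX (by
        have := mem_cj.1 e
        rw [show g⁻¹ * g⁻¹ * g = g⁻¹ by group] at this
        simpa using inv_mem this))
      (y := a) (h.hAK ha)
    have hmem := hB.conj_eq hV IH hi
    rcases i with - | b
    · exfalso
      simp only [rep, mul_one] at hi
      exact h.not_mem_cj hV hg hgX ha ha1 (by simpa using inv_mem hi)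
    refine ⟨b, b.2, congrArg (fx ρ) ?_⟩
    have := congrArg (cj a) hmem
    rw [cj_cj, mul_inv_cancel_left] at this
    simp only [rep] at this
    rw [cj_cj, cj_cj, inv_mul_cancel_right] at this
    exact this.symm
  · by_contra hk1
    have hkp : k ^ p = 1 := hV.pow_eq_one fun v => hkz v _ hk
    obtain ⟨z, hz, hle⟩ := hc.cover (Subgroup.zpowers k) (Subgroup.zpowers_le.2 hk)
      (fun x => by
        obtain ⟨n, hn⟩ := Subgroup.mem_zpowers_iff.1 x.2
        refine ⟨1, Subtype.ext ?_⟩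
        rw [pow_one, Subgroup.coe_pow, ← hn, ← zpow_natCast, ← zpow_mul, mul_comm, zpow_mul, zpow_natCast, hkp,
          _root_.one_zpow]
        rfl)
    set a : H := z⁻¹ * k * z with haz
    have ha : a ∈ A := mem_cj.1 (hle (Subgroup.mem_zpowers _))
    have ha1 : a ≠ 1 := fun e => hk1 (by rw [show k = z * a * z⁻¹ by rw [haz]; group, e]; simp)
    obtain ⟨v, hv, hvA⟩ : ∃ v ∈ fx ρ (cj g A), v ∉ fx ρ A := by
      by_contra hall
      push Not at hall
      have hle' : fx ρ (cj g A) ≤ fx ρ A := hall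
      have htop : fx ρ A = ⊤ := by rw [← hp.sup_eq]; exact (sup_eq_left.2 hle').symm
      exact ha1 (hV.faithful (AddMonoidHom.ext fun w => by
        show ρ a w = ρ 1 w
        rw [act_one]
        exact (htop ▸ AddSubgroup.mem_top w : w ∈ fx ρ A) a ha))
    refine ha1 (hfree a ha v hv hvA ?_)
    have h1 := hkz (ρ z v)
    have h2 : ρ a v - v = ρ z⁻¹ (ρ k (ρ z v) - ρ z v) := by
      rw [map_sub, act_inv, haz, act_mul, act_mul]
    rw [h2, h1 _ (inv_mem hz)]
    exact h1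

theorem exists_natural (hV : Ambient ρ p) (h : Setup ρ p K X A) :
    ∃ (F : Type) (_ : Field F) (_ : Fintype F), Natural ρ K A F :=
  let ⟨_, hb⟩ := h.block hV
  exists_natural_of_block hV hb

end CfsgLib.LocalEven.RankOneFF
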