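import Cfsg.Agent.Lib.LocalEven.RankOneFF.Basic

/-!
Two offenders in different blocks.
-/

set_option autoImplicit false
set_option linter.unusedSectionVars false
set_option linter.style.haveILetI false

namespace CfsgLib.LocalEven.RankOneFF

open CfsgLib.LocalEven.SylowIn

variable {H : Type*} [Group H] [Finite H] {V : Type*} [AddCommGroup V] [Finite V] {p : ℕ} [Fact p.Prime]
  {ρ : H →* AddMonoid.End V} {K X A : Subgroup H}

/-- The faithful elementary setting. -/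
structure Ambient (ρ : H →* AddMonoid.End V) (p : ℕ) : Prop where
  faithful : Function.Injective ρ
  exponent : ∀ v : V, p • v = 0

theorem act_pow_sub {x : H} {v : V} (h : ρ x (ρ x v - v) = ρ x v - v) :
    ∀ n : ℕ, ρ (x ^ n) v = v + n • (ρ x v - v)
  | 0 => by rw [pow_zero, act_one, zero_nsmul, add_zero]
  | n + 1 => by
    rw [pow_succ', act_mul, act_pow_sub h n, map_add, map_nsmul, h, succ_nsmul]
    abel

theorem Ambient.pow_eq_one (hV : Ambient ρ p) {x : H} (h : ∀ v, ρ x (ρ x v - v) = ρ x v - v) : x ^ p = 1 := by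
  refine hV.faithful (AddMonoidHom.ext fun v => ?_)
  show ρ (x ^ p) v = ρ 1 v
  rw [act_pow_sub (h v) p, hV.exponent, add_zero, act_one]

theorem Off.isPGroup (hV : Ambient ρ p) (hA : Off ρ A) : IsPGroup p A := fun a =>
  ⟨1, Subtype.ext (by rw [pow_one]; exact hV.pow_eq_one fun v => hA.quad a a.2 a a.2 v)⟩

theorem Off.comm (hV : Ambient ρ p) (hA : Off ρ A) {a b : H} (ha : a ∈ A) (hb : b ∈ A) : a * b = b * a := by
  refine hV.faithful (AddMonoidHom.ext fun v => ?_)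
  have h1 := hA.comm_mul ρ ha hb v
  have h2 := hA.comm_mul ρ hb ha v
  rw [add_comm, ← h1] at h2
  exact (sub_left_inj.1 h2).symm

theorem pord {P : Subgroup H} (hP : IsPGroup p P) {x : H} (hx : x ∈ P) : ∃ k : ℕ, orderOf x = p ^ k := by
  obtain ⟨k, hk⟩ := (IsPGroup.iff_orderOf.1 hP) ⟨x, hx⟩
  exact ⟨k, by rwa [Subgroup.orderOf_mk] at hk⟩

theorem exists_ne_one {P : Subgroup H} (hP : P ≠ ⊥) : ∃ x ∈ P, x ≠ (1 : H) :=
  (Subgroup.bot_or_exists_ne_one P).resolve_left hP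

theorem Setup.pord (hV : Ambient ρ p) (h : Setup ρ p K X A) {a : H} (ha : a ∈ A) :
    ∃ k : ℕ, orderOf a = p ^ k :=
  RankOneFF.pord (h.off.isPGroup hV) ha

/-- An element of `A` lies in no other block. -/
theorem Setup.not_mem_cj (hV : Ambient ρ p) (h : Setup ρ p K X A) {g : H} (hg : g ∈ K) (hgX : g ∉ X) {a : H}
    (ha : a ∈ A) (ha1 : a ≠ 1) : a ∉ cj g X := by
  intro hax
  rw [mem_cj] at hax
  refine hgX (h.ti g hg _ hax ?_ ?_ ?_)
  · intro e
    exact ha1 (by rw [show a = g * (g⁻¹ * a * g) * g⁻¹ by group, e]; group)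
  · obtain ⟨k, hk⟩ := h.pord hV ha
    refine ⟨k, ?_⟩
    rw [← hk]
    have := MulEquiv.orderOf_eq (MulAut.conj g⁻¹) a
    simpa using this
  · rw [show g * (g⁻¹ * a * g) * g⁻¹ = a by group]
    exact h.hAX ha

theorem Setup.translate_not_mem (hV : Ambient ρ p) (h : Setup ρ p K X A) {g : H} (hg : g ∈ K) (hgX : g ∉ X)
    {a : H} (ha : a ∈ A) : a * g ∉ X := fun e => hgX (by
  have := mul_mem (inv_mem (h.hAX ha)) e
  rwa [inv_mul_cancel_left] at this)

/-- A `p`-group meeting `A` nontrivially lies in `X`. -/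
theorem Setup.pgroup_le (hV : Ambient ρ p) (h : Setup ρ p K X A) {P : Subgroup H} (hPK : P ≤ K)
    (hP : IsPGroup p P) {a : H} (haP : a ∈ P) (haA : a ∈ A) (ha1 : a ≠ 1) : P ≤ X := by
  haveI : Nontrivial P := ⟨⟨⟨a, haP⟩, 1, fun e => ha1 (congrArg Subtype.val e)⟩⟩
  haveI := hP.center_nontrivial
  obtain ⟨z, hz⟩ := exists_ne (1 : Subgroup.center P)
  have hzc : ∀ y ∈ P, y * (z : P) = ((z : P) : H) * y := fun y hy =>
    congrArg Subtype.val (Subgroup.mem_center_iff.1 z.2 ⟨y, hy⟩)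
  have hz1 : ((z : P) : H) ≠ 1 := fun e => hz (Subtype.ext (Subtype.ext e))
  have hzX : ((z : P) : H) ∈ X := by
    refine h.ti _ (hPK (z : P).2) a (h.hAX haA) ha1 (RankOneFF.pord hP haP) ?_
    rw [← hzc a haP, mul_inv_cancel_right]
    exact h.hAX haA
  intro y hy
  refine h.ti y (hPK hy) _ hzX hz1 (RankOneFF.pord hP (z : P).2) ?_
  rw [hzc y hy, mul_inv_cancel_right]
  exact hzX

theorem le_closure_sup {P Q : Subgroup H} (hP : IsPGroup p P) (hQ : IsPGroup p Q) :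
    P ⊔ Q ≤ Subgroup.closure {x | x ∈ P ⊔ Q ∧ ∃ k : ℕ, orderOf x = p ^ k} :=
  sup_le (fun _ hx => Subgroup.subset_closure ⟨le_sup_left (a := P) hx, RankOneFF.pord hP hx⟩)
    (fun _ hx => Subgroup.subset_closure ⟨le_sup_right (b := Q) hx, RankOneFF.pord hQ hx⟩)

/-- The subgroup generated by the `p`-elements of `K` fixing `v`. -/
def pgen (ρ : H →* AddMonoid.End V) (p : ℕ) (K : Subgroup H) (v : V) : Subgroup H :=
  Subgroup.closure {x | (x ∈ K ∧ ρ x v = v) ∧ ∃ k : ℕ, orderOf x = p ^ k}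

theorem pgen_le (v : V) : pgen ρ p K v ≤ K := (Subgroup.closure_le _).2 fun _ hx => hx.1.1

theorem pgen_fix {v : V} {x : H} (hx : x ∈ pgen ρ p K v) : ρ x v = v :=
  show x ∈ stab ρ v from (Subgroup.closure_le _).2 (fun _ hy => hy.1.2) hx

theorem mem_pgen {v : V} {x : H} (hx : x ∈ K) (hxv : ρ x v = v) (hp : ∃ k : ℕ, orderOf x = p ^ k) :
    x ∈ pgen ρ p K v := Subgroup.subset_closure ⟨⟨hx, hxv⟩, hp⟩

theorem le_pgen (hV : Ambient ρ p) {D : Subgroup H} (hD : Off ρ D) (hDK : D ≤ K) {v : V} (hv : v ∈ fx ρ D) :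
    D ≤ pgen ρ p K v := fun x hx => mem_pgen (hDK hx) (hv x hx) (RankOneFF.pord (hD.isPGroup hV) hx)

theorem pgen_gen (v : V) :
    pgen ρ p K v ≤ Subgroup.closure {x | x ∈ pgen ρ p K v ∧ ∃ k : ℕ, orderOf x = p ^ k} :=
  (Subgroup.closure_le _).2 fun _ hx => Subgroup.subset_closure ⟨mem_pgen hx.1.1 hx.1.2 hx.2, hx.2⟩

theorem pgen_ne {v : V} (hgen : K ≤ Subgroup.closure {x | x ∈ K ∧ ∃ k : ℕ, orderOf x = p ^ k})
    (hv : v ∉ fx ρ K) : pgen ρ p K v ≠ K := fun e => hv fun x hx => pgen_fix (by rw [e]; exact hx)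

/-- The induction hypothesis. -/
def Below (ρ : H →* AddMonoid.End V) (p : ℕ) (K : Subgroup H) : Prop :=
  ∀ L X' A' : Subgroup H, L < K → Setup ρ p L X' A' → Concl ρ p L A'

theorem fix_of_member {k b : H} (hc : ∀ a ∈ A, a ≠ 1 → ∀ v, ρ a v = v → v ∈ fx ρ A) (hb : b ∈ cj k A)
    (hb1 : b ≠ 1) {v : V} (hv : ρ b v = v) : v ∈ fx ρ (cj k A) := by
  have hmem := mem_cj.1 hb
  have := hc _ hmem (fun e => hb1 (by rw [show b = k * (k⁻¹ * b * k) * k⁻¹ by group, e]; group)) (ρ k⁻¹ v) (by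
    rw [← act_mul, show k⁻¹ * b * k * k⁻¹ = k⁻¹ * b by group, act_mul, hv])
  have h2 := act_mem_fx ρ k this
  rwa [act_inv'] at h2

/-- A nontrivial element of `A` fixing a fixed point of another block fixes it through `A`. -/
theorem Setup.mem_fx_of_fixed (hV : Ambient ρ p) (h : Setup ρ p K X A) (IH : Below ρ p K) {g : H} (hg : g ∈ K)
    (hgX : g ∉ X) {a : H} (ha : a ∈ A) (ha1 : a ≠ 1) {v : V} (hv : v ∈ fx ρ (cj g A)) (hav : ρ a v = v) :
    v ∈ fx ρ A := by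
  by_cases hK : v ∈ fx ρ K
  · exact fx_anti ρ h.hAK hK
  have h' := h.rebase hg
  have hlt : pgen ρ p K v < K := lt_of_le_of_ne (pgen_le v) (pgen_ne h.gen hK)
  have ha' : a ∈ pgen ρ p K v := mem_pgen (h.hAK ha) hav (h.pord hV ha)
  have hs := h'.restrict (pgen_le v) (le_pgen hV h'.off h'.hAK hv) ha' (h.not_mem_cj hV hg hgX ha ha1) (pgen_gen v)
  have hc := IH _ _ _ hlt hs
  obtain ⟨k, hk, hle⟩ := hc.cover (Subgroup.zpowers a) (Subgroup.zpowers_le.2 ha')
    ((h.off.isPGroup hV).to_le (Subgroup.zpowers_le.2 ha))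
  have hab : a ∈ cj k (cj g A) := hle (Subgroup.mem_zpowers a)
  have hsub : fx ρ A ≤ fx ρ (cj k (cj g A)) := fun w hw => fix_of_member hc.fix hab ha1 (hw a ha)
  have heq : fx ρ A = fx ρ (cj k (cj g A)) := AddSubgroup.eq_of_le_of_card_ge hsub
    (le_of_eq (by rw [card_fx_cj, card_fx_cj]))
  rw [heq]
  exact fix_of_member hc.fix hab ha1 hav

/-- A commutator falling into the common fixed points is trivial. -/
theorem Setup.eq_one_of_comm_mem (hV : Ambient ρ p) (h : Setup ρ p K X A) (IH : Below ρ p K) {g : H} (hg : g ∈ K)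
    (hgX : g ∉ X) {a : H} (ha : a ∈ A) {v : V} (hv : v ∈ fx ρ (cj g A)) (hvA : v ∉ fx ρ A)
    (hw : ρ a v - v ∈ fx ρ A ⊓ fx ρ (cj g A)) : a = 1 := by
  by_contra ha1
  have h' := h.rebase hg
  set L := Subgroup.zpowers a ⊔ cj g A with hL
  have hLK : L ≤ K := sup_le (Subgroup.zpowers_le.2 (h.hAK ha)) h'.hAK
  have hzp : IsPGroup p (Subgroup.zpowers a) := (h.off.isPGroup hV).to_le (Subgroup.zpowers_le.2 ha)
  have haL : a ∈ L := le_sup_left (a := Subgroup.zpowers a) (Subgroup.mem_zpowers a)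
  -- `L` fixes the common fixed points
  let T : Subgroup H :=
    { carrier := {x | (∀ w ∈ fx ρ A ⊓ fx ρ (cj g A), ρ x w = w) ∧ ρ x v - v ∈ fx ρ A ⊓ fx ρ (cj g A)}
      one_mem' := ⟨fun w _ => act_one ρ w, by rw [act_one, sub_self]; exact zero_mem _⟩
      mul_mem' := fun {x y} hx hy => ⟨fun w hw => by rw [act_mul, hy.1 w hw, hx.1 w hw], by
        have e : ρ (x * y) v - v = (ρ x v - v) + (ρ y v - v) := by
          have := hx.1 _ hy.2
          rw [map_sub] at this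
          rw [act_mul, eq_add_of_sub_eq this]
          abel
        rw [e]
        exact add_mem hx.2 hy.2⟩
      inv_mem' := fun {x} hx => ⟨fun w hw => by
          conv_lhs => rw [← hx.1 w hw]
          exact act_inv ρ x w, by
        have := hx.1 _ hx.2
        have e : ρ x⁻¹ (ρ x v - v) = ρ x v - v := by
          conv_lhs => rw [← this]
          exact act_inv ρ x _
        rw [map_sub, act_inv] at e
        rw [show ρ x⁻¹ v - v = -(ρ x v - v) by rw [← e]; abel]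
        exact neg_mem hx.2⟩ }
  have hLT : L ≤ T := sup_le (Subgroup.zpowers_le.2 ⟨fun w hw => hw.1 a ha, hw⟩) fun x hx =>
    ⟨fun w hw => hw.2 x hx, by rw [hv x hx, sub_self]; exact zero_mem _⟩
  -- `a` is conjugate in `L` into the other block
  obtain ⟨k, hk, b, hb, hab⟩ : ∃ k ∈ L, ∃ b ∈ cj g A, a = k * b * k⁻¹ := by
    rcases eq_or_lt_of_le hLK with e | e
    · refine ⟨g⁻¹, e ▸ inv_mem hg, g * a * g⁻¹, conj_mem_cj g ha, by group⟩
    · have hs := h'.restrict hLK le_sup_right haL (h.not_mem_cj hV hg hgX ha ha1)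
        (le_closure_sup hzp (h'.off.isPGroup hV))
      obtain ⟨k, hk, hle⟩ := (IH _ _ _ e hs).cover (Subgroup.zpowers a) le_sup_left hzp
      exact ⟨k, hk, k⁻¹ * a * k, mem_cj.1 (hle (Subgroup.mem_zpowers a)), by group⟩
  have hkT := hLT hk
  refine hvA (h.mem_fx_of_fixed hV IH hg hgX ha ha1 hv ?_)
  -- the commutator map is a homomorphism on `L`
  have hbv : ρ b v = v := hv b hb
  have h1 : ρ k⁻¹ v - v ∈ fx ρ A ⊓ fx ρ (cj g A) := (inv_mem hkT).2
  have h2 : ρ b (ρ k⁻¹ v) = ρ k⁻¹ v := by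
    conv_lhs => rw [← sub_add_cancel (ρ k⁻¹ v) v]
    rw [map_add, h1.2 b hb, hbv, sub_add_cancel]
  rw [hab, act_mul, act_mul, h2, act_inv']

/-- The numbers of a pair of blocks. -/
structure PairData (ρ : H →* AddMonoid.End V) (K A : Subgroup H) (g : H) : Prop where
  card_V : Nat.card V = Nat.card A * Nat.card (fx ρ A)
  card_fx : Nat.card (fx ρ A) = Nat.card A * Nat.card (fx ρ A ⊓ fx ρ (cj g A) : AddSubgroup V)
  sup_eq : fx ρ A ⊔ fx ρ (cj g A) = ⊤
  surj : ∀ v ∈ fx ρ (cj g A), v ∉ fx ρ A → ∀ x ∈ fx ρ A, ∃ a ∈ A,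
    (ρ a v - v) - x ∈ fx ρ A ⊓ fx ρ (cj g A)

theorem card_sup_inf (P Q : AddSubgroup V) :
    Nat.card (P ⊔ Q : AddSubgroup V) * Nat.card (P ⊓ Q : AddSubgroup V) = Nat.card P * Nat.card Q := by
  have h1 := AddSubgroup.relIndex_mul_relIndex (⊥ : AddSubgroup V) Q (P ⊔ Q) bot_le le_sup_right
  have h2 := AddSubgroup.relIndex_mul_relIndex (⊥ : AddSubgroup V) (P ⊓ Q) P bot_le inf_le_left
  simp only [AddSubgroup.relIndex_bot_left] at h1 h2
  rw [AddSubgroup.relIndex_sup_right] at h1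
  rw [AddSubgroup.inf_relIndex_left] at h2
  rw [← h1, ← h2]
  ring

theorem Setup.pairData (hV : Ambient ρ p) (h : Setup ρ p K X A) (IH : Below ρ p K) {g : H} (hg : g ∈ K)
    (hgX : g ∉ X) : PairData ρ K A g := by
  classical
  have h' := h.rebase hg
  set W := fx ρ A ⊓ fx ρ (cj g A) with hW
  have hinj : ∀ v ∈ fx ρ (cj g A), v ∉ fx ρ A →
      Function.Injective fun a : A => (QuotientAddGroup.mk
        (⟨ρ (a : H) v - v, h.off.comm_mem_fx ρ a.2 v⟩ : fx ρ A) : fx ρ A ⧸ W.addSubgroupOf (fx ρ A)) := by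
    intro v hv hvA a b hab
    rw [QuotientAddGroup.eq, AddSubgroup.mem_addSubgroupOf] at hab
    have hw : ρ ((a : H)⁻¹ * (b : H)) v - v ∈ W := by
      rw [h.off.comm_mul ρ (inv_mem a.2) b.2, h.off.comm_inv ρ a.2]
      exact hab
    exact Subtype.ext (inv_mul_eq_one.1 (h.eq_one_of_comm_mem hV IH hg hgX (mul_mem (inv_mem a.2) b.2) hv hvA hw))
  have hWq : ∀ v ∈ fx ρ (cj g A), v ∉ fx ρ A →
      Nat.card A * Nat.card W ≤ Nat.card (fx ρ A) := fun v hv hvA => by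
    rw [AddSubgroup.card_eq_card_quotient_mul_card_addSubgroup (W.addSubgroupOf (fx ρ A)),
      Nat.card_congr (AddSubgroup.addSubgroupOfEquivOfLe (inf_le_left : W ≤ fx ρ A)).toEquiv]
    exact Nat.mul_le_mul_right _ (Nat.card_le_card_of_injective _ (hinj v hv hvA))
  obtain ⟨v, hv, hvA⟩ : ∃ v ∈ fx ρ (cj g A), v ∉ fx ρ A := by
    by_contra hall
    push Not at hall
    have heq : fx ρ (cj g A) = fx ρ A :=
      AddSubgroup.eq_of_le_of_card_ge hall (le_of_eq (card_fx_cj ρ g A).symm)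
    let T : Subgroup H :=
      { carrier := {x | x ∈ K ∧ (∀ w ∈ fx ρ A, ρ x w = w) ∧ ∀ u, ρ x u - u ∈ fx ρ A}
        one_mem' := ⟨one_mem _, fun w _ => act_one ρ w, fun u => by rw [act_one, sub_self]; exact zero_mem _⟩
        mul_mem' := fun {x y} hx hy => ⟨mul_mem hx.1 hy.1,
          fun w hw => by rw [act_mul, hy.2.1 w hw, hx.2.1 w hw], fun u => by
            rw [act_mul, ← sub_add_sub_cancel (ρ x (ρ y u)) (ρ y u) u]
            exact add_mem (hx.2.2 _) (hy.2.2 _)⟩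
        inv_mem' := fun {x} hx => ⟨inv_mem hx.1, fun w hw => by
            conv_lhs => rw [← hx.2.1 w hw]
            exact act_inv ρ x w, fun u => by
          have := neg_mem (hx.2.2 (ρ x⁻¹ u))
          rwa [act_inv', neg_sub] at this⟩ }
    have hT : IsPGroup p T := fun x => ⟨1, Subtype.ext (by
      rw [pow_one]
      exact hV.pow_eq_one fun u => x.2.2.1 _ (x.2.2.2 u))⟩
    have hAT : A ≤ T := fun a ha => ⟨h.hAK ha, fun w hw => hw a ha, fun u => h.off.comm_mem_fx ρ ha u⟩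
    have hBT : cj g A ≤ T := fun a ha =>
      ⟨h'.hAK ha, fun w hw => (heq.symm ▸ hw : w ∈ fx ρ (cj g A)) a ha, fun u => heq ▸ h'.off.comm_mem_fx ρ ha u⟩
    obtain ⟨a, ha, ha1⟩ := exists_ne_one h.off.ne_bot
    have hTX := h.pgroup_le hV (fun x (hx : x ∈ T) => hx.1) hT (hAT ha) ha ha1
    have hb : g * a * g⁻¹ ∈ cj g A := conj_mem_cj g ha
    exact hgX (h.ti g hg a (h.hAX ha) ha1 (h.pord hV ha) (hTX (hBT hb)))
  have h1 := hWq v hv hvA
  have h2 := h.off.off
  have h3 := card_sup_inf (fx ρ A) (fx ρ (cj g A))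
  rw [card_fx_cj, ← hW] at h3
  have h4 : Nat.card (fx ρ A ⊔ fx ρ (cj g A) : AddSubgroup V) ≤ Nat.card V := Finite.card_subtype_le _
  have hApos : 0 < Nat.card A := Nat.card_pos
  have hWpos : 0 < Nat.card W := Nat.card_pos
  have hfpos : 0 < Nat.card (fx ρ A) := Nat.card_pos
  have e1 : Nat.card (fx ρ A) * Nat.card (fx ρ A) ≤ Nat.card A * Nat.card (fx ρ A) * Nat.card W :=
    (le_of_eq h3.symm).trans (Nat.mul_le_mul_right _ (h4.trans h2))
  have e2 : Nat.card (fx ρ A) = Nat.card A * Nat.card W := by nlinarith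
  have e3 : Nat.card V = Nat.card A * Nat.card (fx ρ A) := by nlinarith
  refine ⟨e3, e2, AddSubgroup.eq_top_of_card_eq _ (le_antisymm h4 (by nlinarith)), fun u hu huA x hx => ?_⟩
  have hc : Nat.card A = Nat.card (fx ρ A ⧸ W.addSubgroupOf (fx ρ A)) := by
    have := AddSubgroup.card_eq_card_quotient_mul_card_addSubgroup (W.addSubgroupOf (fx ρ A))
    rw [Nat.card_congr (AddSubgroup.addSubgroupOfEquivOfLe (inf_le_left : W ≤ fx ρ A)).toEquiv, e2] at this
    exact Nat.eq_of_mul_eq_mul_right hWpos this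
  obtain ⟨a, ha⟩ := ((Nat.bijective_iff_injective_and_card _).2 ⟨hinj u hu huA, hc⟩).2
    (QuotientAddGroup.mk (⟨x, hx⟩ : fx ρ A))
  rw [QuotientAddGroup.eq, AddSubgroup.mem_addSubgroupOf] at ha
  refine ⟨a, a.2, ?_⟩
  have := neg_mem ha
  simpa [hW, sub_eq_add_neg, add_comm, add_left_comm, add_assoc] using this

end CfsgLib.LocalEven.RankOneFF
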