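import Cfsg.Agent.Lib.LocalEven.RankOneFF.Twist

/-!
A finite additive group of endomorphisms containing the identity, with only injective nonzero members and closed
under `(a, b) ↦ a b a`, is a field.
-/

set_option autoImplicit false
set_option linter.unusedSectionVars false
set_option linter.style.haveILetI false

namespace CfsgLib.LocalEven.RankOneFF.SpreadField

open Finset CfsgLib.LocalEven.RankOneFF.Twist

variable {p : ℕ} [Fact p.Prime] {U : Type*} [AddCommGroup U] [Finite U] [Nontrivial U]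

/-- The hypotheses. -/
structure Spread (S : AddSubgroup (AddMonoid.End U)) : Prop where
  one_mem : 1 ∈ S
  inj : ∀ s ∈ S, ∀ u : U, u ≠ 0 → s u = 0 → s = 0
  triple : ∀ a ∈ S, ∀ b ∈ S, a * b * a ∈ S

variable {S : AddSubgroup (AddMonoid.End U)}

theorem Spread.lin (hS : Spread S) {a b s : AddMonoid.End U} (ha : a ∈ S) (hb : b ∈ S) (hs : s ∈ S) :
    a * s * b + b * s * a ∈ S := by
  have h := sub_mem (sub_mem (hS.triple (a + b) (add_mem ha hb) s hs) (hS.triple a ha s hs)) (hS.triple b hb s hs)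
  convert h using 1
  noncomm_ring

theorem Spread.sq_mem (hS : Spread S) {a : AddMonoid.End U} (ha : a ∈ S) : a * a ∈ S := by
  simpa using hS.triple a ha 1 hS.one_mem

theorem Spread.pow_mem' (hS : Spread S) {a : AddMonoid.End U} (ha : a ∈ S) : ∀ n : ℕ, a ^ n ∈ S
  | 0 => by simpa using hS.one_mem
  | 1 => by simpa using ha
  | n + 2 => by
    have : a ^ (n + 2) = a * a ^ n * a := by rw [pow_succ, pow_succ']
    rw [this]
    exact hS.triple a ha _ (hS.pow_mem' ha n)

theorem Spread.mul_eq_zero (hS : Spread S) {a y : AddMonoid.End U} (ha : a ∈ S) (h : a * y = 0) :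
    a = 0 ∨ y = 0 := by
  by_contra hne
  push Not at hne
  obtain ⟨u, hu⟩ : ∃ u, y u ≠ 0 := by
    by_contra hall
    push Not at hall
    exact hne.2 (AddMonoidHom.ext hall)
  exact hne.1 (hS.inj a ha _ hu (show (a * y) u = 0 by rw [h]; rfl))

theorem sum_two_sq {F : Type*} [Field F] [Finite F] (x : F) : ∃ a b : F, a * a + b * b = x := by
  haveI := Fintype.ofFinite F
  by_cases h : ringChar F = 2
  · obtain ⟨a, ha⟩ := FiniteField.isSquare_of_char_two h x
    exact ⟨a, 0, by rw [ha, mul_zero, add_zero]⟩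
  · have hodd : Fintype.card F % 2 = 1 := FiniteField.odd_card_of_char_ne_two h
    obtain ⟨a, b, hab⟩ := FiniteField.exists_root_sum_quadratic (R := F)
      (f := Polynomial.X ^ 2) (g := Polynomial.X ^ 2 - Polynomial.C x) (Polynomial.degree_X_pow 2)
      (Polynomial.degree_X_pow_sub_C (by norm_num) x) hodd
    simp only [Polynomial.eval_pow, Polynomial.eval_X, Polynomial.eval_sub, Polynomial.eval_C] at hab
    exact ⟨a, b, by linear_combination hab⟩

variable {L : Type*} [Field L] [Finite L] [Algebra (ZMod p) L]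

/-- A maximal field inside the spread. -/
structure Maximal (S : AddSubgroup (AddMonoid.End U)) (f : L →+* AddMonoid.End U) : Prop where
  mem : ∀ l, f l ∈ S
  maximal : ∀ y ∈ S, (∀ l, y * f l = f l * y) → ∃ l, f l = y

variable {f : L →+* AddMonoid.End U}

theorem twist_zero (f : L →+* AddMonoid.End U) {l : L} {y : AddMonoid.End U} (hl : l ≠ 0) (h : f l * y = 0) :
    y = 0 := by
  calc y = f (l⁻¹ * l) * y := by rw [inv_mul_cancel₀ hl, map_one, one_mul]
    _ = f l⁻¹ * (f l * y) := by rw [map_mul, mul_assoc]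
    _ = 0 := by rw [h, mul_zero]

theorem f_injective (f : L →+* AddMonoid.End U) : Function.Injective f := by
  haveI : Nontrivial (AddMonoid.End U) := by
    obtain ⟨u, hu⟩ := exists_ne (0 : U)
    exact nontrivial_of_ne 1 0 fun e => hu (congrArg (fun g : AddMonoid.End U => g u) e)
  exact f.injective

theorem J_mem (hS : Spread S) (hf : Maximal S f) {s : AddMonoid.End U} (hs : s ∈ S) (t : L ≃ₐ[ZMod p] L) (c : L) :
    f c * P f t s + f (t⁻¹ c) * P f t⁻¹ s ∈ S := by
  rw [J_eq]
  exact sum_mem fun r _ => hS.lin (hf.mem _) (hf.mem _) hs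

theorem exists_half {t : L ≃ₐ[ZMod p] L} (ht : t ≠ 1) (hsq : t * t = 1) : ∃ c : L, c + t c = 1 := by
  have htt : ∀ x, t (t x) = x := fun x => by rw [← AlgEquiv.mul_apply, hsq, AlgEquiv.one_apply]
  by_cases h : ∃ c : L, c + t c ≠ 0
  · obtain ⟨c, hc⟩ := h
    refine ⟨c / (c + t c), ?_⟩
    rw [map_div₀, map_add, htt, add_comm (t c) c, ← add_div, div_self hc]
  · push Not at h
    exfalso
    apply ht
    ext x
    have h1 := h 1
    rw [map_one] at h1
    have hx := h x
    show t x = x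
    calc t x = -x := by linear_combination hx
      _ = x := by linear_combination -x * h1

theorem P_mem_of_inv (hS : Spread S) (hf : Maximal S f) {s : AddMonoid.End U} (hs : s ∈ S)
    {t : L ≃ₐ[ZMod p] L} (ht : t ≠ 1) (hsq : t * t = 1) : P f t s ∈ S := by
  obtain ⟨c, hc⟩ := exists_half ht hsq
  have h := J_mem hS hf hs t c
  rwa [inv_eq_of_mul_eq_one_left hsq, ← add_mul, ← map_add, hc, map_one, one_mul] at h

theorem P_one_mem (hS : Spread S) (hf : Maximal S f) {s : AddMonoid.End U} (hs : s ∈ S) :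
    ∃ l, f l = P f (1 : L ≃ₐ[ZMod p] L) s := by
  classical
  haveI := Fintype.ofFinite (L ≃ₐ[ZMod p] L)
  refine hf.maximal _ ?_ fun l => by simpa using tw_P f (1 : L ≃ₐ[ZMod p] L) s l
  suffices hsum : ∀ T : Finset (L ≃ₐ[ZMod p] L), (∀ t ∈ T, t⁻¹ ∈ T) → (1 : L ≃ₐ[ZMod p] L) ∉ T →
      ∑ t ∈ T, P f t s ∈ S by
    have h := hsum (univ.erase 1) (fun t ht => by simpa using ht) (by simp)
    have h2 := sum_P (p := p) f s
    rw [← add_sum_erase _ _ (mem_univ (1 : L ≃ₐ[ZMod p] L))] at h2
    rw [eq_sub_of_add_eq h2]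
    exact sub_mem hs h
  intro T
  induction T using Finset.strongInduction with
  | _ T ih =>
    intro hinv h1
    rcases T.eq_empty_or_nonempty with rfl | ⟨t, ht⟩
    · simp [zero_mem]
    have ht1 : t ≠ 1 := fun e => h1 (e ▸ ht)
    by_cases hsq : t * t = 1
    · rw [← add_sum_erase _ _ ht]
      refine add_mem (P_mem_of_inv hS hf hs ht1 hsq) (ih _ (erase_ssubset ht) (fun σ hσ => ?_) fun h => h1 (mem_of_mem_erase h))
      rw [mem_erase] at hσ ⊢
      refine ⟨fun e => hσ.1 ?_, hinv σ hσ.2⟩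
      rw [← inv_inv σ, e, inv_eq_of_mul_eq_one_left hsq]
    · have hne : t⁻¹ ≠ t := fun e => hsq (by nth_rewrite 1 [← e]; exact inv_mul_cancel t)
      have ht' : t⁻¹ ∈ T.erase t := mem_erase.2 ⟨hne, hinv t ht⟩
      rw [← add_sum_erase _ _ ht, ← add_sum_erase _ _ ht', ← add_assoc]
      refine add_mem ?_ (ih _ ((erase_ssubset ht').trans (erase_ssubset ht)) (fun σ hσ => ?_) fun h =>
        h1 (mem_of_mem_erase (mem_of_mem_erase h)))
      · simpa using J_mem hS hf hs t 1
      · rw [mem_erase, mem_erase] at hσ ⊢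
        refine ⟨fun e => hσ.2.1 (inv_injective e), fun e => hσ.1 ?_, hinv σ hσ.2.2⟩
        rw [← e, inv_inv]

/-- No nonzero member is twisted by an involution. -/
theorem invol_zero (hS : Spread S) (hf : Maximal S f) {a : AddMonoid.End U} (ha : a ∈ S)
    {t : L ≃ₐ[ZMod p] L} (ht : t ≠ 1) (hsq : t * t = 1) (hat : Tw f t a) : a = 0 := by
  by_contra ha0
  obtain ⟨k, hk⟩ : ∃ k, t k ≠ k := by
    by_contra h
    push Not at h
    exact ht (AlgEquiv.ext h)
  have hnr : ∀ l, f l ≠ a := fun l e => by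
    have h := hat k
    rw [← e, ← map_mul, ← map_mul] at h
    have h0 : f ((t k - k) * l) = 0 := by rw [sub_mul, map_sub, ← h, mul_comm l k, sub_self]
    rw [map_mul, e] at h0
    exact ha0 (twist_zero f (sub_ne_zero.2 hk) h0)
  obtain ⟨κ, hκ⟩ := hf.maximal _ (hS.sq_mem ha) fun l => by
    have := hat.mul f hat l
    rwa [hsq, AlgEquiv.one_apply] at this
  have hfix : t κ = κ := by
    have h : f (t κ - κ) * a = 0 := by
      rw [map_sub, sub_mul, ← hat κ, hκ]
      noncomm_ring
    by_contra hne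
    exact ha0 (twist_zero f (sub_ne_zero.2 hne) h)
  obtain ⟨l, hl⟩ := exists_norm t hfix
  haveI : Fact (Nat.Prime 2) := ⟨Nat.prime_two⟩
  rw [orderOf_eq_prime (by rw [pow_two, hsq]) ht, prod_range_succ, prod_range_one, pow_zero, pow_one,
    AlgEquiv.one_apply] at hl
  have h : (f l - a) * (f (t l) + a) = 0 := by
    rw [sub_mul, mul_add, mul_add, ← map_mul, hat (t l), show t (t l) = l by
      rw [← AlgEquiv.mul_apply, hsq, AlgEquiv.one_apply], hl, hκ]
    abel
  rcases hS.mul_eq_zero (sub_mem (hf.mem l) ha) h with h' | h'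
  · exact hnr l (sub_eq_zero.1 h')
  · exact hnr (-t l) (by rw [map_neg]; exact (eq_neg_of_add_eq_zero_right h').symm)

/-- A pair of opposite twisted endomorphisms whose symmetrical combinations lie in the spread. -/
structure Pair (S : AddSubgroup (AddMonoid.End U)) (f : L →+* AddMonoid.End U) (t : L ≃ₐ[ZMod p] L)
    (a b : AddMonoid.End U) : Prop where
  ne : t * t ≠ 1
  ha : Tw f t a
  hb : Tw f t⁻¹ b
  a_ne : a ≠ 0
  mem : ∀ c, f c * a + f (t⁻¹ c) * b ∈ S

variable {t : L ≃ₐ[ZMod p] L} {a b : AddMonoid.End U}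

theorem Pair.ne_one (h : Pair S f t a b) : t ≠ 1 := fun e => h.ne (by rw [e, mul_one])

theorem Pair.exists_products (hS : Spread S) (hf : Maximal S f) (h : Pair S f t a b) :
    ∃ u v : L, a * b = f u ∧ b * a = f v ∧ t v = u := by
  classical
  have tinv : ∀ x, t (t⁻¹ x) = x := fun x => by rw [← AlgEquiv.mul_apply, mul_inv_cancel, AlgEquiv.one_apply]
  have hinv2 : t⁻¹ * t⁻¹ ≠ 1 := fun e => h.ne (by simpa using congrArg Inv.inv e)
  have hab : Tw f (1 : L ≃ₐ[ZMod p] L) (a * b) := by simpa using h.ha.mul f h.hb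
  have hba : Tw f (1 : L ≃ₐ[ZMod p] L) (b * a) := by simpa using h.hb.mul f h.ha
  have hc : ∀ c : L, ∃ l, f l = f (c * c) * (a * b) + f (t⁻¹ (c * c)) * (b * a) := by
    intro c
    obtain ⟨l, hl⟩ := P_one_mem (p := p) hS hf (hS.sq_mem (h.mem c))
    refine ⟨l, hl.trans ?_⟩
    have e : (f c * a + f (t⁻¹ c) * b) * (f c * a + f (t⁻¹ c) * b) = f (c * t c) * (a * a) + f (c * c) * (a * b) +
        (f (t⁻¹ (c * c)) * (b * a) + f (t⁻¹ c * t⁻¹ (t⁻¹ c)) * (b * b)) := by
      rw [add_mul, mul_add, mul_add]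
      congr 1 <;> congr 1
      · rw [map_mul, mul_assoc, ← mul_assoc a, h.ha c]; noncomm_ring
      · rw [map_mul, mul_assoc, ← mul_assoc a, h.ha (t⁻¹ c), tinv]; noncomm_ring
      · rw [map_mul t⁻¹, map_mul, mul_assoc, ← mul_assoc b, h.hb c]; noncomm_ring
      · rw [map_mul, mul_assoc, ← mul_assoc b, h.hb (t⁻¹ c)]; noncomm_ring
    rw [e]
    simp only [P_add, P_smul, P_of_tw f (h.ha.mul f h.ha), P_of_tw f hab, P_of_tw f hba,
      P_of_tw f (h.hb.mul f h.hb), if_true, if_neg h.ne.symm, if_neg hinv2.symm, mul_zero, zero_add, add_zero]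
  have hk : ∀ k : L, ∃ l, f l = f k * (a * b) + f (t⁻¹ k) * (b * a) := by
    intro k
    obtain ⟨x, y, rfl⟩ := sum_two_sq k
    obtain ⟨l, hl⟩ := hc x
    obtain ⟨l', hl'⟩ := hc y
    refine ⟨l + l', ?_⟩
    rw [map_add, hl, hl', map_add, map_add, map_add]
    noncomm_ring
  obtain ⟨k, hk'⟩ : ∃ k, t⁻¹ k ≠ k := by
    by_contra hall
    push Not at hall
    exact h.ne_one (inv_eq_one.1 (AlgEquiv.ext hall))
  obtain ⟨l₁, hl₁⟩ := hk 1
  obtain ⟨lk, hlk⟩ := hk k
  simp only [map_one, one_mul] at hl₁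
  have hd : t⁻¹ k - k ≠ 0 := sub_ne_zero.2 hk'
  have e : f (t⁻¹ k - k) * (b * a) = f (lk - k * l₁) := by
    rw [map_sub, map_sub, map_mul, hlk, hl₁]
    noncomm_ring
  set v := (t⁻¹ k - k)⁻¹ * (lk - k * l₁) with hv
  have hba' : b * a = f v := by
    calc b * a = f ((t⁻¹ k - k)⁻¹ * (t⁻¹ k - k)) * (b * a) := by rw [inv_mul_cancel₀ hd, map_one, one_mul]
      _ = _ := by rw [map_mul, mul_assoc, e, ← map_mul]
  refine ⟨l₁ - v, v, ?_, hba', ?_⟩
  · rw [map_sub, hl₁, hba', add_sub_cancel_right]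
  · have h0 : f (t v - (l₁ - v)) * a = 0 := by
      rw [map_sub, sub_mul, ← h.ha v, ← hba', map_sub, hl₁, ← hba']
      noncomm_ring
    by_contra hne
    exact h.a_ne (twist_zero f (sub_ne_zero.2 hne) h0)

/-- The data of a pair: products and the quadratic relation of `a ^ orderOf t`. -/
structure Rel (f : L →+* AddMonoid.End U) (t : L ≃ₐ[ZMod p] L) (a b : AddMonoid.End U)
    (u v σ π : L) : Prop where
  ab : a * b = f u
  ba : b * a = f v
  tv : t v = u
  sum : a ^ orderOf t + b ^ orderOf t = f σ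
  prod : a ^ orderOf t * b ^ orderOf t = f π
  pi : π = ∏ j ∈ range (orderOf t), (t ^ j) u
  fix_sum : t σ = σ
  fix_prod : t π = π
  quad : a ^ orderOf t * a ^ orderOf t - f σ * a ^ orderOf t + f π = 0
  z_comm_b : b * a ^ orderOf t = a ^ orderOf t * b
  z_comm : ∀ l, a ^ orderOf t * f l = f l * a ^ orderOf t

theorem Pair.exists_rel (hS : Spread S) (hf : Maximal S f) (h : Pair S f t a b) :
    ∃ u v σ π : L, Rel f t a b u v σ π := by
  classical
  obtain ⟨u, v, hab, hba, htv⟩ := h.exists_products hS hf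
  set e := orderOf t with he
  have he2 : 2 < e := by
    have h0 : 0 < e := orderOf_pos t
    have h1 : e ≠ 1 := fun h1 => h.ne_one (orderOf_eq_one_iff.1 h1)
    have h2 : e ≠ 2 := fun h2 => h.ne (by rw [← pow_two, ← h2, he, pow_orderOf_eq_one])
    omega
  have te : t ^ e = 1 := pow_orderOf_eq_one t
  have hze : Tw f (1 : L ≃ₐ[ZMod p] L) (a ^ e) := te ▸ h.ha.pow f e
  have hze' : Tw f (1 : L ≃ₐ[ZMod p] L) (b ^ e) := by
    have := h.hb.pow f e
    rwa [inv_pow, te, inv_one] at this
  have hza : a * a ^ e = a ^ e * a := (Commute.pow_right (Commute.refl a) e).eq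
  have hzb : b * b ^ e = b ^ e * b := (Commute.pow_right (Commute.refl b) e).eq
  -- `a` commutes with `b ^ e`
  have hazb : a * b ^ e = b ^ e * a := by
    have hb1 := h.hb.pow f (e - 1) v
    have hti : (t⁻¹ ^ (e - 1) : L ≃ₐ[ZMod p] L) = t := by
      have hsucc : t⁻¹ ^ (e - 1) * t⁻¹ = 1 := by
        rw [← pow_succ, show e - 1 + 1 = e by omega, inv_pow, te, inv_one]
      simpa using mul_eq_one_iff_eq_inv.1 hsucc
    rw [hti, htv] at hb1
    conv_lhs => rw [show e = e - 1 + 1 by omega, pow_succ', ← mul_assoc, hab]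
    conv_rhs => rw [show e = e - 1 + 1 by omega, pow_succ, mul_assoc, hba, hb1]
  have hprod : ∀ n : ℕ, a ^ n * b ^ n = f (∏ j ∈ range n, (t ^ j) u) := by
    intro n
    induction n with
    | zero => simp
    | succ n ih =>
      rw [pow_succ a, pow_succ' b, prod_range_succ]
      calc a ^ n * a * (b * b ^ n) = a ^ n * (a * b) * b ^ n := by noncomm_ring
        _ = f ((t ^ n) u) * (a ^ n * b ^ n) := by rw [hab, h.ha.pow f n u]; noncomm_ring
        _ = _ := by rw [ih, ← map_mul, mul_comm]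
  -- lower terms of the powers of `a + b`
  let gens : ℕ → Set (AddMonoid.End U) :=
    fun n => {y | ∃ (k : L) (j : ℕ), j < n ∧ (y = f k * a ^ j ∨ y = f k * b ^ j)}
  let W : ℕ → AddSubgroup (AddMonoid.End U) := fun n => AddSubgroup.closure (gens n)
  have hW : ∀ n (y : AddMonoid.End U), y ∈ W n → (a + b) * y ∈ W (n + 1) := by
    intro n y hy
    induction hy using AddSubgroup.closure_induction with
    | mem y hy =>
      obtain ⟨k, j, hj, rfl | rfl⟩ := hy
      · rw [add_mul, ← mul_assoc, ← mul_assoc, h.ha k, h.hb k, mul_assoc, mul_assoc, ← pow_succ']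
        refine add_mem (AddSubgroup.subset_closure ⟨_, _, by omega, Or.inl rfl⟩) ?_
        rcases j with - | j
        · exact AddSubgroup.subset_closure ⟨t⁻¹ k, 1, by omega, Or.inr (by simp)⟩
        · rw [pow_succ', ← mul_assoc b, hba, ← mul_assoc, ← map_mul]
          exact AddSubgroup.subset_closure ⟨_, _, by omega, Or.inl rfl⟩
      · rw [add_mul, ← mul_assoc, ← mul_assoc, h.ha k, h.hb k, mul_assoc, mul_assoc, ← pow_succ']
        refine add_mem ?_ (AddSubgroup.subset_closure ⟨_, _, by omega, Or.inr rfl⟩)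
        rcases j with - | j
        · exact AddSubgroup.subset_closure ⟨t k, 1, by omega, Or.inl (by simp)⟩
        · rw [pow_succ', ← mul_assoc a, hab, ← mul_assoc, ← map_mul]
          exact AddSubgroup.subset_closure ⟨_, _, by omega, Or.inr rfl⟩
    | zero => rw [mul_zero]; exact zero_mem _
    | add y y' _ _ ih ih' => rw [mul_add]; exact add_mem ih ih'
    | neg y _ ih => rw [mul_neg]; exact neg_mem ih
  have hpow : ∀ n, 1 ≤ n → (a + b) ^ n - (a ^ n + b ^ n) ∈ W n := by
    intro n hn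
    induction n, hn using Nat.le_induction with
    | base => simp [zero_mem]
    | succ n hn ih =>
      have e1 : (a + b) ^ (n + 1) - (a ^ (n + 1) + b ^ (n + 1)) =
          (a + b) * ((a + b) ^ n - (a ^ n + b ^ n)) + (a * b ^ n + b * a ^ n) := by
        simp only [pow_succ']
        noncomm_ring
      rw [e1]
      refine add_mem (hW n _ ih) (add_mem ?_ ?_)
      · rw [show n = n - 1 + 1 by omega, pow_succ', ← mul_assoc, hab]
        exact AddSubgroup.subset_closure ⟨_, _, by omega, Or.inr rfl⟩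
      · rw [show n = n - 1 + 1 by omega, pow_succ', ← mul_assoc, hba]
        exact AddSubgroup.subset_closure ⟨_, _, by omega, Or.inl rfl⟩
  have hPW : ∀ y ∈ W e, ∃ l, f l = P f (1 : L ≃ₐ[ZMod p] L) y := by
    intro y hy
    induction hy using AddSubgroup.closure_induction with
    | mem y hy =>
      obtain ⟨k, j, hj, rfl | rfl⟩ := hy
      · rw [P_smul, P_of_tw f (h.ha.pow f j)]
        rcases eq_or_ne j 0 with rfl | hj0
        · exact ⟨k, by simp⟩
        · rw [if_neg fun e1 => hj0 (Nat.eq_zero_of_dvd_of_lt (orderOf_dvd_of_pow_eq_one e1.symm) hj)]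
          exact ⟨0, by simp⟩
      · rw [P_smul, P_of_tw f (h.hb.pow f j)]
        rcases eq_or_ne j 0 with rfl | hj0
        · exact ⟨k, by simp⟩
        · rw [if_neg fun e1 => hj0 (Nat.eq_zero_of_dvd_of_lt (orderOf_dvd_of_pow_eq_one
            (inv_eq_one.1 ((inv_pow t j).symm.trans e1.symm))) hj)]
          exact ⟨0, by simp⟩
    | zero => exact ⟨0, by rw [map_zero, P_zero]⟩
    | add y y' _ _ ih ih' =>
      obtain ⟨l, hl⟩ := ih
      obtain ⟨l', hl'⟩ := ih'
      exact ⟨l + l', by rw [map_add, hl, hl', P_add]⟩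
    | neg y _ ih =>
      obtain ⟨l, hl⟩ := ih
      refine ⟨-l, ?_⟩
      have := P_add f (1 : L ≃ₐ[ZMod p] L) y (-y)
      rw [add_neg_cancel, P_zero] at this
      rw [map_neg, hl, eq_neg_of_add_eq_zero_right this.symm]
  have hx : a + b ∈ S := by simpa using h.mem 1
  obtain ⟨l, hl⟩ := P_one_mem (p := p) hS hf (hS.pow_mem' hx e)
  obtain ⟨l', hl'⟩ := hPW _ (hpow e (by omega))
  have hsum : a ^ e + b ^ e = f (l - l') := by
    rw [map_sub, hl, hl']
    have e1 := P_add f (1 : L ≃ₐ[ZMod p] L) ((a + b) ^ e - (a ^ e + b ^ e)) (a ^ e + b ^ e)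
    rw [sub_add_cancel] at e1
    rw [e1, P_add, P_of_tw f hze, P_of_tw f hze', if_pos rfl, if_pos rfl]
    abel
  have hfix : ∀ l : L, a * f l = f l * a → t l = l := fun l hc => by
    by_contra hne
    refine h.a_ne (twist_zero f (sub_ne_zero.2 hne) ?_)
    rw [map_sub, sub_mul, ← h.ha l, hc, sub_self]
  have hz' : b ^ e = f (l - l') - a ^ e := eq_sub_of_add_eq' hsum
  have hbf : b * f (l - l') = f (l - l') * b := by
    have htfix : t (l - l') = l - l' := hfix _ (by rw [← hsum, mul_add, add_mul, hza, hazb])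
    rw [h.hb, show t⁻¹ (l - l') = l - l' by
      conv_lhs => rw [← htfix]
      rw [← AlgEquiv.mul_apply, inv_mul_cancel, AlgEquiv.one_apply]]
  refine ⟨u, v, l - l', ∏ j ∈ range e, (t ^ j) u, hab, hba, htv, hsum, hprod e, rfl,
    hfix _ (by rw [← hsum, mul_add, add_mul, hza, hazb]),
    hfix _ (by rw [← hprod, ← mul_assoc, hza, mul_assoc, hazb, mul_assoc]), ?_, ?_, fun l => by simpa using hze l⟩
  · rw [← hprod, hz']
    have hc : f (l - l') * a ^ e = a ^ e * f (l - l') := (hze (l - l')).symm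
    rw [hc]
    noncomm_ring
  · have e1 : a ^ e = f (l - l') - b ^ e := eq_sub_of_add_eq hsum
    rw [e1, mul_sub, sub_mul, hbf, hzb]

theorem Pair.no_line (hS : Spread S) (hf : Maximal S f) (h : Pair S f t a b) {m : U} (hm : m ≠ 0) {l l' : L}
    (ha : a m = f l m) (hb : b m = f l' m) : False := by
  classical
  haveI := Fintype.ofFinite L
  let φ : L × L → L := fun x => x.1 + x.2 * l + t⁻¹ x.2 * l'
  obtain ⟨x, y, hxy, hne⟩ : ∃ x y, φ x = φ y ∧ x ≠ y := by
    refine Fintype.exists_ne_map_eq_of_card_lt φ ?_ |>.imp fun x => Exists.imp fun y hy => ⟨hy.2, hy.1⟩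
    rw [Fintype.card_prod]
    exact lt_mul_of_one_lt_left Fintype.card_pos Fintype.one_lt_card
  set k := x.1 - y.1 with hk
  set c := x.2 - y.2 with hc
  have hkc : k + c * l + t⁻¹ c * l' = 0 := by
    simp only [φ] at hxy
    rw [hk, hc, map_sub]
    linear_combination hxy
  have hw : f k + (f c * a + f (t⁻¹ c) * b) = 0 := by
    refine hS.inj _ (add_mem (hf.mem k) (h.mem c)) m hm ?_
    show f k m + (f c (a m) + f (t⁻¹ c) (b m)) = 0
    rw [ha, hb]
    show (f k + (f c * f l + f (t⁻¹ c) * f l')) m = 0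
    rw [← map_mul, ← map_mul, ← map_add, ← map_add, ← add_assoc, hkc, map_zero]
    rfl
  have h1 : t⁻¹ ≠ 1 := fun e => h.ne_one (inv_eq_one.1 e)
  have h2 : t ≠ t⁻¹ := fun e => h.ne (by nth_rewrite 2 [e]; exact mul_inv_cancel t)
  have hk0 : f k = 0 := by
    have := congrArg (P f (1 : L ≃ₐ[ZMod p] L)) hw
    rw [P_add, P_add, P_smul, P_smul, P_of_tw f h.ha, P_of_tw f h.hb, if_neg h.ne_one.symm, if_neg h1.symm,
      P_of_tw f (τ := 1) (fun l => by rw [AlgEquiv.one_apply, ← map_mul, ← map_mul, mul_comm]), if_pos rfl,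
      P_zero] at this
    simpa using this
  have hc0 : c = 0 := by
    by_contra hne'
    have := congrArg (P f t) hw
    rw [hk0, zero_add, P_add, P_smul, P_smul, P_of_tw f h.ha, P_of_tw f h.hb, if_pos rfl, if_neg h2, mul_zero,
      add_zero, P_zero] at this
    exact h.a_ne (twist_zero f hne' this)
  have hk' : k = 0 := by simpa [hc0] using hkc
  exact hne (Prod.ext (sub_eq_zero.1 hk') (sub_eq_zero.1 hc0))

variable {u v σ π : L}

theorem exists_root_ker (hr : Rel f t a b u v σ π) {r : L} (hroot : r * r - σ * r + π = 0) :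
    ∃ r' : L, (r' = r ∨ r' = σ - r) ∧ r' * r' - σ * r' + π = 0 ∧ ∃ m : U, m ≠ 0 ∧ (a ^ orderOf t) m = f r' m := by
  set z := a ^ orderOf t with hz
  obtain ⟨w, hw⟩ := exists_ne (0 : U)
  by_cases hker : z w = f (σ - r) w
  · exact ⟨σ - r, Or.inr rfl, by linear_combination hroot, w, hw, hker⟩
  · refine ⟨r, Or.inl rfl, hroot, z w - f (σ - r) w, sub_ne_zero.2 hker, ?_⟩
    have hzc := hr.z_comm
    have hq : z (z w) - f σ (z w) + f π w = 0 := congrArg (fun g : AddMonoid.End U => g w) hr.quad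
    rw [map_sub z, map_sub (f r)]
    have hzf : z (f (σ - r) w) = f (σ - r) (z w) := congrArg (fun g : AddMonoid.End U => g w) (hzc (σ - r))
    have hrr : f r (f (σ - r) w) = f π w := by
      show (f r * f (σ - r)) w = _
      rw [← map_mul, show r * (σ - r) = π by linear_combination -hroot]
    have hadd : f (σ - r) (z w) + f r (z w) = f σ (z w) := by
      show (f (σ - r) + f r) (z w) = _
      rw [← map_add, sub_add_cancel]
    rw [hzf, hrr]
    calc z (z w) - f (σ - r) (z w) = (z (z w) - f σ (z w) + f π w) + (f r (z w) - f π w) := by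
          rw [← hadd]; abel
      _ = _ := by rw [hq, zero_add]

theorem pow_kernel {A : AddMonoid.End U} : ∀ (n : ℕ) {w : U}, w ≠ 0 → (A ^ n) w = 0 →
    ∃ i, (A ^ i) w ≠ 0 ∧ A ((A ^ i) w) = 0
  | 0, w, hw, h => absurd h hw
  | n + 1, w, hw, h => by
    by_cases hn : (A ^ n) w = 0
    · exact pow_kernel n hw hn
    · exact ⟨n, hn, by rwa [pow_succ'] at h⟩

theorem Pair.no_fixed_root (hS : Spread S) (hf : Maximal S f) (h : Pair S f t a b) (hr : Rel f t a b u v σ π)
    {r : L} (hroot : r * r - σ * r + π = 0) (htr : t r = r) : False := by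
  obtain ⟨r', hr', hroot', m₀, hm₀, hzm⟩ := exists_root_ker hr hroot
  have htr' : t r' = r' := by
    rcases hr' with rfl | rfl
    · exact htr
    · rw [map_sub, hr.fix_sum, htr]
  set e := orderOf t with he
  set z := a ^ e with hz
  have he0 : e ≠ 0 := (orderOf_pos t).ne'
  have hza : z * a = a * z := (Commute.pow_left (Commute.refl a) e).eq
  by_cases h0 : r' = 0
  · -- `a` has a kernel
    subst h0
    rw [map_zero] at hzm
    obtain ⟨i, hi, hai⟩ := pow_kernel e hm₀ hzm
    set m₁ := (a ^ i) m₀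
    let N : AddSubgroup U := (show U →+ U from a).ker
    have hN : ∀ w, w ∈ N ↔ a w = 0 := fun w => Iff.rfl
    have hπ : π = 0 := by linear_combination hroot'
    have hu : u = 0 := by
      by_contra hu
      refine (Finset.prod_ne_zero_iff.2 fun j _ => ?_) (hr.pi.symm.trans hπ)
      exact fun hj => hu ((t ^ j).injective (hj.trans (map_zero _).symm))
    have hbN : ∀ w ∈ N, b w ∈ N := fun w _ => by
      rw [hN]
      show (a * b) w = 0
      rw [hr.ab, hu, map_zero]
      rfl
    have hLN : ∀ l, ∀ w ∈ N, f l w ∈ N := fun l w hw => by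
      rw [hN] at hw ⊢
      show (a * f l) w = 0
      rw [h.ha l]
      show f (t l) (a w) = 0
      rw [hw, map_zero]
    have hbe : (b ^ e) m₁ = f σ m₁ := by
      rw [← hr.sum]
      show _ = z m₁ + (b ^ e) m₁
      have : z m₁ = 0 := by
        rw [hz, show e = e - 1 + 1 by omega, pow_succ]
        show (a ^ (e - 1)) (a m₁) = 0
        rw [hai, map_zero]
      rw [this, zero_add]
    by_cases hσ : σ = 0
    · rw [hσ, map_zero] at hbe
      obtain ⟨j, hj, hbj⟩ := pow_kernel e hi hbe
      have hjN : (b ^ j) m₁ ∈ N := by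
        clear hj hbj
        induction j with
        | zero => exact hai
        | succ n ih => rw [pow_succ']; exact hbN _ ih
      exact h.no_line hS hf hj (l := 0) (l' := 0) (by rw [map_zero]; exact hjN) (by rw [map_zero]; exact hbj)
    · obtain ⟨m, hmN, hm, l, hl⟩ := exists_eigen f h.hb N hbN hLN (u₀ := m₁) hai hi (κ := σ)
        (t.injective (by rw [← AlgEquiv.mul_apply, mul_inv_cancel, AlgEquiv.one_apply, hr.fix_sum])) hσ
        (by rw [orderOf_inv]; exact hbe)
      exact h.no_line hS hf hm (l := 0) (by rw [map_zero]; exact hmN) hl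
  · let N : AddSubgroup U := (show U →+ U from z - f r').ker
    have hN : ∀ w, w ∈ N ↔ z w = f r' w := fun w => sub_eq_zero
    have haN : ∀ w ∈ N, a w ∈ N := fun w hw => by
      rw [hN] at hw ⊢
      show (z * a) w = (f r' * a) w
      rw [hza, show f r' * a = a * f r' by rw [h.ha, htr']]
      show a (z w) = a (f r' w)
      rw [hw]
    have hLN : ∀ l, ∀ w ∈ N, f l w ∈ N := fun l w hw => by
      rw [hN] at hw ⊢
      show (z * f l) w = (f r' * f l) w
      rw [hz, hr.z_comm, ← map_mul, mul_comm, map_mul]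
      show f l (z w) = f l (f r' w)
      rw [hw]
    obtain ⟨m, hmN, hm, l, hl⟩ := exists_eigen f h.ha N haN hLN (u₀ := m₀) ((hN m₀).2 hzm) hm₀ (κ := r')
      htr' h0 hzm
    have hl0 : l ≠ 0 := fun e0 => by
      rw [e0, map_zero] at hl
      have : z m = 0 := by
        rw [hz, show e = e - 1 + 1 by omega, pow_succ]
        show (a ^ (e - 1)) (a m) = 0
        rw [hl]
        exact map_zero _
      rw [(hN m).1 hmN] at this
      exact hm (by
        calc m = (f r'⁻¹ * f r') m := by rw [← map_mul, inv_mul_cancel₀ h0, map_one]; rfl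
          _ = f r'⁻¹ (f r' m) := rfl
          _ = 0 := by rw [this, map_zero])
    refine h.no_line hS hf hm hl (l' := t⁻¹ l⁻¹ * v) ?_
    calc b m = b (f l⁻¹ (f l m)) := by
          show b m = b ((f l⁻¹ * f l) m)
          rw [← map_mul, inv_mul_cancel₀ hl0, map_one]; rfl
      _ = (b * f l⁻¹) (a m) := by rw [hl]; rfl
      _ = (f (t⁻¹ l⁻¹) * (b * a)) m := by rw [h.hb]; rfl
      _ = _ := by rw [hr.ba, ← map_mul]

/-- The three components are independent when the relation has no fixed root. -/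
theorem Pair.indep (hS : Spread S) (hf : Maximal S f) (h : Pair S f t a b) (hr : Rel f t a b u v σ π)
    (hno : ∀ r : L, t r = r → r * r - σ * r + π ≠ 0) :
    ∀ k c d : L, ∃ w ∈ S, w = f k + (f c * a + f (t⁻¹ c) * b) +
      (f d * (a * a) + f ((t * t)⁻¹ d) * (b * b)) ∧ (w = 0 → k = 0 ∧ c = 0 ∧ d = 0) := by
  classical
  have h1 : t⁻¹ ≠ 1 := fun e => h.ne_one (inv_eq_one.1 e)
  have h2 : t ≠ t⁻¹ := fun e => h.ne (by nth_rewrite 2 [e]; exact mul_inv_cancel t)
  have hinv2 : t⁻¹ * t⁻¹ ≠ 1 := fun e => h.ne (by simpa using congrArg Inv.inv e)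
  have haa := h.ha.mul f h.ha
  have hbb := h.hb.mul f h.hb
  have hab : Tw f (1 : L ≃ₐ[ZMod p] L) (a * b) := by simpa using h.ha.mul f h.hb
  have hba : Tw f (1 : L ≃ₐ[ZMod p] L) (b * a) := by simpa using h.hb.mul f h.ha
  have hπ0 : π ≠ 0 := fun e => hno 0 (map_zero t) (by rw [e]; ring)
  have hu : u ≠ 0 := fun e => hπ0 (hr.pi.trans (Finset.prod_eq_zero (mem_range.2 (orderOf_pos t))
    (by rw [pow_zero, AlgEquiv.one_apply, e])))
  have haa0 : a * a ≠ 0 := fun e => by
    have h0 : f (t u) * a = 0 := by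
      rw [← h.ha u, ← hr.ab, ← mul_assoc, e, zero_mul]
    exact h.a_ne (twist_zero f (fun e' => hu (t.injective (e'.trans (map_zero t).symm))) h0)
  have hx : a + b ∈ S := by simpa using h.mem 1
  by_cases h4 : (t * t) * (t * t) = 1
  · -- order four
    exfalso
    have hbb' : (t⁻¹ * t⁻¹ : L ≃ₐ[ZMod p] L) = t * t := by
      rw [← mul_inv_rev]
      exact inv_eq_of_mul_eq_one_left h4
    have hy : a * a + b * b ∈ S := by
      have e : a * a + b * b = (a + b) * (a + b) - (f u + f v) := by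
        rw [← hr.ab, ← hr.ba]
        noncomm_ring
      rw [e]
      exact sub_mem (hS.sq_mem hx) (add_mem (hf.mem u) (hf.mem v))
    have hy0 := invol_zero hS hf hy h.ne h4 fun l => by
      rw [add_mul, mul_add, haa l]
      have := hbb l
      rw [hbb'] at this
      rw [this]
    have he4 : orderOf t = 4 := by
      haveI : Fact (Nat.Prime 2) := ⟨Nat.prime_two⟩
      have := orderOf_eq_prime_pow (x := t) (p := 2) (n := 1) (by rw [pow_one, pow_two]; exact h.ne)
        (by rw [show 2 ^ (1 + 1) = 2 + 2 by norm_num, pow_add, pow_two]; exact h4)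
      simpa using this
    have hz : b ^ orderOf t = a ^ orderOf t := by
      rw [he4, show (4 : ℕ) = 2 + 2 by norm_num, pow_add, pow_add, pow_two, pow_two,
        eq_neg_of_add_eq_zero_right hy0]
      noncomm_ring
    have hsum := hr.sum
    have hprod := hr.prod
    rw [hz] at hsum hprod
    by_cases hchar : (2 : L) = 0
    · haveI : Fintype L := Fintype.ofFinite L
      have hrc : ringChar L = 2 := by
        have hd : ringChar L ∣ 2 := (ringChar.spec L 2).1 (by exact_mod_cast hchar)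
        exact ((Nat.dvd_prime Nat.prime_two).1 hd).resolve_left CharP.ringChar_ne_one
      obtain ⟨r, hr2⟩ := FiniteField.isSquare_of_char_two hrc π
      have hσ : σ = 0 := by
        apply (f_injective f)
        rw [map_zero, ← hsum, ← two_mul, show (2 : AddMonoid.End U) = f 2 by rw [map_ofNat], hchar, map_zero,
          zero_mul]
      haveI : CharP L 2 := ringChar.of_eq hrc
      refine hno r ?_ ?_
      · apply CharTwo.sq_injective
        show t r ^ 2 = r ^ 2
        rw [pow_two, pow_two, ← map_mul, ← hr2, hr.fix_prod]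
      · rw [hσ, ← hr2, zero_mul, sub_zero, CharTwo.add_self_eq_zero]
    · set r := σ / 2 with hr2
      have hzr : a ^ orderOf t = f r := by
        rw [hr2, div_eq_inv_mul, map_mul, ← hsum, ← two_mul, show (2 : AddMonoid.End U) = f 2 by rw [map_ofNat],
          ← mul_assoc, ← map_mul, inv_mul_cancel₀ hchar, map_one, one_mul]
      have hπr : π = r * r := (f_injective f) (by rw [← hprod, hzr, map_mul])
      refine hno r (by rw [hr2, map_div₀, hr.fix_sum, map_ofNat]) ?_
      rw [hπr, hr2]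
      field_simp
      ring
  intro k c d
  have hne4 : t * t ≠ (t * t)⁻¹ := fun e => h4 (by nth_rewrite 2 [e]; exact mul_inv_cancel _)
  have hP : ∀ τ : L ≃ₐ[ZMod p] L, P f τ ((a + b) * (a + b)) = (if τ = t * t then a * a else 0) +
      (if τ = 1 then a * b else 0) + ((if τ = 1 then b * a else 0) + (if τ = t⁻¹ * t⁻¹ then b * b else 0)) := by
    intro τ
    rw [add_mul, mul_add, mul_add, P_add, P_add, P_add, P_of_tw f haa, P_of_tw f hab, P_of_tw f hba, P_of_tw f hbb]
  have hJ : f d * (a * a) + f ((t * t)⁻¹ d) * (b * b) ∈ S := by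
    have hj := J_mem hS hf (hS.sq_mem hx) (t * t) d
    have e1 : (t * t)⁻¹ = t⁻¹ * t⁻¹ := mul_inv_rev t t
    have hinv' : (t * t)⁻¹ ≠ 1 := fun e => h.ne (inv_eq_one.1 e)
    rw [hP, hP] at hj
    simp only [if_pos rfl, if_neg h.ne, if_neg hinv', if_pos e1, if_neg hne4.symm, ← e1, if_neg hne4] at hj
    simpa using hj
  refine ⟨_, add_mem (add_mem (hf.mem k) (h.mem c)) hJ, rfl, fun hw => ?_⟩
  have e1 : (t * t)⁻¹ = t⁻¹ * t⁻¹ := mul_inv_rev t t
  have hk1 : Tw f (1 : L ≃ₐ[ZMod p] L) (1 : AddMonoid.End U) := tw_one f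
  have hPw : ∀ τ : L ≃ₐ[ZMod p] L, f k * (if τ = 1 then 1 else 0) +
      (f c * (if τ = t then a else 0) + f (t⁻¹ c) * (if τ = t⁻¹ then b else 0)) +
      (f d * (if τ = t * t then a * a else 0) + f ((t * t)⁻¹ d) * (if τ = t⁻¹ * t⁻¹ then b * b else 0)) = 0 := by
    intro τ
    have := congrArg (P f τ) hw
    rw [← mul_one (f k), P_zero] at this
    simpa only [P_add, P_smul, P_of_tw f h.ha, P_of_tw f h.hb, P_of_tw f haa, P_of_tw f hbb, P_of_tw f hk1]
      using this
  have hd : d = 0 := by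
    by_contra hd
    by_cases h3 : t * t = t⁻¹
    · -- order three
      have he3 : orderOf t = 3 := by
        haveI : Fact (Nat.Prime 3) := ⟨Nat.prime_three⟩
        refine orderOf_eq_prime ?_ h.ne_one
        rw [pow_succ, pow_two, h3, inv_mul_cancel]
      have h3' : t⁻¹ * t⁻¹ = t := by rw [← e1, h3, inv_inv]
      have := hPw t⁻¹
      rw [if_neg h1, if_neg h2.symm, if_pos rfl, if_pos h3.symm, if_neg (by rw [h3']; exact h2.symm)] at this
      simp only [mul_zero, zero_add, add_zero] at this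
      have haa' : a * a = f (-(d⁻¹ * t⁻¹ c)) * b := by
        have h' : f d⁻¹ * (f (t⁻¹ c) * b + f d * (a * a)) = 0 := by rw [this, mul_zero]
        rw [mul_add, ← mul_assoc, ← mul_assoc, ← map_mul, ← map_mul, inv_mul_cancel₀ hd, map_one, one_mul] at h'
        rw [map_neg, neg_mul]
        exact eq_neg_of_add_eq_zero_right h'
      have hz : a ^ orderOf t = f (t (-(d⁻¹ * t⁻¹ c)) * u) := by
        rw [he3, pow_succ', pow_two, haa', ← mul_assoc, h.ha, mul_assoc, hr.ab, ← map_mul]
      set r := t (-(d⁻¹ * t⁻¹ c)) * u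
      have htr : t r = r := by
        by_contra hne
        refine h.a_ne (twist_zero f (sub_ne_zero.2 hne) ?_)
        rw [map_sub, sub_mul, ← h.ha, ← hz, (Commute.pow_right (Commute.refl a) (orderOf t)).eq, sub_self]
      refine hno r htr ((f_injective f) ?_)
      have hq := hr.quad
      rw [hz, ← map_mul, ← map_mul, ← map_sub, ← map_add] at hq
      rw [hq, map_zero]
    · have := hPw (t * t)
      have hnt : t * t ≠ t := fun e => h.ne_one (mul_eq_left.1 e)
      rw [if_neg h.ne, if_neg hnt, if_neg h3, if_pos rfl, if_neg (by rw [← e1]; exact hne4)] at this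
      simp only [mul_zero, zero_add, add_zero] at this
      exact haa0 (twist_zero f hd this)
  subst hd
  have hc := hPw t
  have hk := hPw 1
  rw [if_neg h.ne_one, if_pos rfl, if_neg h2] at hc
  rw [if_pos rfl, if_neg h.ne_one.symm, if_neg h1.symm] at hk
  simp only [map_zero, zero_mul, mul_zero, add_zero, zero_add, mul_one] at hc hk
  refine ⟨(f_injective f) (hk.trans (map_zero f).symm), ?_, rfl⟩
  by_contra hne
  exact h.a_ne (twist_zero f hne hc)

/-- No invariant subgroup is smaller than the space of the three components. -/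
theorem Pair.no_small (hS : Spread S) (hf : Maximal S f) (h : Pair S f t a b) (hr : Rel f t a b u v σ π)
    (hno : ∀ r : L, t r = r → r * r - σ * r + π ≠ 0) (M : AddSubgroup U) {m : U} (hm : m ∈ M) (hm0 : m ≠ 0)
    (haM : ∀ w ∈ M, a w ∈ M) (hbM : ∀ w ∈ M, b w ∈ M) (hLM : ∀ l, ∀ w ∈ M, f l w ∈ M)
    (hcard : Nat.card M ≤ Nat.card L * Nat.card L) : False := by
  choose w hwS hw hw0 using h.indep hS hf hr hno
  let φ : L × L × L → M := fun x => ⟨w x.1 x.2.1 x.2.2 m, by
    rw [hw]
    exact add_mem (add_mem (hLM _ _ hm) (add_mem (hLM _ _ (haM _ hm)) (hLM _ _ (hbM _ hm))))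
      (add_mem (hLM _ _ (haM _ (haM _ hm))) (hLM _ _ (hbM _ (hbM _ hm))))⟩
  have hinj : Function.Injective φ := by
    intro x y hxy
    have he : w (x.1 - y.1) (x.2.1 - y.2.1) (x.2.2 - y.2.2) = w x.1 x.2.1 x.2.2 - w y.1 y.2.1 y.2.2 := by
      simp only [hw, map_sub, sub_mul]
      abel
    have h0 := hw0 _ _ _ (hS.inj _ (hwS _ _ _) m hm0 (by
      rw [he]
      show w x.1 x.2.1 x.2.2 m - w y.1 y.2.1 y.2.2 m = 0
      rw [sub_eq_zero]
      exact congrArg Subtype.val hxy))
    exact Prod.ext (sub_eq_zero.1 h0.1) (Prod.ext (sub_eq_zero.1 h0.2.1) (sub_eq_zero.1 h0.2.2))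
  have h3 := Nat.card_le_card_of_injective φ hinj
  rw [Nat.card_prod, Nat.card_prod] at h3
  have : 1 < Nat.card L := Finite.one_lt_card
  nlinarith

end CfsgLib.LocalEven.RankOneFF.SpreadField
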