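import Cfsg.Agent.Lib.LocalEven.RankOneFF.SpreadField

/-!
A finite additive group of endomorphisms containing the identity, with only injective nonzero members and closed
under `(a, b) ↦ a b a`, is a field: conclusion of the proof.
-/

set_option autoImplicit false
set_option linter.unusedSectionVars false
set_option linter.style.haveILetI false

namespace CfsgLib.LocalEven.RankOneFF.SpreadField

open Finset CfsgLib.LocalEven.RankOneFF.Twist

variable {p : ℕ} [Fact p.Prime] {U : Type*} [AddCommGroup U] [Finite U] [Nontrivial U]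
  {S : AddSubgroup (AddMonoid.End U)} {L : Type*} [Field L] [Finite L] [Algebra (ZMod p) L]
  {f : L →+* AddMonoid.End U} {t : L ≃ₐ[ZMod p] L} {a b : AddMonoid.End U} {u v σ π : L}

/-- A root moved by the automorphism. -/
theorem Pair.no_moved_root (hS : Spread S) (hf : Maximal S f) (h : Pair S f t a b) (hr : Rel f t a b u v σ π)
    (hno : ∀ r : L, t r = r → r * r - σ * r + π ≠ 0) {r : L} (hroot : r * r - σ * r + π = 0) : False := by
  obtain ⟨r', -, hroot', m₀, hm₀, hzm⟩ := exists_root_ker hr hroot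
  set e := orderOf t with he
  set z := a ^ e with hz
  have htr : t r' ≠ r' := fun e' => hno r' e' hroot'
  have htroot : t r' * t r' - σ * t r' + π = 0 := by
    have := congrArg t hroot'
    simpa [hr.fix_sum, hr.fix_prod] using this
  have hswap : t r' = σ - r' := by
    have : (t r' - r') * (t r' - (σ - r')) = 0 := by linear_combination htroot - hroot'
    exact sub_eq_zero.1 ((mul_eq_zero.1 this).resolve_left (sub_ne_zero.2 htr))
  have htt : (t * t) r' = r' := by
    show t (t r') = r'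
    rw [hswap, map_sub, hr.fix_sum, hswap, sub_sub_cancel]
  have hr0 : r' ≠ 0 := by
    rintro rfl
    exact htr (map_zero t)
  have heven : 2 ∣ e := by
    by_contra hodd
    have hfix : ∀ n : ℕ, ((t * t) ^ n) r' = r' := fun n => by
      induction n with
      | zero => rfl
      | succ n ih => rw [pow_succ, AlgEquiv.mul_apply, htt, ih]
    obtain ⟨n, hn⟩ := Nat.odd_iff.2 (by omega : e % 2 = 1)
    have h1 : t = ((t * t) ^ n)⁻¹ := by
      rw [eq_inv_iff_mul_eq_one, ← pow_two, ← pow_mul, ← pow_succ', ← hn, he, pow_orderOf_eq_one]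
    apply htr
    have h2 := hfix n
    conv_lhs => rw [h1, ← h2, ← AlgEquiv.mul_apply, inv_mul_cancel, AlgEquiv.one_apply]
  obtain ⟨e', he'⟩ := heven
  have he2 : orderOf (t * t) = e' := by
    rw [← pow_two, orderOf_pow' t (by norm_num), ← he, he']
    simp [Nat.gcd_mul_right_left]
  have he'0 : e' ≠ 0 := by
    rintro rfl
    exact (orderOf_pos t).ne' (by rw [← he, he', mul_zero])
  have hzpow : (a * a) ^ e' = z := by rw [hz, he', ← pow_two, ← pow_mul]
  let N : AddSubgroup U := (show U →+ U from z - f r').ker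
  have hN : ∀ w, w ∈ N ↔ z w = f r' w := fun w => sub_eq_zero
  have hza : z * (a * a) = (a * a) * z := by
    rw [hz, ← pow_two, ← pow_add, ← pow_add, add_comm]
  have haN : ∀ w ∈ N, (a * a) w ∈ N := fun w hw => by
    rw [hN] at hw ⊢
    show (z * (a * a)) w = (f r' * (a * a)) w
    rw [hza, show f r' * (a * a) = (a * a) * f r' by rw [h.ha.mul f h.ha r', htt]]
    show (a * a) (z w) = (a * a) (f r' w)
    rw [hw]
  have hLN : ∀ l, ∀ w ∈ N, f l w ∈ N := fun l w hw => by
    rw [hN] at hw ⊢
    show (z * f l) w = (f r' * f l) w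
    rw [hz, hr.z_comm, ← map_mul, mul_comm, map_mul]
    show f l (z w) = f l (f r' w)
    rw [hw]
  obtain ⟨m, hmN, hm, l, hl⟩ := exists_eigen f (h.ha.mul f h.ha) N haN hLN (u₀ := m₀) ((hN m₀).2 hzm) hm₀
    htt hr0 (by rw [he2, hzpow]; exact hzm)
  have hl0 : l ≠ 0 := fun e0 => by
    rw [e0, map_zero] at hl
    have hz0 : z m = 0 := by
      rw [← hzpow, show e' = e' - 1 + 1 by omega, pow_succ]
      show ((a * a) ^ (e' - 1)) ((a * a) m) = 0
      rw [hl]
      exact map_zero _
    rw [(hN m).1 hmN] at hz0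
    exact hm (by
      calc m = (f r'⁻¹ * f r') m := by rw [← map_mul, inv_mul_cancel₀ hr0, map_one]; rfl
        _ = f r'⁻¹ (f r' m) := rfl
        _ = 0 := by rw [hz0, map_zero])
  have hbm : b m = f (t⁻¹ l⁻¹ * v) (a m) := by
    calc b m = b (f l⁻¹ (f l m)) := by
          show b m = b ((f l⁻¹ * f l) m)
          rw [← map_mul, inv_mul_cancel₀ hl0, map_one]; rfl
      _ = (b * f l⁻¹) (a (a m)) := by rw [← hl]; rfl
      _ = (f (t⁻¹ l⁻¹) * (b * a)) (a m) := by rw [h.hb]; rfl
      _ = _ := by rw [hr.ba, ← map_mul]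
  let M : AddSubgroup U :=
    { carrier := {w | ∃ k k' : L, w = f k m + f k' (a m)}
      zero_mem' := ⟨0, 0, by simp⟩
      add_mem' := by
        rintro _ _ ⟨k, k', rfl⟩ ⟨l, l', rfl⟩
        refine ⟨k + l, k' + l', ?_⟩
        rw [map_add, map_add]
        show _ = (f k m + f l m) + (f k' (a m) + f l' (a m))
        abel
      neg_mem' := by
        rintro _ ⟨k, k', rfl⟩
        refine ⟨-k, -k', ?_⟩
        rw [map_neg, map_neg, neg_add]
        rfl }
  refine h.no_small hS hf hr hno M (m := m) ⟨1, 0, by simp⟩ hm ?_ ?_ ?_ ?_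
  · rintro _ ⟨k, k', rfl⟩
    refine ⟨t k' * l, t k, ?_⟩
    rw [map_add]
    show (a * f k) m + (a * f k') (a m) = _
    rw [h.ha, h.ha]
    show f (t k) (a m) + f (t k') ((a * a) m) = _
    rw [hl, map_mul]
    exact add_comm _ _
  · rintro _ ⟨k, k', rfl⟩
    refine ⟨t⁻¹ k' * v, t⁻¹ k * (t⁻¹ l⁻¹ * v), ?_⟩
    rw [map_add]
    show (b * f k) m + (b * f k') (a m) = _
    rw [h.hb, h.hb]
    show f (t⁻¹ k) (b m) + f (t⁻¹ k') ((b * a) m) = _
    rw [hbm, hr.ba, map_mul f (t⁻¹ k') v, map_mul f (t⁻¹ k)]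
    exact add_comm _ _
  · rintro j _ ⟨k, k', rfl⟩
    refine ⟨j * k, j * k', ?_⟩
    rw [map_add, map_mul, map_mul]
    rfl
  · calc Nat.card M ≤ Nat.card (L × L) := Nat.card_le_card_of_surjective
          (fun x : L × L => (⟨f x.1 m + f x.2 (a m), x.1, x.2, rfl⟩ : M))
          (by rintro ⟨_, k, k', rfl⟩; exact ⟨(k, k'), rfl⟩)
      _ = _ := Nat.card_prod _ _

/-- No root in the field: the field of degree two. -/
theorem Pair.no_root [CharP L p] (hS : Spread S) (hf : Maximal S f) (h : Pair S f t a b) (hr : Rel f t a b u v σ π)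
    (hno : ∀ r : L, r * r - σ * r + π ≠ 0) : False := by
  classical
  set e := orderOf t with he
  set z := a ^ e with hz
  have hzl : ∀ l, z * f l = f l * z := hr.z_comm
  have hzz : z * z = f σ * z - f π := by
    have := hr.quad
    rw [← hz] at this
    rw [← sub_eq_zero, ← this]
    abel
  -- elements of the bigger field
  let g : L × L → AddMonoid.End U := fun x => f x.1 + f x.2 * z
  have hinj0 : ∀ k l : L, ∀ w : U, w ≠ 0 → g (k, l) w = 0 → k = 0 ∧ l = 0 := by
    intro k l w hw h0
    by_cases hl : l = 0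
    · subst hl
      refine ⟨?_, rfl⟩
      by_contra hk
      apply hw
      simp only [g, map_zero, zero_mul, add_zero] at h0
      calc w = (f k⁻¹ * f k) w := by rw [← map_mul, inv_mul_cancel₀ hk, map_one]; rfl
        _ = f k⁻¹ (f k w) := rfl
        _ = 0 := by rw [h0, map_zero]
    · exfalso
      set r := -(l⁻¹ * k) with hr'
      have hzw : z w = f r w := by
        have h1 : (f l⁻¹ * g (k, l)) w = 0 := by
          show f l⁻¹ (g (k, l) w) = 0
          rw [h0, map_zero]
        simp only [g] at h1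
        rw [mul_add, ← mul_assoc, ← map_mul, ← map_mul, inv_mul_cancel₀ hl, map_one, one_mul] at h1
        rw [hr', map_neg]
        exact eq_neg_of_add_eq_zero_right h1
      have h2 : f (r * r - σ * r + π) w = 0 := by
        have hq : (z * z) w = (f σ * z - f π) w := by rw [hzz]
        change z (z w) = f σ (z w) - f π w at hq
        rw [hzw] at hq
        have hz2 : z (f r w) = f r (f r w) := by
          show (z * f r) w = f r (f r w)
          rw [hzl]
          show f r (z w) = _
          rw [hzw]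
        rw [hz2] at hq
        rw [map_add, map_sub, map_mul, map_mul]
        show f r (f r w) - f σ (f r w) + f π w = 0
        rw [hq]
        abel
      apply hw
      calc w = (f (r * r - σ * r + π)⁻¹ * f (r * r - σ * r + π)) w := by
            rw [← map_mul, inv_mul_cancel₀ (hno r), map_one]; rfl
        _ = f (r * r - σ * r + π)⁻¹ (f (r * r - σ * r + π) w) := rfl
        _ = 0 := by rw [h2, map_zero]
  obtain ⟨w₀, hw₀⟩ := exists_ne (0 : U)
  have gsub : ∀ x y, g (x - y) = g x - g y := fun x y => by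
    simp only [g, Prod.fst_sub, Prod.snd_sub, map_sub, sub_mul]; abel
  have ginj : Function.Injective g := fun x y hxy => by
    obtain ⟨h1, h2⟩ := hinj0 (x.1 - y.1) (x.2 - y.2) w₀ hw₀ (by
      show g (x - y) w₀ = 0
      rw [gsub, hxy, sub_self]
      rfl)
    exact Prod.ext (sub_eq_zero.1 h1) (sub_eq_zero.1 h2)
  have gadd : ∀ x y, g (x + y) = g x + g y := fun x y => by
    simp only [g, Prod.fst_add, Prod.snd_add, map_add, add_mul]; abel
  have gmul : ∀ x y, g x * g y =
      g (x.1 * y.1 - x.2 * y.2 * π, x.1 * y.2 + x.2 * y.1 + x.2 * y.2 * σ) := by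
    intro x y
    simp only [g, map_sub, map_add, map_mul]
    rw [add_mul, mul_add, mul_add, mul_assoc (f x.2) z (f y.1), hzl, mul_assoc (f x.2) z, ← mul_assoc z (f y.2),
      hzl, mul_assoc (f y.2) z z, hzz]
    simp only [mul_add, add_mul, mul_sub, sub_mul, ← mul_assoc]
    abel
  let R : Subring (AddMonoid.End U) :=
    { carrier := Set.range g
      one_mem' := ⟨(1, 0), by simp [g]⟩
      zero_mem' := ⟨(0, 0), by simp [g]⟩
      mul_mem' := by rintro _ _ ⟨x, rfl⟩ ⟨y, rfl⟩; exact ⟨_, (gmul x y).symm⟩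
      add_mem' := by rintro _ _ ⟨x, rfl⟩ ⟨y, rfl⟩; exact ⟨_, gadd x y⟩
      neg_mem' := by rintro _ ⟨x, rfl⟩; exact ⟨-x, by simp [g, add_comm]⟩ }
  letI : CommRing R := { (inferInstance : Ring R) with
    mul_comm := by
      rintro ⟨_, x, rfl⟩ ⟨_, y, rfl⟩
      refine Subtype.ext ?_
      show g x * g y = g y * g x
      rw [gmul, gmul]
      congr 1
      ext <;> simp only <;> ring }
  haveI : Nontrivial R := ⟨⟨0, 1, fun e => hw₀ (congrArg (fun x : R => (x : AddMonoid.End U) w₀) e).symm⟩⟩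
  haveI : NoZeroDivisors R := ⟨fun {x y} hxy => by
    by_contra hne
    push Not at hne
    obtain ⟨⟨kx, lx⟩, hx⟩ := x.2
    obtain ⟨w, hw⟩ : ∃ w, (y : AddMonoid.End U) w ≠ 0 := by
      by_contra hall
      push Not at hall
      exact hne.2 (Subtype.ext (AddMonoidHom.ext hall))
    have h0 : g (kx, lx) ((y : AddMonoid.End U) w) = 0 := by
      rw [hx]
      exact congrArg (fun g : R => (g : AddMonoid.End U) w) hxy
    obtain ⟨h1, h2⟩ := hinj0 _ _ _ hw h0
    subst h1 h2
    exact hne.1 (Subtype.ext (by rw [← hx]; simp [g]))⟩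
  haveI : IsDomain R := NoZeroDivisors.to_isDomain R
  haveI : Finite R := Finite.of_surjective (fun x => (⟨g x, x, rfl⟩ : R)) (by rintro ⟨_, x, rfl⟩; exact ⟨x, rfl⟩)
  letI : Field R := (Finite.isDomain_to_isField R).toField
  let i : L →+* R :=
    { toFun := fun l => ⟨f l, (l, 0), by simp [g]⟩
      map_one' := Subtype.ext (map_one f)
      map_mul' := fun x y => Subtype.ext (map_mul f x y)
      map_zero' := Subtype.ext (map_zero f)
      map_add' := fun x y => Subtype.ext (map_add f x y) }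
  haveI : CharP R p := charP_of_injective_ringHom i.injective p
  letI : Algebra (ZMod p) R := ZMod.algebra R p
  let q : L × L ≃ R := Equiv.ofBijective (fun x => ⟨g x, x, rfl⟩)
    ⟨fun x y e => ginj (congrArg Subtype.val e), fun ⟨_, x, hx⟩ => ⟨x, Subtype.ext hx⟩⟩
  have hq : ∀ x, ((q x : R) : AddMonoid.End U) = g x := fun x => rfl
  have hqa : ∀ x y, q (x + y) = q x + q y := fun x y => Subtype.ext (gadd x y)
  have hqm : ∀ x y, q x * q y = q (x.1 * y.1 - x.2 * y.2 * π, x.1 * y.2 + x.2 * y.1 + x.2 * y.2 * σ) :=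
    fun x y => Subtype.ext (gmul x y)
  let T : R ≃+* R :=
    { q.symm.trans ((t.toEquiv.prodCongr t.toEquiv).trans q) with
      map_mul' := fun x y => by
        obtain ⟨x, rfl⟩ := q.surjective x
        obtain ⟨y, rfl⟩ := q.surjective y
        show q ((t.toEquiv.prodCongr t.toEquiv) (q.symm (q x * q y))) =
          q ((t.toEquiv.prodCongr t.toEquiv) (q.symm (q x))) * q ((t.toEquiv.prodCongr t.toEquiv) (q.symm (q y)))
        rw [hqm, Equiv.symm_apply_apply, Equiv.symm_apply_apply, Equiv.symm_apply_apply, hqm]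
        simp only [Equiv.prodCongr_apply, Prod.map_fst, Prod.map_snd, AlgEquiv.toEquiv_eq_coe, EquivLike.coe_coe,
          Prod.map_apply, map_sub, map_add, map_mul, hr.fix_sum, hr.fix_prod]
      map_add' := fun x y => by
        obtain ⟨x, rfl⟩ := q.surjective x
        obtain ⟨y, rfl⟩ := q.surjective y
        show q ((t.toEquiv.prodCongr t.toEquiv) (q.symm (q x + q y))) =
          q ((t.toEquiv.prodCongr t.toEquiv) (q.symm (q x))) + q ((t.toEquiv.prodCongr t.toEquiv) (q.symm (q y)))
        rw [← hqa, Equiv.symm_apply_apply, Equiv.symm_apply_apply, Equiv.symm_apply_apply, ← hqa]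
        simp [Prod.ext_iff, map_add] }
  let τ : R ≃ₐ[ZMod p] R := AlgEquiv.ofRingEquiv (f := T) fun n => by
    exact congrFun (congrArg DFunLike.coe
      (Subsingleton.elim (T.toRingHom.comp (algebraMap (ZMod p) R)) (algebraMap (ZMod p) R))) n
  have hτ : ∀ x, τ (q x) = q (t x.1, t x.2) := fun x => by
    show q ((t.toEquiv.prodCongr t.toEquiv) (q.symm (q x))) = _
    rw [Equiv.symm_apply_apply]
    rfl
  have hτn : ∀ n : ℕ, ∀ x, (τ ^ n) (q x) = q ((t ^ n) x.1, (t ^ n) x.2) := fun n => by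
    induction n with
    | zero => intro x; rfl
    | succ n ih =>
      intro x
      rw [pow_succ', pow_succ', AlgEquiv.mul_apply, ih, hτ]
      rfl
  have hord : orderOf τ = e := by
    refine orderOf_eq_orderOf_iff.2 fun n => ⟨fun hn => ?_, fun hn => ?_⟩
    · ext l
      have h1 := hτn n (l, 0)
      rw [hn, AlgEquiv.one_apply] at h1
      exact (congrArg Prod.fst (q.injective h1)).symm
    · ext x
      obtain ⟨x, rfl⟩ := q.surjective x
      rw [hτn, hn]
      rfl
  have hsub : ∀ x, (R.subtype (q x)) = g x := hq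
  have haz : z * a = a * z := (Commute.pow_left (Commute.refl a) e).eq
  have hAR : Tw R.subtype τ a := fun x => by
    obtain ⟨x, rfl⟩ := q.surjective x
    rw [hτ, hsub, hsub]
    simp only [g]
    rw [mul_add, add_mul, ← mul_assoc, h.ha, h.ha, mul_assoc, mul_assoc, haz]
  have htinv : ∀ l, t⁻¹ l = (t ^ (e - 1)) l := fun l => by
    rw [inv_eq_of_mul_eq_one_right (show t * t ^ (e - 1) = 1 by
      rw [← pow_succ', show e - 1 + 1 = e from Nat.sub_add_cancel (orderOf_pos t), he, pow_orderOf_eq_one])]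
  have hBR : Tw R.subtype τ⁻¹ b := fun x => by
    obtain ⟨⟨k, l⟩, rfl⟩ := q.surjective x
    have hi : τ⁻¹ (q (k, l)) = q (t⁻¹ k, t⁻¹ l) := by
      have : τ (q (t⁻¹ k, t⁻¹ l)) = q (k, l) := by
        rw [hτ]
        simp only [← AlgEquiv.mul_apply, mul_inv_cancel, AlgEquiv.one_apply]
      rw [← this, ← AlgEquiv.mul_apply, inv_mul_cancel, AlgEquiv.one_apply]
    rw [hi, hsub, hsub]
    simp only [g]
    rw [mul_add, add_mul, ← mul_assoc, h.hb, h.hb, mul_assoc, mul_assoc, hr.z_comm_b]
  have hz0 : q (0, 1) ≠ 0 := fun e0 => by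
    have : q (0, 1) = q (0, 0) := e0.trans (Subtype.ext (by simp [hq, g]))
    exact one_ne_zero (congrArg Prod.snd (q.injective this))
  obtain ⟨m, -, hm, x, hx⟩ := exists_eigen R.subtype hAR ⊤ (fun _ _ => AddSubgroup.mem_top _)
    (fun _ _ _ => AddSubgroup.mem_top _) (u₀ := w₀) (AddSubgroup.mem_top _) hw₀ (κ := q (0, 1))
    (by rw [hτ, map_zero, map_one]) hz0 (by rw [hord, hsub]; simp [g, hz])
  let M : AddSubgroup U :=
    { carrier := {w | ∃ y : R, w = (y : AddMonoid.End U) m}
      zero_mem' := ⟨0, rfl⟩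
      add_mem' := by rintro _ _ ⟨y, rfl⟩ ⟨y', rfl⟩; exact ⟨y + y', rfl⟩
      neg_mem' := by rintro _ ⟨y, rfl⟩; exact ⟨-y, rfl⟩ }
  have hx0 : x ≠ 0 := fun e0 => by
    rw [e0, map_zero] at hx
    have : z m = 0 := by
      rw [hz, show e = e - 1 + 1 from (Nat.sub_add_cancel (orderOf_pos t)).symm, pow_succ]
      show (a ^ (e - 1)) (a m) = 0
      rw [hx]
      exact map_zero _
    exact one_ne_zero (hinj0 0 1 m hm (by simpa [g] using this)).2
  have hfix : ∀ l, f l = (i l : AddMonoid.End U) := fun l => rfl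
  have hbm : b m = ((τ⁻¹ x⁻¹ * i v : R) : AddMonoid.End U) m := by
    calc b m = b (((x⁻¹ * x : R) : AddMonoid.End U) m) := by rw [inv_mul_cancel₀ hx0]; rfl
      _ = (b * ((x⁻¹ : R) : AddMonoid.End U)) (a m) := by rw [hx]; rfl
      _ = (R.subtype (τ⁻¹ x⁻¹) * (b * a)) m := by rw [← R.subtype_apply, hBR]; rfl
      _ = _ := by rw [hr.ba]; rfl
  refine h.no_small hS hf hr (fun r _ => hno r) M (m := m) ⟨1, rfl⟩ hm ?_ ?_ ?_ ?_
  · rintro _ ⟨y, rfl⟩
    refine ⟨τ y * x, ?_⟩
    show (a * R.subtype y) m = _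
    rw [hAR]
    show R.subtype (τ y) (a m) = _
    rw [hx]
    rfl
  · rintro _ ⟨y, rfl⟩
    refine ⟨τ⁻¹ y * (τ⁻¹ x⁻¹ * i v), ?_⟩
    show (b * R.subtype y) m = _
    rw [hBR]
    show R.subtype (τ⁻¹ y) (b m) = _
    rw [hbm]
    rfl
  · rintro l _ ⟨y, rfl⟩
    exact ⟨i l * y, rfl⟩
  · calc Nat.card M ≤ Nat.card R := Nat.card_le_card_of_surjective
          (fun y : R => (⟨(y : AddMonoid.End U) m, y, rfl⟩ : M)) (by rintro ⟨_, y, rfl⟩; exact ⟨y, rfl⟩)
      _ = _ := by rw [← Nat.card_congr q, Nat.card_prod]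

/-- No pair exists. -/
theorem Pair.false [CharP L p] (hS : Spread S) (hf : Maximal S f) (h : Pair S f t a b) : False := by
  obtain ⟨u, v, σ, π, hr⟩ := h.exists_rel hS hf
  by_cases h1 : ∃ r, t r = r ∧ r * r - σ * r + π = 0
  · obtain ⟨r, hr1, hr2⟩ := h1
    exact h.no_fixed_root hS hf hr hr2 hr1
  push Not at h1
  by_cases h2 : ∃ r, r * r - σ * r + π = 0
  · obtain ⟨r, hr2⟩ := h2
    exact h.no_moved_root hS hf hr h1 hr2
  push Not at h2
  exact h.no_root hS hf hr h2

/-- A maximal field is everything. -/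
theorem mem_range_of_maximal [CharP L p] (hS : Spread S) (hf : Maximal S f) {s : AddMonoid.End U} (hs : s ∈ S) :
    ∃ l, f l = s := by
  classical
  haveI := Fintype.ofFinite (L ≃ₐ[ZMod p] L)
  obtain ⟨l, hl⟩ := P_one_mem (p := p) hS hf hs
  refine ⟨l, hl.trans ?_⟩
  conv_rhs => rw [← sum_P (p := p) f s]
  symm
  refine sum_eq_single_of_mem 1 (mem_univ _) fun t _ ht => ?_
  by_contra hne
  by_cases hsq : t * t = 1
  · exact hne (invol_zero hS hf (P_mem_of_inv hS hf hs ht hsq) ht hsq (tw_P f t s))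
  · exact Pair.false hS hf
      { ne := hsq, ha := tw_P f t s, hb := tw_P f t⁻¹ s, a_ne := hne, mem := fun c => J_mem hS hf hs t c }

section Field

omit [Algebra (ZMod p) L] [Field L] [Finite L] [Nontrivial U]

/-- Conclusion: a spread closed under `(a, b) ↦ a b a` is a field acting regularly. -/
theorem exists_field [Nontrivial U] (hpU : ∀ u : U, p • u = 0) {S : AddSubgroup (AddMonoid.End U)}
    (hS : Spread S) :
    ∃ (F : Subring (AddMonoid.End U)), (∀ x, x ∈ F ↔ x ∈ S) ∧ (∀ x ∈ F, ∀ y ∈ F, x * y = y * x) := by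
  haveI : Finite (AddMonoid.End U) := Finite.of_injective (fun g => (g : U → U)) DFunLike.coe_injective
  let good : Set (Subring (AddMonoid.End U)) :=
    {K | (∀ x ∈ K, x ∈ S) ∧ ∀ x ∈ K, ∀ y ∈ K, x * y = y * x}
  have hbot : (⊥ : Subring (AddMonoid.End U)) ∈ good := by
    refine ⟨fun x hx => ?_, fun x hx y _ => ?_⟩ <;> obtain ⟨n, rfl⟩ := Subring.mem_bot.1 hx
    · rw [← zsmul_one]
      exact zsmul_mem hS.one_mem n
    · exact (Int.cast_commute n y).eq
  haveI : Finite (Subring (AddMonoid.End U)) := Finite.of_injective (fun K => (K : Set (AddMonoid.End U))) SetLike.coe_injective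
  obtain ⟨K, hK⟩ := Set.Finite.exists_maximal (Set.toFinite good) ⟨⊥, hbot⟩
  obtain ⟨hKS, hKc⟩ := hK.1
  letI : CommRing K := { (inferInstance : Ring K) with
    mul_comm := fun x y => Subtype.ext (hKc _ x.2 _ y.2) }
  haveI : Nontrivial (AddMonoid.End U) := by
    obtain ⟨u, hu⟩ := exists_ne (0 : U)
    exact nontrivial_of_ne 1 0 fun e => hu (congrArg (fun g : AddMonoid.End U => g u) e)
  haveI : Nontrivial K := ⟨⟨0, 1, fun e => zero_ne_one (congrArg Subtype.val e)⟩⟩
  haveI : NoZeroDivisors K := ⟨fun {x y} e => by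
    exact (hS.mul_eq_zero (hKS _ x.2) (congrArg Subtype.val e)).imp (fun h => Subtype.ext h) fun h => Subtype.ext h⟩
  haveI : IsDomain K := NoZeroDivisors.to_isDomain K
  letI : Field K := (Finite.isDomain_to_isField K).toField
  haveI : CharP K p := (CharP.charP_iff_prime_eq_zero (Fact.out : p.Prime)).2 (Subtype.ext (by
    rw [Subring.coe_natCast]
    refine AddMonoidHom.ext fun u => ?_
    show (p : AddMonoid.End U) u = 0
    rw [AddMonoid.End.natCast_apply]
    exact hpU u))
  letI : Algebra (ZMod p) K := ZMod.algebra K p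
  have hf : Maximal S K.subtype := by
    refine ⟨fun x => hKS _ x.2, fun y hy hc => ?_⟩
    set K' := Subring.closure ((K : Set (AddMonoid.End U)) ∪ {y}) with hK'
    have hle : K ≤ K' := fun x hx => Subring.subset_closure (Or.inl hx)
    have hyK' : y ∈ K' := Subring.subset_closure (Or.inr rfl)
    suffices K' ∈ good by exact ⟨⟨y, hK.2 this hle hyK'⟩, rfl⟩
    have hcomm : ∀ x ∈ (K : Set (AddMonoid.End U)) ∪ {y}, ∀ x' ∈ (K : Set (AddMonoid.End U)) ∪ {y},
        x * x' = x' * x := by
      rintro x (hx | rfl) x' (hx' | rfl)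
      · exact hKc x hx x' hx'
      · exact (hc ⟨x, hx⟩).symm
      · exact hc ⟨x', hx'⟩
      · rfl
    letI := Subring.closureCommRingOfComm hcomm
    refine ⟨fun x hx => ?_, fun x hx x' hx' => congrArg Subtype.val (mul_comm (⟨x, hx⟩ : K') ⟨x', hx'⟩)⟩
    have hx' := Subring.mem_closure_iff.1 hx
    clear hx
    induction hx' using AddSubgroup.closure_induction with
    | mem w hw =>
      have hmon : ∃ k : K, ∃ n : ℕ, w = (k : AddMonoid.End U) * y ^ n := by
        induction hw using Submonoid.closure_induction with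
        | mem x hx =>
          rcases hx with hx | rfl
          · exact ⟨⟨x, hx⟩, 0, by simp⟩
          · exact ⟨1, 1, by simp⟩
        | one => exact ⟨1, 0, by simp⟩
        | mul x x' _ _ ih ih' =>
          obtain ⟨k, n, rfl⟩ := ih
          obtain ⟨k', n', rfl⟩ := ih'
          refine ⟨k * k', n + n', ?_⟩
          have hc' : y ^ n * (k' : AddMonoid.End U) = (k' : AddMonoid.End U) * y ^ n :=
            (Commute.pow_left (show Commute y _ from hc k') n).eq
          rw [pow_add, Subring.coe_mul, mul_assoc, ← mul_assoc (y ^ n), hc']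
          simp only [mul_assoc]
      obtain ⟨k, n, rfl⟩ := hmon
      obtain ⟨c, d, rfl⟩ := sum_two_sq k
      have e : ((c * c + d * d : K) : AddMonoid.End U) * y ^ n =
          (c : AddMonoid.End U) * y ^ n * c + (d : AddMonoid.End U) * y ^ n * d := by
        have hc' : ∀ k' : K, y ^ n * (k' : AddMonoid.End U) = (k' : AddMonoid.End U) * y ^ n := fun k' =>
          (Commute.pow_left (show Commute y _ from hc k') n).eq
        rw [Subring.coe_add, Subring.coe_mul, Subring.coe_mul, add_mul, mul_assoc _ (y ^ n), mul_assoc _ (y ^ n),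
          hc', hc', mul_assoc, mul_assoc]
      rw [e]
      exact add_mem (hS.triple _ (hKS _ c.2) _ (hS.pow_mem' hy n)) (hS.triple _ (hKS _ d.2) _ (hS.pow_mem' hy n))
    | zero => exact zero_mem _
    | add a b _ _ ha hb => exact add_mem ha hb
    | neg a _ ha => exact neg_mem ha
  refine ⟨K, fun x => ⟨hKS x, fun hx => ?_⟩, hKc⟩
  obtain ⟨l, hl⟩ := mem_range_of_maximal (p := p) hS hf hx
  exact hl ▸ l.2

end Field

end CfsgLib.LocalEven.RankOneFF.SpreadField
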