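import Cfsg.Agent.Lib.LocalEven.RankOneFF.Pair

/-!
A group with a strongly `p`-embedded subgroup and a quadratic offender has exactly `|A| + 1` Sylow subgroups, the
conjugates of the offender, any two of which generate it.
-/

set_option autoImplicit false
set_option linter.unusedSectionVars false
set_option linter.style.haveILetI false

namespace CfsgLib.LocalEven.RankOneFF

open CfsgLib.LocalEven.SylowIn

variable {H : Type*} [Group H] [Finite H] {V : Type*} [AddCommGroup V] [Finite V] {p : ℕ} [Fact p.Prime]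
  {ρ : H →* AddMonoid.End V} {K X A : Subgroup H}

theorem Setup.exists_outside (h : Setup ρ p K X A) : ∃ g ∈ K, g ∉ X :=
  SetLike.exists_of_lt (lt_of_le_of_ne h.hXK h.ne)

theorem eq_of_le_conj {D : Subgroup H} {k y : H} (hD : D = cj y A) (hle : D ≤ cj k A) : D = cj k A :=
  Subgroup.eq_of_le_of_card_ge hle (le_of_eq (by rw [hD, card_cj, card_cj]))

/-- Equal members lie in equal blocks. -/
theorem Setup.block_eq (hV : Ambient ρ p) (h : Setup ρ p K X A) {y₁ y₂ : H} (h₁ : y₁ ∈ K) (h₂ : y₂ ∈ K)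
    (he : cj y₁ A = cj y₂ A) : y₁⁻¹ * y₂ ∈ X := by
  by_contra hne
  obtain ⟨a, ha, ha1⟩ := exists_ne_one h.off.ne_bot
  refine h.not_mem_cj hV (mul_mem (inv_mem h₁) h₂) hne ha ha1 (Subgroup.map_mono h.hAX ?_)
  show a ∈ cj (y₁⁻¹ * y₂) A
  rw [← cj_cj, ← he, cj_cj, inv_mul_cancel, cj_one]
  exact ha

/-- An element of a member lies outside every other block. -/
theorem Setup.member_not_mem (hV : Ambient ρ p) (h : Setup ρ p K X A) {r y : H} (hr : r ∈ K) (hy : y ∈ K)
    (hne : r⁻¹ * y ∉ X) {x : H} (hx : x ∈ cj r A) (hx1 : x ≠ 1) : x ∉ cj y X := by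
  have := (h.rebase hr).not_mem_cj hV (g := y * r⁻¹) (mul_mem hy (inv_mem hr)) (fun e => hne (by
    have := mem_cj.1 e
    rwa [show r⁻¹ * (y * r⁻¹) * r = r⁻¹ * y by group] at this)) hx hx1
  rwa [cj_cj, inv_mul_cancel_right] at this

theorem Setup.fix_elem (hV : Ambient ρ p) (h : Setup ρ p K X A) (IH : Below ρ p K) {a : H} (ha : a ∈ A)
    (ha1 : a ≠ 1) {v : V} (hv : ρ a v = v) : v ∈ fx ρ A := by
  obtain ⟨g, hg, hgX⟩ := h.exists_outside
  have hp := h.pairData hV IH hg hgX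
  obtain ⟨x, hx, y, hy, rfl⟩ := AddSubgroup.mem_sup.1 (hp.sup_eq ▸ AddSubgroup.mem_top v : v ∈ fx ρ A ⊔ fx ρ (cj g A))
  have hy' : ρ a y = y := by
    rw [map_add, hx a ha] at hv
    exact add_left_cancel hv
  exact add_mem hx (h.mem_fx_of_fixed hV IH hg hgX ha ha1 hy hy')

theorem Setup.fxK_le (h : Setup ρ p K X A) {g : H} (hg : g ∈ K) :
    fx ρ K ≤ fx ρ A ⊓ fx ρ (cj g A) :=
  le_inf (fx_anti ρ h.hAK) (fx_anti ρ (h.rebase hg).hAK)

/-- The common fixed points of two blocks in the small case. -/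
theorem Setup.inf_eq_fxK (hV : Ambient ρ p) (h : Setup ρ p K X A) (IH : Below ρ p K) {g : H} (hg : g ∈ K)
    (hgX : g ∉ X) (hsmall : Nat.card (fx ρ A) ≤ Nat.card A * Nat.card (fx ρ K)) :
    fx ρ A ⊓ fx ρ (cj g A) = fx ρ K := by
  refine (AddSubgroup.eq_of_le_of_card_ge (h.fxK_le hg) ?_).symm
  rw [(h.pairData hV IH hg hgX).card_fx] at hsmall
  exact Nat.le_of_mul_le_mul_left hsmall Nat.card_pos

/-- Every vector is fixed by a member. -/
theorem Setup.exists_member_fix (hV : Ambient ρ p) (h : Setup ρ p K X A) (IH : Below ρ p K) {g : H} (hg : g ∈ K)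
    (hgX : g ∉ X) (v : V) (hv : v ∉ fx ρ A) : ∃ a ∈ A, v ∈ fx ρ (cj (a * g) A) := by
  have hp := h.pairData hV IH hg hgX
  obtain ⟨x, hx, y, hy, rfl⟩ := AddSubgroup.mem_sup.1 (hp.sup_eq ▸ AddSubgroup.mem_top v : v ∈ fx ρ A ⊔ fx ρ (cj g A))
  obtain ⟨a, ha, hw⟩ := hp.surj y hy (fun e => hv (add_mem hx e)) x hx
  refine ⟨a, ha, ?_⟩
  rw [← cj_cj]
  have hwf : (ρ a y - y) - x ∈ fx ρ (cj a (cj g A)) := by
    have := act_mem_fx ρ a hw.2
    rwa [hw.1 a ha] at this
  rw [show x + y = ρ a y - ((ρ a y - y) - x) by abel]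
  exact sub_mem (act_mem_fx ρ a hy) hwf

/-- In the large case at most `|A|` blocks can have pairwise independent lines with a given one. -/
theorem Setup.lines_le (hV : Ambient ρ p) (h : Setup ρ p K X A) (IH : Below ρ p K)
    (hbig : Nat.card A * Nat.card (fx ρ K) < Nat.card (fx ρ A)) {ι : Type*} [Finite ι] (g : ι → H)
    (hg : ∀ i, g i ∈ K) (hgX : ∀ i, g i ∉ X)
    (hdist : ∀ i j, i ≠ j → ∀ v ∈ fx ρ A, v ∈ fx ρ (cj (g i) A) → v ∈ fx ρ (cj (g j) A) → v ∈ fx ρ K) :
    Nat.card ι ≤ Nat.card A := by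
  rcases isEmpty_or_nonempty ι with hι | hι
  · simp
  obtain ⟨v₀, hv₀⟩ : ∃ v₀, v₀ ∉ fx ρ A := by
    by_contra hall
    push Not at hall
    obtain ⟨a, ha, ha1⟩ := exists_ne_one h.off.ne_bot
    exact ha1 (hV.faithful (AddMonoidHom.ext fun v => by
      show ρ a v = ρ 1 v
      rw [hall v a ha, act_one]))
  let U : AddSubgroup V :=
    { carrier := {u | ∃ a ∈ A, u - (ρ a v₀ - v₀) ∈ fx ρ K}
      zero_mem' := ⟨1, one_mem _, by rw [act_one]; simp [zero_mem]⟩
      add_mem' := by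
        rintro u w ⟨a, ha, hu⟩ ⟨b, hb, hw⟩
        refine ⟨a * b, mul_mem ha hb, ?_⟩
        rw [h.off.comm_mul ρ ha hb, add_sub_add_comm]
        exact add_mem hu hw
      neg_mem' := by
        rintro u ⟨a, ha, hu⟩
        refine ⟨a⁻¹, inv_mem ha, ?_⟩
        rw [h.off.comm_inv ρ ha, show -u - -(ρ a v₀ - v₀) = -(u - (ρ a v₀ - v₀)) by abel]
        exact neg_mem hu }
  have hUA : U ≤ fx ρ A := by
    rintro u ⟨a, ha, hu⟩
    have := add_mem (fx_anti ρ h.hAK hu) (h.off.comm_mem_fx ρ ha v₀)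
    rwa [sub_add_cancel] at this
  -- the commutators meet each line trivially
  have hkey : ∀ i, ∀ a ∈ A, ρ a v₀ - v₀ ∈ fx ρ A ⊓ fx ρ (cj (g i) A) → a = 1 := by
    intro i a ha hw
    have hp := h.pairData hV IH (hg i) (hgX i)
    obtain ⟨x, hx, y, hy, rfl⟩ :=
      AddSubgroup.mem_sup.1 (hp.sup_eq ▸ AddSubgroup.mem_top v₀ : v₀ ∈ fx ρ A ⊔ fx ρ (cj (g i) A))
    refine h.eq_one_of_comm_mem hV IH (hg i) (hgX i) ha hy (fun e => hv₀ (add_mem hx e)) ?_
    rwa [show ρ a y - y = ρ a (x + y) - (x + y) by rw [map_add, hx a ha]; abel]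
  have hinf : ∀ i, U ⊓ (fx ρ A ⊓ fx ρ (cj (g i) A)) ≤ fx ρ K := by
    intro i u hu'
    obtain ⟨a, ha, hu⟩ := (show u ∈ U from hu'.1)
    have hw : u ∈ fx ρ A ⊓ fx ρ (cj (g i) A) := hu'.2
    have : a = 1 := hkey i a ha (by
      have := sub_mem hw (h.fxK_le (hg i) hu)
      rwa [sub_sub_cancel] at this)
    subst this
    rwa [act_one, sub_self, sub_zero] at hu
  obtain ⟨i₀⟩ := hι
  have hcard : Nat.card A * Nat.card (fx ρ K) = Nat.card U := by
    rw [← Nat.card_prod]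
    refine Nat.card_congr (Equiv.ofBijective
      (fun x : A × fx ρ K => (⟨ρ (x.1 : H) v₀ - v₀ + x.2, x.1, x.1.2, by
        rw [add_sub_cancel_left]; exact x.2.2⟩ : U)) ⟨?_, ?_⟩)
    · intro x y hxy
      have hxy' : ρ (x.1 : H) v₀ - v₀ + (x.2 : V) = ρ (y.1 : H) v₀ - v₀ + y.2 := congrArg Subtype.val hxy
      have he : ρ ((y.1 : H)⁻¹ * (x.1 : H)) v₀ - v₀ = (y.2 : V) - x.2 := by
        rw [h.off.comm_mul ρ (inv_mem y.1.2) x.1.2, h.off.comm_inv ρ y.1.2,
          show (ρ (x.1 : H)) v₀ - v₀ = ρ (y.1 : H) v₀ - v₀ + y.2 - x.2 by rw [← hxy']; abel]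
        abel
      have h1 : (y.1 : H)⁻¹ * (x.1 : H) = 1 := hkey i₀ _ (mul_mem (inv_mem y.1.2) x.1.2) (by
        rw [he]; exact h.fxK_le (hg i₀) (sub_mem y.2.2 x.2.2))
      have h2 : x.1 = y.1 := Subtype.ext (inv_mul_eq_one.1 h1).symm
      rw [h2] at hxy'
      exact Prod.ext h2 (Subtype.ext (add_left_cancel hxy'))
    · rintro ⟨u, a, ha, hu⟩
      exact ⟨(⟨a, ha⟩, ⟨_, hu⟩), Subtype.ext (add_sub_cancel _ _)⟩
  have hsup : ∀ i, U ⊔ (fx ρ A ⊓ fx ρ (cj (g i) A)) = fx ρ A := by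
    intro i
    refine AddSubgroup.eq_of_le_of_card_ge (sup_le hUA inf_le_left) ?_
    have h1 := card_sup_inf U (fx ρ A ⊓ fx ρ (cj (g i) A))
    have h2 : Nat.card (U ⊓ (fx ρ A ⊓ fx ρ (cj (g i) A)) : AddSubgroup V) ≤ Nat.card (fx ρ K) :=
      AddSubgroup.card_le_of_le (hinf i)
    have h3 := (h.pairData hV IH (hg i) (hgX i)).card_fx
    have hz : 0 < Nat.card (fx ρ K) := Nat.card_pos
    rw [← hcard] at h1
    nlinarith
  obtain ⟨c, hc, hcU⟩ : ∃ c ∈ fx ρ A, c ∉ U := by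
    refine SetLike.exists_of_lt (lt_of_le_of_ne hUA fun e => ?_)
    rw [← e] at hbig
    omega
  have hsplit : ∀ i, ∃ a ∈ A, c - (ρ a v₀ - v₀) ∈ fx ρ A ⊓ fx ρ (cj (g i) A) := by
    intro i
    obtain ⟨u, ⟨a, ha, hu⟩, w, hw, e⟩ := AddSubgroup.mem_sup.1 ((hsup i).symm ▸ hc : c ∈ U ⊔ _)
    refine ⟨a, ha, ?_⟩
    rw [← e, show u + w - (ρ a v₀ - v₀) = (u - (ρ a v₀ - v₀)) + w by abel]
    exact add_mem (h.fxK_le (hg i) hu) hw
  choose a ha hw using hsplit
  refine Nat.card_le_card_of_injective (fun i => (⟨a i, ha i⟩ : A)) fun i j hij => ?_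
  by_contra hne
  have e : a i = a j := congrArg Subtype.val hij
  have hz := hdist i j hne _ (hw i).1 (hw i).2 (e.symm ▸ (hw j).2)
  exact hcU ⟨a i, ha i, hz⟩

/-- The representatives of the blocks seen from `A`. -/
def rep (A : Subgroup H) (g : H) : Option A → H
  | none => 1
  | some a => (a : H) * g

theorem rep_mem (h : Setup ρ p K X A) {g : H} (hg : g ∈ K) : ∀ i, rep A g i ∈ K
  | none => one_mem _
  | some a => mul_mem (h.hAK a.2) hg

theorem rep_inj (hV : Ambient ρ p) (h : Setup ρ p K X A) {g : H} (hg : g ∈ K) (hgX : g ∉ X) :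
    ∀ i j, i ≠ j → (rep A g i)⁻¹ * rep A g j ∉ X
  | none, none, h' => absurd rfl h'
  | none, some a, _ => by simpa [rep] using h.translate_not_mem hV hg hgX a.2
  | some a, none, _ => fun e => h.translate_not_mem hV hg hgX a.2 (by simpa [rep] using inv_mem e)
  | some a, some b, h' => fun e => by
    simp only [rep, mul_inv_rev] at e
    have hab : (a : H)⁻¹ * (b : H) ≠ 1 := fun e1 => h' (congrArg some (Subtype.ext (inv_mul_eq_one.1 e1)))
    exact h.not_mem_cj hV hg hgX (mul_mem (inv_mem a.2) b.2) hab (mem_cj.2 (by simpa [mul_assoc] using e))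

theorem card_option : Nat.card (Option A) = Nat.card A + 1 := Finite.card_option

/-- The blocks are exhausted. -/
theorem Setup.blocks (hV : Ambient ρ p) (h : Setup ρ p K X A) (IH : Below ρ p K) {g : H} (hg : g ∈ K)
    (hgX : g ∉ X) {y : H} (hy : y ∈ K) : ∃ i, y⁻¹ * rep A g i ∈ X := by
  by_contra hall
  push Not at hall
  set r := rep A g with hr
  have hrK := rep_mem h hg
  have h' := h.rebase hy
  have hgi : ∀ i, r i * y⁻¹ ∉ cj y X := fun i e => hall i (by
    have := mem_cj.1 e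
    rwa [show y⁻¹ * (r i * y⁻¹) * y = y⁻¹ * r i by group] at this)
  have hgK : ∀ i, r i * y⁻¹ ∈ K := fun i => mul_mem (hrK i) (inv_mem hy)
  have hcj : ∀ i, cj (r i * y⁻¹) (cj y A) = cj (r i) A := fun i => by rw [cj_cj, inv_mul_cancel_right]
  by_cases hsmall : Nat.card (fx ρ A) ≤ Nat.card A * Nat.card (fx ρ K)
  · have hs' : Nat.card (fx ρ (cj y A)) ≤ Nat.card (cj y A) * Nat.card (fx ρ K) := by
      rwa [card_fx_cj, card_cj]
    have hline : ∀ i, ∀ w ∈ fx ρ (cj y A), w ∈ fx ρ (cj (r i) A) → w ∈ fx ρ K := fun i w hw hw' => by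
      rw [← h'.inf_eq_fxK hV IH (hgK i) (hgi i) hs', hcj]
      exact ⟨hw, hw'⟩
    obtain ⟨v, hv, hvK⟩ : ∃ v ∈ fx ρ (cj y A), v ∉ fx ρ K := by
      refine SetLike.exists_of_lt (lt_of_le_of_ne (fx_anti ρ h'.hAK) fun e => ?_)
      have h1 := (h'.pairData hV IH (hgK none) (hgi none)).card_fx
      rw [h'.inf_eq_fxK hV IH (hgK none) (hgi none) hs', ← e] at h1
      have h2 : 1 < Nat.card (cj y A) := (Subgroup.one_lt_card_iff_ne_bot _).2 h'.off.ne_bot
      have h3 : 0 < Nat.card (fx ρ K) := Nat.card_pos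
      nlinarith
    by_cases hvA : v ∈ fx ρ A
    · exact hvK (hline none v hv (by simpa [hr, rep, cj_one] using hvA))
    · obtain ⟨a, ha, hva⟩ := h.exists_member_fix hV IH hg hgX v hvA
      exact hvK (hline (some ⟨a, ha⟩) v hv hva)
  · push Not at hsmall
    have hbig : Nat.card (cj y A) * Nat.card (fx ρ K) < Nat.card (fx ρ (cj y A)) := by
      rwa [card_fx_cj, card_cj]
    have hle := h'.lines_le hV IH hbig (fun i => r i * y⁻¹) hgK hgi ?_
    · rw [card_option, card_cj] at hle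
      omega
    intro i j hij v hv hvi hvj
    rw [hcj] at hvi hvj
    by_contra hvK
    have hmem : ∀ k, cj (r k) A ≤ A ⊔ cj g A := by
      rintro (- | a)
      · simp [hr, rep, cj_one]
      · show cj ((a : H) * g) A ≤ _
        rw [← cj_cj]
        exact cj_le le_sup_right ((le_sup_left : A ≤ A ⊔ cj g A) a.2)
    set K' := pgen ρ p K v with hK'
    have hlt : K' < K := lt_of_le_of_ne (pgen_le v) (pgen_ne h.gen hvK)
    have hD : cj y A ≤ K' := le_pgen hV h'.off h'.hAK hv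
    have hAi : ∀ {k}, v ∈ fx ρ (cj (r k) A) → cj (r k) A ≤ K' := fun {k} hk =>
      le_pgen hV (h.rebase (hrK k)).off (h.rebase (hrK k)).hAK hk
    obtain ⟨x, hx, hx1⟩ := exists_ne_one (h.rebase (hrK i)).off.ne_bot
    have hs := h'.restrict (pgen_le v) hD (hAi hvi hx)
      (h.member_not_mem hV (hrK i) hy (fun e => hall i (by simpa using inv_mem e)) hx hx1) (pgen_gen v)
    have hc := IH _ _ _ hlt hs
    have hmemb : ∀ {k}, v ∈ fx ρ (cj (r k) A) → ∃ z ∈ K', cj (r k) A = cj z (cj y A) := fun {k} hk => by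
      obtain ⟨z, hz, hle⟩ := hc.cover _ (hAi hk) ((h.rebase (hrK k)).off.isPGroup hV)
      exact ⟨z, hz, Subgroup.eq_of_le_of_card_ge hle (le_of_eq (by rw [card_cj, card_cj, card_cj]))⟩
    obtain ⟨zi, hzi, hei⟩ := hmemb hvi
    obtain ⟨zj, hzj, hej⟩ := hmemb hvj
    have hgen := hc.gen zi hzi zj hzj (fun e => rep_inj hV h hg hgX i j hij
      (h.block_eq hV (hrK i) (hrK j) (hei.trans (e.trans hej.symm))))
    rw [← hei, ← hej] at hgen
    have hDL : cj y A ≤ A ⊔ cj g A := hD.trans (hgen ▸ sup_le (hmem i) (hmem j))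
    have hLK : A ⊔ cj g A < K := by
      refine lt_of_le_of_ne (sup_le h.hAK (h.rebase hg).hAK) fun e => ?_
      have h1 := (h.pairData hV IH hg hgX).card_fx
      rw [← fx_sup, e] at h1
      omega
    obtain ⟨b, hb, hb1⟩ := exists_ne_one (h.rebase hg).off.ne_bot
    have hsL := h.restrict hLK.le le_sup_left ((le_sup_right : cj g A ≤ A ⊔ cj g A) hb)
      (fun e => h.member_not_mem hV hg (one_mem K) (fun e' => hgX (by simpa using e')) hb hb1
        (by rwa [cj_one])) (le_closure_sup (h.off.isPGroup hV) ((h.rebase hg).off.isPGroup hV))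
    have hcL := IH _ _ _ hLK hsL
    let M := {D : Subgroup H // ∃ k ∈ A ⊔ cj g A, D = cj k A}
    have hAiM : ∀ k, ∃ z ∈ A ⊔ cj g A, cj (r k) A = cj z A := fun k => by
      obtain ⟨z, hz, hle⟩ := hcL.cover _ (hmem k) ((h.rebase (hrK k)).off.isPGroup hV)
      exact ⟨z, hz, eq_of_le_conj rfl hle⟩
    let φ : Option A → M := fun k => ⟨cj (r k) A, hAiM k⟩
    have hφ : Function.Injective φ := fun k l e => by
      by_contra hkl
      exact rep_inj hV h hg hgX k l hkl (h.block_eq hV (hrK k) (hrK l) (congrArg Subtype.val e))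
    have hφs := ((Nat.bijective_iff_injective_and_card φ).2 ⟨hφ, by rw [card_option]; exact hcL.count.symm⟩).2
    obtain ⟨z, hz, hle⟩ := hcL.cover _ hDL ((h.rebase hy).off.isPGroup hV)
    obtain ⟨k, hk⟩ := hφs ⟨cj y A, z, hz, eq_of_le_conj rfl hle⟩
    exact hall k (h.block_eq hV hy (hrK k) (congrArg Subtype.val hk).symm)

/-- `A` is a maximal `p`-subgroup. -/
theorem Setup.eq_of_pgroup (hV : Ambient ρ p) (h : Setup ρ p K X A) (IH : Below ρ p K) {P : Subgroup H}
    (hPK : P ≤ K) (hP : IsPGroup p P) (hAP : A ≤ P) : P = A := by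
  refine le_antisymm (fun s hs => ?_) hAP
  obtain ⟨g, hg, hgX⟩ := h.exists_outside
  obtain ⟨a₀, ha₀, ha01⟩ := exists_ne_one h.off.ne_bot
  have hPX := h.pgroup_le hV hPK hP (hAP ha₀) ha₀ ha01
  have hsg : s * g ∉ X := fun e => hgX (by
    have := mul_mem (inv_mem (hPX hs)) e
    rwa [inv_mul_cancel_left] at this)
  obtain ⟨i, hi⟩ := h.blocks hV IH hg hgX (mul_mem (hPK hs) hg)
  rcases i with - | a
  · exact absurd (by simpa [rep] using inv_mem hi) hsg
  · set x := g⁻¹ * (s⁻¹ * (a : H)) * g with hx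
    have hxX : x ∈ X := by
      simp only [rep, mul_inv_rev] at hi
      simpa [hx, mul_assoc] using hi
    have hmem : s⁻¹ * (a : H) ∈ P := mul_mem (inv_mem hs) (hAP a.2)
    by_cases h1 : s⁻¹ * (a : H) = 1
    · rw [inv_mul_eq_one.1 h1]
      exact a.2
    · exfalso
      refine hgX (h.ti g hg x hxX (fun e => h1 ?_) ?_ ?_)
      · rw [show s⁻¹ * (a : H) = g * x * g⁻¹ by rw [hx]; group, e]
        group
      · obtain ⟨k, hk⟩ := RankOneFF.pord hP hmem
        refine ⟨k, ?_⟩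
        rw [← hk, hx]
        have := MulEquiv.orderOf_eq (MulAut.conj g⁻¹) (s⁻¹ * (a : H))
        simpa using this
      · rw [hx, show g * (g⁻¹ * (s⁻¹ * (a : H)) * g) * g⁻¹ = s⁻¹ * (a : H) by group]
        exact hPX hmem

/-- Each block contains one member. -/
theorem Setup.conj_eq (hV : Ambient ρ p) (h : Setup ρ p K X A) (IH : Below ρ p K) {x : H} (hx : x ∈ X) :
    cj x A = A := by
  by_contra hne
  obtain ⟨g, hg, hgX⟩ := h.exists_outside
  have hxK := h.hXK hx
  have hx' := h.rebase hxK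
  have hA'X : cj x A ≤ X := cj_le h.hAX hx
  have hfx : fx ρ (cj x A) ≠ fx ρ A := by
    intro heq
    let T : Subgroup H :=
      { carrier := {y | y ∈ K ∧ (∀ w ∈ fx ρ A, ρ y w = w) ∧ ∀ u, ρ y u - u ∈ fx ρ A}
        one_mem' := ⟨one_mem _, fun w _ => act_one ρ w, fun u => by rw [act_one, sub_self]; exact zero_mem _⟩
        mul_mem' := fun {y z} hy hz => ⟨mul_mem hy.1 hz.1,
          fun w hw => by rw [act_mul, hz.2.1 w hw, hy.2.1 w hw], fun u => by
            rw [act_mul, ← sub_add_sub_cancel (ρ y (ρ z u)) (ρ z u) u]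
            exact add_mem (hy.2.2 _) (hz.2.2 _)⟩
        inv_mem' := fun {y} hy => ⟨inv_mem hy.1, fun w hw => by
            conv_lhs => rw [← hy.2.1 w hw]
            exact act_inv ρ y w, fun u => by
          have := neg_mem (hy.2.2 (ρ y⁻¹ u))
          rwa [act_inv', neg_sub] at this⟩ }
    have hT : IsPGroup p T := fun y => ⟨1, Subtype.ext (by
      rw [pow_one]
      exact hV.pow_eq_one fun u => y.2.2.1 _ (y.2.2.2 u))⟩
    have hAT : A ≤ T := fun a ha => ⟨h.hAK ha, fun w hw => hw a ha, fun u => h.off.comm_mem_fx ρ ha u⟩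
    have hA'T : cj x A ≤ T := fun a ha =>
      ⟨hx'.hAK ha, fun w hw => (heq.symm ▸ hw : w ∈ fx ρ (cj x A)) a ha, fun u => heq ▸ hx'.off.comm_mem_fx ρ ha u⟩
    rw [h.eq_of_pgroup hV IH (fun y (hy : y ∈ T) => hy.1) hT hAT] at hA'T
    exact hne (Subgroup.eq_of_le_of_card_ge hA'T (le_of_eq (card_cj x A).symm))
  -- the translates of the new member
  set r : Option A → H := fun i => match i with | none => 1 | some a => (a : H) * x with hr
  have hrX : ∀ i, r i ∈ X := by
    rintro (- | a)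
    · exact one_mem _
    · exact mul_mem (h.hAX a.2) hx
  have hrK : ∀ i, r i ∈ K := fun i => h.hXK (hrX i)
  have hgr : ∀ i, g⁻¹ * r i ∉ X := fun i e => hgX (by
    have := mul_mem (hrX i) (inv_mem e)
    rwa [mul_inv_rev, inv_inv, mul_inv_cancel_left] at this)
  have hinj : ∀ i j, i ≠ j → cj (r i) A ≠ cj (r j) A := by
    have hnone : ∀ a : A, cj ((a : H) * x) A ≠ A := fun a e => hne (by
      have h1 : cj (a : H) A = A := map_conj_eq_iff.2 (Subgroup.le_normalizer a.2)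
      rw [← cj_cj] at e
      exact Subgroup.map_injective (MulAut.conj (a : H)).injective (e.trans h1.symm))
    rintro (- | a) (- | b) hij e
    · exact hij rfl
    · exact hnone b ((e.symm).trans (cj_one A))
    · exact hnone a (e.trans (cj_one A))
    · set c := (a : H)⁻¹ * (b : H) with hc
      have hc1 : c ≠ 1 := fun e1 => hij (congrArg some (Subtype.ext (inv_mul_eq_one.1 e1)))
      have hcA : c ∈ A := mul_mem (inv_mem a.2) b.2
      have hcn : cj c (cj x A) = cj x A := by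
        have := congrArg (cj (a : H)⁻¹) e
        simp only [hr, cj_cj, inv_mul_cancel_left] at this
        rw [cj_cj, show c * x = (a : H)⁻¹ * ((b : H) * x) by rw [hc]; group]
        exact this.symm
      have hz : Subgroup.zpowers c ≤ Subgroup.normalizer (cj x A : Set H) :=
        Subgroup.zpowers_le.2 (map_conj_eq_iff.1 hcn)
      have hP : IsPGroup p (cj x A ⊔ Subgroup.zpowers c : Subgroup H) :=
        IsPGroup.to_sup_of_normal_left' (hx'.off.isPGroup hV)
          ((h.off.isPGroup hV).to_le (Subgroup.zpowers_le.2 hcA)) hz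
      have hPe := hx'.eq_of_pgroup hV IH (sup_le hx'.hAK (Subgroup.zpowers_le.2 (h.hAK hcA))) hP le_sup_left
      have hcA' : c ∈ cj x A := hPe ▸ (le_sup_right : Subgroup.zpowers c ≤ cj x A ⊔ _) (Subgroup.mem_zpowers c)
      refine hfx (le_antisymm (fun w hw => h.fix_elem hV IH hcA hc1 (hw c hcA'))
        fun w hw => ?_)
      exact hx'.fix_elem hV IH hcA' hc1 (hw c hcA)
  have hgx : x⁻¹ * g ∉ X := fun e => hgX (by
    have := mul_mem hx e
    rwa [mul_inv_cancel_left] at this)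
  by_cases hsmall : Nat.card (fx ρ A) ≤ Nat.card A * Nat.card (fx ρ K)
  · obtain ⟨v, hv, hvA⟩ : ∃ v ∈ fx ρ (cj x A), v ∉ fx ρ A := by
      by_contra hall
      push Not at hall
      exact hfx (AddSubgroup.eq_of_le_of_card_ge hall (le_of_eq (card_fx_cj ρ x A).symm))
    obtain ⟨a, ha, hva⟩ := h.exists_member_fix hV IH hg hgX v hvA
    have hag : (a * g) * x⁻¹ ∈ K := mul_mem (mul_mem (h.hAK ha) hg) (inv_mem hxK)
    have hagX : (a * g) * x⁻¹ ∉ cj x X := fun e => h.translate_not_mem hV hg hgX ha (by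
      have := mul_mem hx (mem_cj.1 e)
      simpa [mul_assoc] using this)
    have := hx'.inf_eq_fxK hV IH hag hagX (by rwa [card_fx_cj, card_cj])
    rw [cj_cj, inv_mul_cancel_right] at this
    exact hvA (fx_anti ρ h.hAK (this ▸ ⟨hv, hva⟩ : v ∈ fx ρ K))
  · push Not at hsmall
    have h' := h.rebase hg
    have hle := h'.lines_le hV IH (by rwa [card_fx_cj, card_cj]) (fun i => r i * g⁻¹)
      (fun i => mul_mem (hrK i) (inv_mem hg))
      (fun i e => hgr i (by
        have := mem_cj.1 e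
        rwa [show g⁻¹ * (r i * g⁻¹) * g = g⁻¹ * r i by group] at this)) ?_
    · rw [card_option, card_cj] at hle
      omega
    intro i j hij v hv hvi hvj
    rw [cj_cj, inv_mul_cancel_right] at hvi hvj
    by_contra hvK
    set K' := pgen ρ p K v with hK'
    have hlt : K' < K := lt_of_le_of_ne (pgen_le v) (pgen_ne h.gen hvK)
    have hB : cj g A ≤ K' := le_pgen hV h'.off h'.hAK hv
    have hAi : ∀ {k}, v ∈ fx ρ (cj (r k) A) → cj (r k) A ≤ K' := fun {k} hk =>
      le_pgen hV (h.rebase (hrK k)).off (h.rebase (hrK k)).hAK hk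
    obtain ⟨w, hw, hw1⟩ := exists_ne_one (h.rebase (hrK i)).off.ne_bot
    have hs := h'.restrict (pgen_le v) hB (hAi hvi hw)
      (h.member_not_mem hV (hrK i) hg (fun e => hgr i (by simpa using inv_mem e)) hw hw1) (pgen_gen v)
    have hc := IH _ _ _ hlt hs
    have hmemb : ∀ {k}, v ∈ fx ρ (cj (r k) A) → ∃ z ∈ K', cj (r k) A = cj z (cj g A) := fun {k} hk => by
      obtain ⟨z, hz, hle⟩ := hc.cover _ (hAi hk) ((h.rebase (hrK k)).off.isPGroup hV)
      exact ⟨z, hz, Subgroup.eq_of_le_of_card_ge hle (le_of_eq (by rw [card_cj, card_cj, card_cj]))⟩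
    obtain ⟨zi, hzi, hei⟩ := hmemb hvi
    obtain ⟨zj, hzj, hej⟩ := hmemb hvj
    have hgen := hc.gen zi hzi zj hzj (fun e => hinj i j hij (hei.trans (e.trans hej.symm)))
    rw [← hei, ← hej] at hgen
    obtain ⟨b, hb, hb1⟩ := exists_ne_one h'.off.ne_bot
    refine h.member_not_mem hV hg (one_mem K) (fun e => hgX (by simpa using e)) hb hb1 ?_
    rw [cj_one]
    exact (hgen ▸ sup_le (cj_le h.hAX (hrX i)) (cj_le h.hAX (hrX j)) : K' ≤ X) (hB hb)

/-- Two members in different blocks generate. -/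
theorem Setup.sup_eq (hV : Ambient ρ p) (h : Setup ρ p K X A) (IH : Below ρ p K) {g : H} (hg : g ∈ K)
    (hgX : g ∉ X) : A ⊔ cj g A = K := by
  have hgB : ∀ k ∈ K, ∃ i, cj k A = cj (rep A g i) A := fun k hk => by
    obtain ⟨i, hi⟩ := h.blocks hV IH hg hgX hk
    refine ⟨i, ?_⟩
    conv_lhs => rw [← h.conj_eq hV IH hi]
    rw [cj_cj, mul_inv_cancel_left]
  refine le_antisymm (sup_le h.hAK (h.rebase hg).hAK) (h.gen.trans ((Subgroup.closure_le _).2 ?_))
  rintro x ⟨hx, k, hk⟩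
  obtain ⟨T, hT, hxT⟩ := exists_isSylowIn (p := p) K (Subgroup.zpowers_le.2 hx)
    (IsPGroup.of_card (n := k) (by rw [Nat.card_zpowers, hk]))
  have hAsyl : IsSylowIn p A K := ⟨h.hAK, h.off.isPGroup hV, fun U hU hUp hAU => h.eq_of_pgroup hV IH hU hUp hAU⟩
  obtain ⟨y, hy, rfl⟩ := hAsyl.conjugate hT
  obtain ⟨i, hi⟩ := hgB y hy
  have : cj y A ≤ A ⊔ cj g A := by
    rw [hi]
    rcases i with - | a
    · simp [rep, cj_one]
    · show cj ((a : H) * g) A ≤ _
      rw [← cj_cj]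
      exact cj_le le_sup_right ((le_sup_left : A ≤ A ⊔ cj g A) a.2)
  exact this (hxT (Subgroup.mem_zpowers x))

/-- The main structure theorem. -/
theorem concl (hV : Ambient ρ p) (h : Setup ρ p K X A) : Concl ρ p K A := by
  suffices ∀ n (L X' A' : Subgroup H), Nat.card L ≤ n → Setup ρ p L X' A' → Concl ρ p L A' from
    this _ K X A le_rfl h
  intro n
  induction n with
  | zero =>
    intro L _ _ hL _
    exact absurd hL (by have : 0 < Nat.card L := Nat.card_pos; omega)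
  | succ n ih =>
    intro L X' A' hL h
    have IH : Below ρ p L := fun M X'' A'' hM hs =>
      ih M X'' A'' (by have := natCard_lt hM; omega) hs
    obtain ⟨g, hg, hgX⟩ := h.exists_outside
    have hA : IsSylowIn p A' L :=
      ⟨h.hAK, h.off.isPGroup hV, fun U hU hUp hAU => h.eq_of_pgroup hV IH hU hUp hAU⟩
    have hmem : ∀ k ∈ L, ∃ i, cj k A' = cj (rep A' g i) A' := fun k hk => by
      obtain ⟨i, hi⟩ := h.blocks hV IH hg hgX hk
      refine ⟨i, ?_⟩
      conv_lhs => rw [← h.conj_eq hV IH hi]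
      rw [cj_cj, mul_inv_cancel_left]
    refine ⟨fun P hP hPp => ?_, ?_, fun k₁ hk₁ k₂ hk₂ hne => ?_, fun a ha ha1 v hv => h.fix_elem hV IH ha ha1 hv⟩
    · obtain ⟨T, hT, hPT⟩ := exists_isSylowIn (p := p) L hP hPp
      obtain ⟨k, hk, rfl⟩ := hA.conjugate hT
      exact ⟨k, hk, hPT⟩
    · rw [← card_option]
      refine (Nat.card_congr (Equiv.ofBijective
        (fun i => (⟨cj (rep A' g i) A', rep A' g i, rep_mem h hg i, rfl⟩ :
          {D : Subgroup H // ∃ k ∈ L, D = cj k A'})) ⟨fun i j e => ?_, ?_⟩)).symm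
      · by_contra hij
        exact rep_inj hV h hg hgX i j hij (h.block_eq hV (rep_mem h hg i) (rep_mem h hg j) (congrArg Subtype.val e))
      · rintro ⟨D, k, hk, rfl⟩
        obtain ⟨i, hi⟩ := hmem k hk
        exact ⟨i, Subtype.ext hi.symm⟩
    · set k := k₁⁻¹ * k₂ with hk
      have hkK : k ∈ L := mul_mem (inv_mem hk₁) hk₂
      have hkX : k ∉ X' := fun e => hne (by
        conv_lhs => rw [← h.conj_eq hV IH e]
        rw [cj_cj, hk, mul_inv_cancel_left])
      have hs := h.sup_eq hV IH hkK hkX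
      have e := congrArg (cj k₁) hs
      rw [cj, Subgroup.map_sup] at e
      change cj k₁ A' ⊔ cj k₁ (cj k A') = cj k₁ L at e
      rw [cj_cj, hk, mul_inv_cancel_left] at e
      rw [e]
      exact le_antisymm (cj_le le_rfl hk₁) fun x hx => mem_cj.2 (mul_mem (mul_mem (inv_mem hk₁) hx) hk₁)
where
  natCard_lt {M L : Subgroup H} (h : M < L) : Nat.card M < Nat.card L := by
    refine lt_of_le_of_ne (Subgroup.card_le_of_le h.le) fun e => h.ne (Subgroup.eq_of_le_of_card_ge h.le e.ge)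

end CfsgLib.LocalEven.RankOneFF
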