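import Mathlib

/-!
A finite field inside an endomorphism ring: the components of an endomorphism twisted by the automorphisms of the
field, and eigenvectors of semilinear maps.
-/

set_option autoImplicit false
set_option linter.unusedSectionVars false
set_option linter.style.haveILetI false

namespace CfsgLib.LocalEven.RankOneFF.Twist

open Finset

variable {p : ℕ} [Fact p.Prime] {L : Type*} [Field L] [Finite L] [Algebra (ZMod p) L]

/-- An automorphism of a finite field fixes only norms. -/
theorem exists_norm (τ : L ≃ₐ[ZMod p] L) {κ : L} (hκ : τ κ = κ) :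
    ∃ l : L, ∏ j ∈ range (orderOf τ), (τ ^ j) l = κ := by
  classical
  haveI : Fintype L := Fintype.ofFinite L
  set H := Subgroup.zpowers τ with hH
  have hmem : κ ∈ IntermediateField.fixedField H := by
    rintro ⟨σ, hσ⟩
    have : σ ∈ MulAction.stabilizer (L ≃ₐ[ZMod p] L) κ := (Subgroup.zpowers_le.2
      (show τ ∈ MulAction.stabilizer (L ≃ₐ[ZMod p] L) κ from hκ)) hσ
    exact this
  obtain ⟨l, hl⟩ := FiniteField.norm_surjective (IntermediateField.fixedField H) L ⟨κ, hmem⟩
  refine ⟨l, ?_⟩
  have h2 := Algebra.norm_eq_prod_automorphisms (IntermediateField.fixedField H) l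
  rw [hl] at h2
  change κ = _ at h2
  rw [h2, ← Fin.prod_univ_eq_prod_range (fun j => (τ ^ j) l) (orderOf τ)]
  exact Fintype.prod_equiv ((finEquivZPowers (isOfFinOrder_of_finite τ)).trans
    (IntermediateField.subgroupEquivAlgEquiv H).toEquiv) _ _ fun j => rfl

/-- A basis of the field over its prime field. -/
noncomputable def bas : Module.Basis (Fin (Module.finrank (ZMod p) L)) (ZMod p) L :=
  Module.finBasis (ZMod p) L

local notation "ι'" => Fin (Module.finrank (ZMod p) L)

/-- The dual basis for the trace form. -/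
noncomputable def dual : Module.Basis ι' (ZMod p) L := (bas (p := p) (L := L)).traceDual

theorem expand_bas (x : L) :
    x = ∑ r, Algebra.trace (ZMod p) L (x * dual (p := p) (L := L) r) • bas (p := p) (L := L) r := by
  have h := ((dual (p := p) (L := L)).traceDual.sum_repr x).symm
  simp only [Module.Basis.traceDual_repr_apply, Algebra.traceForm_apply] at h
  unfold dual at h ⊢
  simpa only [Module.Basis.traceDual_traceDual] using h

theorem expand_dual (x : L) :
    x = ∑ r, Algebra.trace (ZMod p) L (x * bas (p := p) (L := L) r) • dual (p := p) (L := L) r := by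
  have h := ((bas (p := p) (L := L)).traceDual.sum_repr x).symm
  simpa [dual, Algebra.traceForm_apply] using h

/-- Automorphisms are orthogonal on the dual pair of bases. -/
theorem ortho [DecidableEq (L ≃ₐ[ZMod p] L)] (σ τ : L ≃ₐ[ZMod p] L) :
    ∑ r, σ (bas (p := p) (L := L) r) * τ (dual (p := p) (L := L) r) = if σ = τ then 1 else 0 := by
  classical
  haveI : Fintype L := Fintype.ofFinite L
  have hc : Fintype.card ι' = Fintype.card (L ≃ₐ[ZMod p] L) := by
    rw [Fintype.card_fin, ← Nat.card_eq_fintype_card, IsGalois.card_aut_eq_finrank]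
  let e : ι' ≃ (L ≃ₐ[ZMod p] L) := Fintype.equivOfCardEq hc
  let M : Matrix ι' ι' L := Matrix.of fun j r => e j (bas (p := p) (L := L) r)
  let N : Matrix ι' ι' L := Matrix.of fun r j => e j (dual (p := p) (L := L) r)
  have h : N * M = 1 := by
    ext r s
    rw [Matrix.mul_apply, Matrix.one_apply]
    calc ∑ j, N r j * M j s = ∑ j, e j (dual (p := p) (L := L) r * bas (p := p) (L := L) s) := by
          simp [N, M, map_mul]
      _ = ∑ g : L ≃ₐ[ZMod p] L, g (dual (p := p) (L := L) r * bas (p := p) (L := L) s) :=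
          Fintype.sum_equiv e _ _ fun j => rfl
      _ = algebraMap (ZMod p) L (Algebra.trace (ZMod p) L (dual (p := p) (L := L) r * bas (p := p) (L := L) s)) :=
          (trace_eq_sum_automorphisms _).symm
      _ = _ := by
          rw [dual, Module.Basis.trace_traceDual_mul]
          by_cases hrs : r = s
          · simp [hrs]
          · simp [hrs, Ne.symm hrs]
  have h' : M * N = 1 := mul_eq_one_comm.1 h
  have h2 := congrFun (congrFun h' (e.symm σ)) (e.symm τ)
  rw [Matrix.mul_apply, Matrix.one_apply] at h2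
  simpa [M, N] using h2

theorem sum_aut_eq_trace (x : L) [Fintype (L ≃ₐ[ZMod p] L)] :
    ∑ σ : L ≃ₐ[ZMod p] L, σ x = algebraMap (ZMod p) L (Algebra.trace (ZMod p) L x) := by
  rw [trace_eq_sum_automorphisms]
  congr 1
  ext σ
  simp

section Components

variable {E : Type*} [Ring E] (f : L →+* E)

theorem cast_commute (n : ZMod p) (y : E) : f (algebraMap (ZMod p) L n) * y = y * f (algebraMap (ZMod p) L n) := by
  have : (n : ZMod p) = ((n.val : ℕ) : ZMod p) := (ZMod.natCast_zmod_val n).symm
  rw [this, map_natCast, map_natCast]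
  exact (Nat.cast_commute _ y).eq

theorem map_smul' (n : ZMod p) (x : L) : f (n • x) = f (algebraMap (ZMod p) L n) * f x := by
  rw [Algebra.smul_def, map_mul]

/-- `y` is twisted by `τ`. -/
def Tw (τ : L ≃ₐ[ZMod p] L) (y : E) : Prop := ∀ l : L, y * f l = f (τ l) * y

/-- The component twisted by `τ`. -/
noncomputable def P (τ : L ≃ₐ[ZMod p] L) (s : E) : E :=
  ∑ r, f (τ (bas (p := p) (L := L) r)) * s * f (dual (p := p) (L := L) r)

theorem P_add (τ : L ≃ₐ[ZMod p] L) (s s' : E) : P f τ (s + s') = P f τ s + P f τ s' := by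
  simp only [P, mul_add, add_mul, sum_add_distrib]

theorem P_zero (τ : L ≃ₐ[ZMod p] L) : P f τ (0 : E) = 0 := by
  simp [P]

theorem P_smul (τ : L ≃ₐ[ZMod p] L) (k : L) (s : E) : P f τ (f k * s) = f k * P f τ s := by
  simp only [P, mul_sum]
  refine sum_congr rfl fun r _ => ?_
  simp only [← mul_assoc, ← map_mul]
  rw [mul_comm (τ _) k]

theorem tw_P (τ : L ≃ₐ[ZMod p] L) (s : E) : Tw f τ (P f τ s) := by
  intro l
  set b := bas (p := p) (L := L) with hb
  set d := dual (p := p) (L := L) with hd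
  calc P f τ s * f l = ∑ r, f (τ (b r)) * s * f (d r * l) := by
        simp only [P, sum_mul, map_mul, mul_assoc, hb, hd]
    _ = ∑ r, ∑ j, f (algebraMap (ZMod p) L (Algebra.trace (ZMod p) L (d r * l * b j))) * (f (τ (b r)) * s * f (d j)) := by
        refine sum_congr rfl fun r _ => ?_
        conv_lhs => rw [expand_dual (p := p) (d r * l)]
        rw [map_sum, mul_sum]
        refine sum_congr rfl fun j _ => ?_
        rw [map_smul', ← mul_assoc, ← cast_commute f _ (f (τ (b r)) * s), mul_assoc]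
    _ = ∑ j, f (τ (∑ r, Algebra.trace (ZMod p) L ((l * b j) * d r) • b r)) * s * f (d j) := by
        rw [sum_comm]
        refine sum_congr rfl fun j _ => ?_
        rw [map_sum, map_sum, sum_mul, sum_mul]
        refine sum_congr rfl fun r _ => ?_
        rw [map_smul, map_smul', show d r * l * b j = l * b j * d r by ring]
        simp only [mul_assoc]
    _ = ∑ j, f (τ (l * b j)) * s * f (d j) := by
        refine sum_congr rfl fun j _ => ?_
        rw [← expand_bas (p := p) (l * b j)]
    _ = f (τ l) * P f τ s := by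
        simp only [P, mul_sum, map_mul, mul_assoc, hb, hd]

theorem P_of_tw [DecidableEq (L ≃ₐ[ZMod p] L)] {τ : L ≃ₐ[ZMod p] L} {y : E} (hy : Tw f τ y)
    (σ : L ≃ₐ[ZMod p] L) : P f σ y = if σ = τ then y else 0 := by
  simp only [P]
  rw [sum_congr rfl (fun r _ => show f (σ (bas (p := p) (L := L) r)) * y * f (dual (p := p) (L := L) r) =
    f (σ (bas (p := p) (L := L) r) * τ (dual (p := p) (L := L) r)) * y by rw [mul_assoc, hy, ← mul_assoc, ← map_mul]),
    ← sum_mul, ← map_sum, ortho σ τ]
  split <;> simp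

theorem sum_P [Fintype (L ≃ₐ[ZMod p] L)] (s : E) : ∑ σ : L ≃ₐ[ZMod p] L, P f σ s = s := by
  simp only [P]
  rw [sum_comm]
  set b := bas (p := p) (L := L) with hb
  set d := dual (p := p) (L := L) with hd
  calc ∑ r, ∑ σ : L ≃ₐ[ZMod p] L, f (σ (b r)) * s * f (d r)
      = ∑ r, s * f (Algebra.trace (ZMod p) L (1 * b r) • d r) := by
        refine sum_congr rfl fun r _ => ?_
        rw [← sum_mul, ← sum_mul, ← map_sum, sum_aut_eq_trace, cast_commute, one_mul, map_smul', mul_assoc]
    _ = s := by rw [← mul_sum, ← map_sum, ← expand_dual (p := p) (1 : L), map_one, mul_one]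

/-- The symmetrical combination of two opposite components. -/
theorem J_eq (τ : L ≃ₐ[ZMod p] L) (c : L) (s : E) :
    f c * P f τ s + f (τ⁻¹ c) * P f τ⁻¹ s =
      ∑ r, (f (c * τ (bas (p := p) (L := L) r)) * s * f (dual (p := p) (L := L) r) +
        f (dual (p := p) (L := L) r) * s * f (c * τ (bas (p := p) (L := L) r))) := by
  set b := bas (p := p) (L := L) with hb
  set d := dual (p := p) (L := L) with hd
  rw [sum_add_distrib]
  refine congrArg₂ (· + ·) ?_ ?_
  · simp only [P, mul_sum, map_mul, mul_assoc, hb, hd]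
  have hinv : ∀ y : L, τ (τ⁻¹ y) = y := fun y => by
    rw [← AlgEquiv.mul_apply, mul_inv_cancel, AlgEquiv.one_apply]
  have htr : ∀ r j, Algebra.trace (ZMod p) L (τ⁻¹ (c * b j) * b r) =
      Algebra.trace (ZMod p) L (c * τ (b r) * b j) := fun r j => by
    rw [← Algebra.trace_eq_of_algEquiv τ, map_mul, hinv]
    ring_nf
  symm
  calc ∑ r, f (d r) * s * f (c * τ (b r))
      = ∑ r, ∑ j, f (algebraMap (ZMod p) L (Algebra.trace (ZMod p) L (c * τ (b r) * b j))) *
          (f (d r) * s * f (d j)) := by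
        refine sum_congr rfl fun r _ => ?_
        conv_lhs => rw [expand_dual (p := p) (c * τ (b r))]
        rw [map_sum, mul_sum]
        refine sum_congr rfl fun j _ => ?_
        rw [map_smul', ← mul_assoc, ← cast_commute f _ (f (d r) * s), mul_assoc]
    _ = ∑ j, f (∑ r, Algebra.trace (ZMod p) L (τ⁻¹ (c * b j) * b r) • d r) * s * f (d j) := by
        rw [sum_comm]
        refine sum_congr rfl fun j _ => ?_
        rw [map_sum, sum_mul, sum_mul]
        refine sum_congr rfl fun r _ => ?_
        rw [map_smul', htr]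
        simp only [mul_assoc]
    _ = ∑ j, f (τ⁻¹ (c * b j)) * s * f (d j) := by
        refine sum_congr rfl fun j _ => ?_
        rw [← expand_dual (p := p) (τ⁻¹ (c * b j))]
    _ = f (τ⁻¹ c) * P f τ⁻¹ s := by
        simp only [P, mul_sum, map_mul, mul_assoc, hb, hd]

theorem Tw.mul {σ τ : L ≃ₐ[ZMod p] L} {x y : E} (hx : Tw f σ x) (hy : Tw f τ y) : Tw f (σ * τ) (x * y) :=
  fun l => by
    rw [mul_assoc, hy l, ← mul_assoc, hx (τ l), mul_assoc]
    rfl

theorem tw_one : Tw f (1 : L ≃ₐ[ZMod p] L) (1 : E) := fun l => by simp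

theorem Tw.pow {τ : L ≃ₐ[ZMod p] L} {x : E} (hx : Tw f τ x) : ∀ n : ℕ, Tw f (τ ^ n) (x ^ n)
  | 0 => by rw [pow_zero, pow_zero]; exact tw_one f
  | n + 1 => by rw [pow_succ, pow_succ]; exact (Tw.pow hx n).mul f hx

theorem Tw.smul {τ : L ≃ₐ[ZMod p] L} {x : E} (hx : Tw f τ x) (k : L) : Tw f τ (f k * x) := fun l => by
  rw [mul_assoc, hx l, ← mul_assoc, ← map_mul, mul_comm k, map_mul, mul_assoc]

theorem pow_smul_pow {τ : L ≃ₐ[ZMod p] L} {A : E} (hA : Tw f τ A) (k : L) :
    ∀ n : ℕ, (f k * A) ^ n = f (∏ j ∈ range n, (τ ^ j) k) * A ^ n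
  | 0 => by simp
  | n + 1 => by
    rw [pow_succ, pow_smul_pow hA k n, pow_succ A, prod_range_succ, map_mul]
    calc f (∏ j ∈ range n, (τ ^ j) k) * A ^ n * (f k * A)
        = f (∏ j ∈ range n, (τ ^ j) k) * (A ^ n * f k) * A := by simp only [mul_assoc]
      _ = _ := by rw [hA.pow f n k]; simp only [mul_assoc]

end Components

/-- A semilinear map with scalar norm has an eigenvector. -/
theorem exists_eigen {U : Type*} [AddCommGroup U] (f : L →+* AddMonoid.End U) {τ : L ≃ₐ[ZMod p] L}
    {A : AddMonoid.End U} (hA : Tw f τ A) (N : AddSubgroup U) (hAN : ∀ u ∈ N, A u ∈ N)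
    (hLN : ∀ l, ∀ u ∈ N, f l u ∈ N) {u₀ : U} (hu₀ : u₀ ∈ N) (hne : u₀ ≠ 0) {κ : L} (hκ : τ κ = κ)
    (hκ0 : κ ≠ 0) (he : (A ^ orderOf τ) u₀ = f κ u₀) : ∃ m ∈ N, m ≠ 0 ∧ ∃ l : L, A m = f l m := by
  classical
  obtain ⟨l, hl⟩ := exists_norm τ hκ
  set e := orderOf τ with he'
  have hl0 : l ≠ 0 := by
    rintro rfl
    refine hκ0 (hl.symm.trans (prod_eq_zero (mem_range.2 (orderOf_pos τ)) ?_ : ∏ j ∈ range e, (τ ^ j) (0 : L) = 0))
    simp
  set B := f l⁻¹ * A with hB
  have hBN : ∀ u ∈ N, B u ∈ N := fun u hu => hLN _ _ (hAN u hu)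
  have hBtw : Tw f τ B := hA.smul f _
  have hBe : (B ^ e) u₀ = u₀ := by
    rw [hB, pow_smul_pow f hA]
    show f (∏ j ∈ range e, (τ ^ j) l⁻¹) ((A ^ e) u₀) = u₀
    rw [he]
    show (f (∏ j ∈ range e, (τ ^ j) l⁻¹) * f κ) u₀ = u₀
    rw [← map_mul, ← hl, ← prod_mul_distrib, prod_eq_one, map_one]
    · rfl
    · intro j _
      rw [← map_mul, inv_mul_cancel₀ hl0, map_one]
  let Φ : L → U := fun k => ∑ j ∈ range e, (B ^ j) (f k u₀)
  have hΦN : ∀ k, Φ k ∈ N := fun k => by
    refine sum_mem fun j _ => ?_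
    clear * - hBN hLN hu₀
    induction j with
    | zero => exact hLN _ _ hu₀
    | succ n ih => rw [pow_succ']; exact hBN _ ih
  have hΦB : ∀ k, B (Φ k) = Φ k := by
    intro k
    have h1 : (B ^ e) (f k u₀) = f k u₀ := by
      have := congrArg (fun g : AddMonoid.End U => g u₀) (hBtw.pow f e k)
      change (B ^ e) (f k u₀) = f ((τ ^ e) k) ((B ^ e) u₀) at this
      rw [show (τ ^ e) k = k by rw [pow_orderOf_eq_one]; rfl] at this
      calc (B ^ e) (f k u₀) = f k ((B ^ e) u₀) := this
        _ = _ := by rw [hBe]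
    show B (∑ j ∈ range e, (B ^ j) (f k u₀)) = ∑ j ∈ range e, (B ^ j) (f k u₀)
    rw [map_sum]
    have h2 := sum_range_succ (fun j => (B ^ j) (f k u₀)) e
    have h3 := sum_range_succ' (fun j => (B ^ j) (f k u₀)) e
    simp only [pow_zero, h1] at h2 h3
    rw [h2, show (1 : AddMonoid.End U) (f k u₀) = f k u₀ from rfl] at h3
    calc ∑ j ∈ range e, B ((B ^ j) (f k u₀)) = ∑ j ∈ range e, (B ^ (j + 1)) (f k u₀) :=
          sum_congr rfl fun j _ => by rw [pow_succ']; rfl
      _ = _ := (add_right_cancel h3).symm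
  by_cases hall : ∀ k, Φ k = 0
  · exfalso
    apply hne
    have : ∑ r, f (bas (p := p) (L := L) r) (Φ (dual (p := p) (L := L) r)) = u₀ := by
      simp only [Φ, map_sum]
      rw [sum_comm]
      calc ∑ j ∈ range e, ∑ r, f (bas (p := p) (L := L) r) ((B ^ j) (f (dual (p := p) (L := L) r) u₀))
          = ∑ j ∈ range e, ∑ r,
              f ((1 : L ≃ₐ[ZMod p] L) (bas (p := p) (L := L) r) * (τ ^ j) (dual (p := p) (L := L) r)) ((B ^ j) u₀) := by
            refine sum_congr rfl fun j _ => sum_congr rfl fun r _ => ?_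
            have := congrArg (fun g : AddMonoid.End U => g u₀) (hBtw.pow f j (dual (p := p) (L := L) r))
            change (B ^ j) (f (dual (p := p) (L := L) r) u₀) =
              f ((τ ^ j) (dual (p := p) (L := L) r)) ((B ^ j) u₀) at this
            rw [map_mul, AlgEquiv.one_apply, this]
            rfl
        _ = ∑ j ∈ range e, f (if (1 : L ≃ₐ[ZMod p] L) = τ ^ j then 1 else 0) ((B ^ j) u₀) := by
            refine sum_congr rfl fun j _ => ?_
            rw [← ortho, map_sum]
            exact (AddMonoidHom.finsetSum_apply _ _ _).symm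
        _ = u₀ := by
            rw [sum_eq_single_of_mem 0 (mem_range.2 (orderOf_pos τ))]
            · simp
            · intro j hj hj0
              rw [if_neg fun h => hj0 ?_, map_zero]
              · rfl
              · exact Nat.eq_zero_of_dvd_of_lt (orderOf_dvd_of_pow_eq_one h.symm) (mem_range.1 hj)
    rw [← this]
    simp [hall]
  · push Not at hall
    obtain ⟨k, hk⟩ := hall
    refine ⟨Φ k, hΦN k, hk, l, ?_⟩
    have h := hΦB k
    calc A (Φ k) = (f l * B) (Φ k) := by
          rw [hB, ← mul_assoc, ← map_mul, mul_inv_cancel₀ hl0, map_one, one_mul]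
      _ = f l (B (Φ k)) := rfl
      _ = _ := by rw [h]

end CfsgLib.LocalEven.RankOneFF.Twist
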